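import Cfsg.Agent.Lib.M23Nse.Step

/-!
# The components are the points of a Steiner system

The 23 components carry the 253 points as blocks of seven, two blocks meeting in at most three, so
every four components lie in exactly one block.
-/

set_option autoImplicit false
set_option linter.unusedSectionVars false
set_option linter.style.haveILetI false

namespace CfsgLib.M23Nse

open Subgroup MulAction
open scoped Pointwise

universe u

variable {G : Type u} [Group G]

namespace Near

variable {h : Heptad G} (n : Near h) [Finite G] (ff : FarFacts n)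
  (hker : ∀ P, Nat.card (h.ker P) = 16) (h8 : h.NoEight)
include ff hker h8

theorem inComp_edge {f e d : h.Flag} (he : n.InComp f e) (hd : n.Edge e d) : n.InComp f d := by
  rcases he with rfl | he | ⟨k, h1, h2, h3⟩
  · exact Or.inr (Or.inl hd)
  · by_cases hdf : d = f
    · exact Or.inl hdf
    · exact Or.inr (Or.inr ⟨e, he, hd, hdf⟩)
  · exact n.third_step ff hker h8 h1 h2 h3 hd

theorem inComp_trans {f e d : h.Flag} (he : n.InComp f e) (hd : n.InComp e d) :
    n.InComp f d := by
  rcases hd with rfl | hd | ⟨k, h1, h2, -⟩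
  · exact he
  · exact n.inComp_edge ff hker h8 he hd
  · exact n.inComp_edge ff hker h8 (n.inComp_edge ff hker h8 he h1) h2

theorem inComp_symm {f e : h.Flag} (he : n.InComp f e) : n.InComp e f := by
  rcases he with rfl | he | ⟨k, h1, h2, -⟩
  · exact n.inComp_refl e
  · exact Or.inr (Or.inl (n.symm _ _ he))
  · exact n.inComp_edge ff hker h8 (Or.inr (Or.inl (n.symm _ _ h2))) (n.symm _ _ h1)

/-- The labels of a point in the same component as a label of another point are at most three. -/
theorem card_shared (hfib : ∀ P, Nat.card {f : h.Flag // h.pt f = P} = 7) {P Q : h.Pt}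
    (hPQ : P ≠ Q) :
    Nat.card {a : h.Flag // h.pt a = P ∧ ∃ b, h.pt b = Q ∧ n.InComp a b} ≤ 3 := by
  classical
  by_cases hab : ∃ a b, h.pt a = P ∧ h.pt b = Q ∧ n.Edge a b
  · obtain ⟨a0, b0, ha0, hb0, he0⟩ := hab
    refine le_trans (Finite.card_le_one_iff_subsingleton.2 ⟨fun x y => Subtype.ext ?_⟩) (by norm_num)
    suffices ∀ a, h.pt a = P → (∃ b, h.pt b = Q ∧ n.InComp a b) → a = a0 by
      rw [this x.1 x.2.1 x.2.2, this y.1 y.2.1 y.2.2]
    rintro a ha ⟨b, hb, rfl | he | hf⟩
    · exact absurd (ha.symm.trans hb) hPQ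
    · exact (n.unique a a0 b b0 he he0 (ha.trans ha0.symm) (hb.trans hb0.symm)).1
    · exact absurd he0 ((n.far_of_mem_far2 ff hf).2 a0 b0 (ha0.trans ha.symm) (hb0.trans hb.symm))
  · have hfar : h.Far n.Edge P Q := ⟨hPQ, fun a b ha hb he => hab ⟨a, b, ha, hb, he⟩⟩
    rw [← ff.triple P Q hfar]
    have hsub : ∀ a, (h.pt a = P ∧ ∃ b, h.pt b = Q ∧ n.InComp a b) →
        (h.pt a = P ∧ h.Two n.Edge a Q) := by
      rintro a ⟨ha, b, hb, rfl | he | ⟨k, h1, h2, -⟩⟩
      · exact absurd (ha.symm.trans hb) hPQ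
      · exact absurd ⟨a, b, ha, hb, he⟩ hab
      · exact ⟨ha, k, b, h1, h2, hb⟩
    exact Nat.card_le_card_of_injective
      (Subtype.map id hsub) (Subtype.map_injective _ Function.injective_id)

/-- The components as the points of a Steiner system that the group respects. -/
theorem exists_steiner (hF : Facts G) (hfib : ∀ P, Nat.card {f : h.Flag // h.pt f = P} = 7) :
    ∃ (V : Type u) (_ : Fintype V) (_ : DecidableEq V) (B : Set (Finset V))
      (φ : G →* Cfsg.setSystemAut B),
      Fintype.card V = 23 ∧ Cfsg.IsSteinerSystem 4 7 B ∧ Function.Injective φ := by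
  classical
  letI := Fintype.ofFinite h.Flag
  letI := Fintype.ofFinite h.Pt
  let R : Setoid h.Flag := ⟨n.InComp, ⟨n.inComp_refl, fun e => n.inComp_symm ff hker h8 e,
    fun e e' => n.inComp_trans ff hker h8 e e'⟩⟩
  let cl : h.Flag → Quotient R := Quotient.mk R
  have hcl : ∀ a b, cl a = cl b ↔ n.InComp a b := fun a b => Quotient.eq
  letI : SMul G (Quotient R) :=
    ⟨fun g => Quotient.map (fun f => g • f) fun a b e => n.inComp_smul g e⟩
  have hsmul : ∀ (g : G) a, g • cl a = cl (g • a) := fun g a => rfl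
  letI : MulAction G (Quotient R) :=
    { one_smul := fun x => Quotient.inductionOn x fun a => by
        show (1 : G) • cl a = cl a
        rw [hsmul, one_smul]
      mul_smul := fun g g' x => Quotient.inductionOn x fun a => by
        show (g * g') • cl a = g • g' • cl a
        rw [hsmul, hsmul, hsmul, mul_smul] }
  letI := Fintype.ofFinite (Quotient R)
  -- sizes
  have hPt : Nat.card h.Pt = 253 := by
    have hN : Nat.card h.N = 40320 := h.card_N
    have := Subgroup.card_eq_card_quotient_mul_card_subgroup h.N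
    rw [hF.card, hN] at this
    show Nat.card (G ⧸ h.N) = 253
    omega
  have hFlag : Nat.card h.Flag = 1771 := by
    rw [Nat.card_congr (Equiv.sigmaFiberEquiv h.pt).symm, Nat.card_sigma,
      Finset.sum_congr rfl fun P _ => hfib P, Finset.sum_const, Finset.card_univ,
      ← Nat.card_eq_fintype_card, hPt]
    rfl
  have hV : Fintype.card (Quotient R) = 23 := by
    have := Nat.card_congr (Equiv.sigmaFiberEquiv cl).symm
    rw [hFlag, Nat.card_sigma, Finset.sum_congr rfl fun x _ =>
      (show Nat.card {a // cl a = x} = 77 from Quotient.inductionOn x fun f => by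
        rw [← n.card_inComp ff f]
        exact Nat.card_congr (Equiv.subtypeEquivRight fun a => (hcl a f).trans
          ⟨n.inComp_symm ff hker h8, n.inComp_symm ff hker h8⟩)),
      Finset.sum_const, Finset.card_univ] at this
    simp only [smul_eq_mul] at this
    omega
  -- blocks
  let blk : h.Pt → Finset (Quotient R) := fun P =>
    ((Finset.univ.filter fun f => h.pt f = P).image cl)
  have hblk : ∀ P x, x ∈ blk P ↔ ∃ a, h.pt a = P ∧ cl a = x := fun P x => by simp [blk]
  have hinjF : ∀ a b, h.pt a = h.pt b → cl a = cl b → a = b := fun a b e e' =>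
    n.inComp_pt_inj ff (n.inComp_refl a) ((hcl a b).1 e') e
  have h7 : ∀ P, (blk P).card = 7 := fun P => by
    rw [Finset.card_image_of_injOn, ← hfib P, Nat.card_eq_fintype_card, Fintype.card_subtype]
    intro a ha b hb e
    simp only [Finset.coe_filter, Finset.mem_univ, true_and, Set.mem_ofPred_eq] at ha hb
    exact hinjF a b (ha.trans hb.symm) e
  have hmeet : ∀ P Q, P ≠ Q → (blk P ∩ blk Q).card ≤ 3 := fun P Q hPQ => by
    refine le_trans ?_ (n.card_shared ff hker h8 hfib hPQ)
    rw [← Nat.card_eq_finsetCard]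
    have hsel : ∀ x : ↥(blk P ∩ blk Q),
        ∃ a : {a : h.Flag // h.pt a = P ∧ ∃ b, h.pt b = Q ∧ n.InComp a b}, cl a.1 = x.1 := fun x => by
      obtain ⟨hx, hy⟩ := Finset.mem_inter.1 x.2
      obtain ⟨a, ha, hax⟩ := (hblk _ _).1 hx
      obtain ⟨b, hb, hbx⟩ := (hblk _ _).1 hy
      exact ⟨⟨a, ha, b, hb, (hcl a b).1 (hax.trans hbx.symm)⟩, hax⟩
    choose S hS using hsel
    exact Nat.card_le_card_of_injective S fun x y e =>
      Subtype.ext (by rw [← hS x, ← hS y, e])
  have hdisj : ∀ P ∈ (Finset.univ : Finset h.Pt), ∀ Q ∈ (Finset.univ : Finset h.Pt), P ≠ Q →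
      Disjoint ((blk P).powersetCard 4) ((blk Q).powersetCard 4) := fun P _ Q _ hPQ =>
    Finset.disjoint_left.2 fun s hs hs' => by
      rw [Finset.mem_powersetCard] at hs hs'
      have := (Finset.card_le_card (Finset.subset_inter hs.1 hs'.1)).trans (hmeet P Q hPQ)
      omega
  have hall : Finset.univ.biUnion (fun P => (blk P).powersetCard 4) =
      (Finset.univ : Finset (Quotient R)).powersetCard 4 := by
    refine Finset.eq_of_subset_of_card_le (fun s hs => ?_) (le_of_eq ?_)
    · obtain ⟨P, -, hP⟩ := Finset.mem_biUnion.1 hs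
      exact Finset.mem_powersetCard.2
        ⟨Finset.subset_univ _, (Finset.mem_powersetCard.1 hP).2⟩
    · rw [Finset.card_biUnion hdisj, Finset.sum_congr rfl fun P _ =>
        (Finset.card_powersetCard 4 (blk P)).trans (by rw [h7 P]), Finset.sum_const,
        Finset.card_univ, Finset.card_powersetCard, Finset.card_univ, hV,
        ← Nat.card_eq_fintype_card, hPt]
      decide
  let B : Set (Finset (Quotient R)) := Set.range blk
  have hB : Cfsg.IsSteinerSystem 4 7 B := by
    refine ⟨by rintro _ ⟨P, rfl⟩; exact h7 P, fun s hs => ?_⟩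
    obtain ⟨P, -, hP⟩ := Finset.mem_biUnion.1
      (hall ▸ Finset.mem_powersetCard.2 ⟨Finset.subset_univ s, hs⟩ :
        s ∈ Finset.univ.biUnion fun P => (blk P).powersetCard 4)
    refine ⟨blk P, ⟨⟨P, rfl⟩, (Finset.mem_powersetCard.1 hP).1⟩, ?_⟩
    rintro _ ⟨⟨Q, rfl⟩, hsQ⟩
    by_contra hne
    exact Finset.disjoint_left.1 (hdisj Q (Finset.mem_univ _) P (Finset.mem_univ _)
      (fun e => hne (by rw [e]))) (Finset.mem_powersetCard.2 ⟨hsQ, hs⟩) hP
  have hmove : ∀ (g : G) P,
      (MulAction.toPerm g : Equiv.Perm (Quotient R)) • blk P = blk (g • P) := fun g P => by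
    ext x
    rw [Finset.mem_smul_finset, hblk]
    constructor
    · rintro ⟨y, hy, rfl⟩
      obtain ⟨a, ha, rfl⟩ := (hblk _ _).1 hy
      exact ⟨g • a, by rw [h.pt_smul, ha], (hsmul g a).symm⟩
    · rintro ⟨a, ha, rfl⟩
      refine ⟨cl (g⁻¹ • a), (hblk _ _).2 ⟨g⁻¹ • a, ?_, rfl⟩, ?_⟩
      · rw [h.pt_smul, ha, inv_smul_smul]
      · show g • cl (g⁻¹ • a) = cl a
        rw [hsmul, smul_inv_smul]
  have hmem : ∀ g : G, MulAction.toPermHom G (Quotient R) g ∈ Cfsg.setSystemAut B := fun g => by
    rw [mem_stabilizer_iff]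
    refine Set.ext fun s => ⟨?_, ?_⟩
    · rintro ⟨_, ⟨P, rfl⟩, rfl⟩
      exact ⟨g • P, (hmove g P).symm⟩
    · rintro ⟨P, rfl⟩
      refine ⟨blk (g⁻¹ • P), ⟨_, rfl⟩, ?_⟩
      show (MulAction.toPerm g : Equiv.Perm (Quotient R)) • blk (g⁻¹ • P) = blk P
      rw [hmove, smul_inv_smul]
  refine ⟨Quotient R, inferInstance, inferInstance, B,
    (MulAction.toPermHom G (Quotient R)).codRestrict _ hmem, hV, hB, ?_⟩
  have hinj : Function.Injective (MulAction.toPermHom G (Quotient R)) := by
    rw [← MonoidHom.ker_eq_bot_iff]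
    haveI := hF.simple
    rcases IsSimpleGroup.eq_bot_or_eq_top_of_normal _
      (MonoidHom.normal_ker (MulAction.toPermHom G (Quotient R))) with hk | hk
    · exact hk
    exfalso
    have hss : Subsingleton (Quotient R) := ⟨fun x y => Quotient.inductionOn₂ x y fun a b => by
      obtain ⟨g, rfl⟩ := MulAction.exists_smul_eq G a b
      have hg : MulAction.toPermHom G (Quotient R) g = 1 :=
        MonoidHom.mem_ker.1 (hk ▸ Subgroup.mem_top g)
      exact ((hsmul g a).symm.trans (Equiv.ext_iff.1 hg (cl a))).symm⟩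
    have := Fintype.card_le_one_iff_subsingleton.2 hss
    omega
  exact fun a b e => hinj (congrArg Subtype.val e)

end Near

end CfsgLib.M23Nse
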