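import Cfsg.Agent.Lib.M23Nse.Points

/-!
# The component of a flag under the edges of the orbit of length 112

Two steps from a flag end in a label that does not depend on the middle, and a third step leads back
to a flag at distance at most two, so a component has `1 + 16 + 60` flags, no two over one point.
-/

set_option autoImplicit false
set_option linter.unusedSectionVars false
set_option linter.style.haveILetI false

namespace CfsgLib.M23Nse

open Subgroup MulAction

universe u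

variable {G : Type u} [Group G]

namespace Heptad

variable {h : Heptad G}

theorem mem_ker_iff {P : h.Pt} {r : G} :
    r ∈ h.ker P ↔ r • P = P ∧ ∀ f, h.pt f = P → r • f = f := by
  simp [Heptad.ker, Subgroup.mem_iInf, mem_stabilizer_iff]

theorem conj_mem_ker' {P Q : h.Pt} {g : G} (hg : g • P = Q) {r : G} (hr : r ∈ h.ker P) :
    g * r * g⁻¹ ∈ h.ker Q := by
  rw [mem_ker_iff] at hr ⊢
  subst hg
  refine ⟨by rw [mul_smul, mul_smul, inv_smul_smul, hr.1], fun f hf => ?_⟩
  rw [mul_smul, mul_smul, hr.2 (g⁻¹ • f) (by rw [h.pt_smul, hf, inv_smul_smul]), smul_inv_smul]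

end Heptad

namespace Near

variable {h : Heptad G} (n : Near h)

theorem far_symm {P Q : h.Pt} (hf : h.Far n.Edge P Q) : h.Far n.Edge Q P :=
  ⟨hf.1.symm, fun a b ha hb he => hf.2 b a hb ha (n.symm a b he)⟩

theorem disj_one {f k : h.Flag} (e : n.Edge f k) {r : G} (hr : r ∈ h.ker (h.pt f))
    (hk : r • h.pt k = h.pt k) : r = 1 := by
  have : r ∈ (⊥ : Subgroup G) := n.disj f k e ▸ ⟨hr, hk⟩
  simpa using this

/-- the ends of the two-step paths from a flag -/
def far2 (f : h.Flag) : Set h.Flag := {c | ∃ k, n.Edge f k ∧ n.Edge k c ∧ c ≠ f}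

/-- at most two steps from a flag -/
def InComp (f e : h.Flag) : Prop := e = f ∨ n.Edge f e ∨ e ∈ n.far2 f

theorem inComp_refl (f : h.Flag) : n.InComp f f := Or.inl rfl

theorem inComp_smul (g : G) {f e : h.Flag} (he : n.InComp f e) : n.InComp (g • f) (g • e) := by
  rcases he with rfl | he | ⟨k, h1, h2, h3⟩
  · exact Or.inl rfl
  · exact Or.inr (Or.inl (n.smul g _ _ he))
  · exact Or.inr (Or.inr ⟨g • k, n.smul g _ _ h1, n.smul g _ _ h2,
      fun e' => h3 (smul_left_cancel g e')⟩)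

variable [Finite G] (ff : FarFacts n)
include ff

theorem far_of_mem_far2 {f c : h.Flag} (hc : c ∈ n.far2 f) :
    h.Far n.Edge (h.pt f) (h.pt c) :=
  let ⟨k, h1, h2, h3⟩ := hc
  ff.two_far f k c h1 h2 h3

/-- The end of a two-step path is fixed by the start and the point of the end. -/
theorem end_unique {f k c k' c' : h.Flag} (h1 : n.Edge f k) (h2 : n.Edge k c) (hc : c ≠ f)
    (h1' : n.Edge f k') (h2' : n.Edge k' c') (hp : h.pt c = h.pt c') : c = c' := by
  have hfar := ff.two_far f k c h1 h2 hc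
  let W : Subgroup G := h.ker (h.pt f) ⊓ stabilizer G (h.pt c)
  have hW : ∀ w : W, (w : G) • f = f ∧ (w : G) • c = c := fun w =>
    ⟨(Heptad.mem_ker_iff.1 w.2.1).2 f rfl, ff.ker_fix c (h.pt f) (n.far_symm hfar)
      ⟨k, f, n.symm _ _ h2, n.symm _ _ h1, rfl⟩ w.2⟩
  let M := {l : h.Flag // n.Edge f l ∧ ∃ e, n.Edge l e ∧ h.pt e = h.pt c}
  let F : W → M := fun w => ⟨(w : G) • k, by simpa [(hW w).1] using n.smul (w : G) f k h1,
    c, by simpa [(hW w).2] using n.smul (w : G) k c h2, rfl⟩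
  have hinj : Function.Injective F := fun v w e => by
    have e' : (v : G) • k = (w : G) • k := congrArg Subtype.val e
    have hm : (v⁻¹ * w : W).1 • h.pt k = h.pt k := by
      rw [← h.pt_smul]
      congr 1
      simp [mul_smul, ← e']
    have := n.disj_one h1 (v⁻¹ * w).2.1 hm
    exact Subtype.ext (by simpa [inv_mul_eq_one] using this)
  obtain ⟨w, hw⟩ := ((Nat.bijective_iff_injective_and_card F).2 ⟨hinj, by
    rw [show Nat.card W = 4 from ff.ker_card _ _ hfar,
      show Nat.card M = 4 from ff.mid f _ hfar ⟨k, c, h1, h2, rfl⟩]⟩).2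
    ⟨k', h1', c', h2', hp.symm⟩
  have hwk : (w : G) • k = k' := congrArg Subtype.val hw
  have h3 := n.smul (w : G) k c h2
  rw [hwk, (hW w).2] at h3
  exact n.inj k' c c' h3 h2' hp

/-- Whatever fixes a flag and the point of an end of a two-step path fixes that end. -/
theorem path_fix {f k c : h.Flag} (h1 : n.Edge f k) (h2 : n.Edge k c) (hc : c ≠ f) {g : G}
    (hgf : g • f = f) (hgc : g • h.pt c = h.pt c) : g • c = c := by
  refine (n.end_unique ff h1 h2 hc (k' := g • k) (c' := g • c) ?_ (n.smul g k c h2) ?_).symm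
  · simpa [hgf] using n.smul g f k h1
  · rw [h.pt_smul, hgc]

theorem card_middles {f c : h.Flag} (hc : c ∈ n.far2 f) :
    Nat.card {k : h.Flag // n.Edge f k ∧ n.Edge k c} = 4 := by
  obtain ⟨k, h1, h2, h3⟩ := hc
  have hfar := ff.two_far f k c h1 h2 h3
  rw [← ff.mid f _ hfar ⟨k, c, h1, h2, rfl⟩]
  refine Nat.card_congr (Equiv.subtypeEquivRight fun l => and_congr_right fun hl =>
    ⟨fun e => ⟨c, e, rfl⟩, fun ⟨e, he, hp⟩ => ?_⟩)
  rwa [n.end_unique ff h1 h2 h3 hl he hp.symm]

theorem card_far2 (f : h.Flag) : Nat.card (n.far2 f) = 60 := by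
  classical
  letI := Fintype.ofFinite h.Flag
  have e : (Σ k : {k // n.Edge f k}, {c // n.Edge k.1 c ∧ c ≠ f}) ≃
      (Σ c : n.far2 f, {k // n.Edge f k ∧ n.Edge k c.1}) :=
    { toFun := fun p => ⟨⟨p.2.1, p.1.1, p.1.2, p.2.2.1, p.2.2.2⟩, p.1.1, p.1.2, p.2.2.1⟩
      invFun := fun p => ⟨⟨p.2.1, p.2.2.1⟩, p.1.1, p.2.2.2,
        fun e => (n.far_of_mem_far2 ff p.1.2).1 (congrArg h.pt e).symm⟩
      left_inv := fun p => rfl
      right_inv := fun p => rfl }
  have h15 : ∀ k : {k // n.Edge f k}, Nat.card {c // n.Edge k.1 c ∧ c ≠ f} = 15 := fun k => by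
    have h16 := n.card16 k.1
    rw [← Set.coe_ofPred, Nat.card_coe_set_eq] at h16 ⊢
    rw [show {c | n.Edge k.1 c ∧ c ≠ f} = {c | n.Edge k.1 c} \ {f} from rfl,
      Set.ncard_sdiff_singleton_of_mem (show f ∈ {c | n.Edge k.1 c} from n.symm _ _ k.2), h16]
  have hc := Nat.card_congr e
  rw [Nat.card_sigma, Nat.card_sigma, Finset.sum_congr rfl fun k _ => h15 k,
    Finset.sum_congr rfl fun c _ => n.card_middles ff c.2, Finset.sum_const, Finset.sum_const,
    Finset.card_univ, Finset.card_univ, ← Nat.card_eq_fintype_card, ← Nat.card_eq_fintype_card,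
    n.card16] at hc
  simp only [smul_eq_mul] at hc
  omega

theorem inComp_pt_inj {f a b : h.Flag} (ha : n.InComp f a) (hb : n.InComp f b)
    (hp : h.pt a = h.pt b) : a = b := by
  rcases ha with rfl | ha | ha <;> rcases hb with rfl | hb | hb
  · rfl
  · exact absurd hp (n.pt_ne _ _ hb)
  · exact absurd hp (n.far_of_mem_far2 ff hb).1
  · exact absurd hp.symm (n.pt_ne _ _ ha)
  · exact n.inj f a b ha hb hp
  · exact absurd ha ((n.far_of_mem_far2 ff hb).2 f a rfl hp)
  · exact absurd hp.symm (n.far_of_mem_far2 ff ha).1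
  · exact absurd hb ((n.far_of_mem_far2 ff ha).2 f b rfl hp.symm)
  · obtain ⟨k, h1, h2, h3⟩ := ha
    obtain ⟨k', h1', h2', -⟩ := hb
    exact n.end_unique ff h1 h2 h3 h1' h2' hp

theorem card_inComp (f : h.Flag) : Nat.card {e // n.InComp f e} = 77 := by
  classical
  have h16 := n.card16 f
  have h60 := n.card_far2 ff f
  rw [← Set.coe_ofPred, Nat.card_coe_set_eq] at h16 ⊢
  rw [Nat.card_coe_set_eq] at h60
  have hd : Disjoint {e | n.Edge f e} (n.far2 f) := Set.disjoint_left.2 fun e he he' =>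
    (n.far_of_mem_far2 ff he').2 f e rfl rfl he
  rw [show {e | n.InComp f e} = insert f ({e | n.Edge f e} ∪ n.far2 f) from rfl,
    Set.ncard_insert_of_notMem, Set.ncard_union_eq hd, h16, h60]
  rintro (he | he)
  · exact n.pt_ne _ _ he rfl
  · exact (n.far_of_mem_far2 ff he).1 rfl

/-- an element of order three fixing the ends of a two-step path moves no other neighbour of the
end inside its orbit under the elements fixing all labels of the end and the starting point -/
theorem cube_moves {f k c d : h.Flag} (h1 : n.Edge f k) (h2 : n.Edge k c) (hc : c ≠ f)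
    (hd : n.Edge c d) (hfd : ¬ n.Edge f d) {x : G} (hxf : x • f = f) (hxc : x • h.pt c = h.pt c)
    (hx : orderOf x = 3) {u : G} (hu : u ∈ h.ker (h.pt c)) (hup : u • h.pt f = h.pt f) :
    x • d ≠ u • d := by
  intro hxd
  have hfar := ff.two_far f k c h1 h2 hc
  have hxc' := n.path_fix ff h1 h2 hc hxf hxc
  let U : Subgroup G := h.ker (h.pt c) ⊓ stabilizer G (h.pt f)
  have hU : ∀ v ∈ U, x * v * x⁻¹ ∈ U := fun v hv => ⟨Heptad.conj_mem_ker' hxc hv.1, by
    have hxp : x • h.pt f = h.pt f := by rw [← h.pt_smul, hxf]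
    have hxi : x⁻¹ • h.pt f = h.pt f := inv_smul_eq_iff.2 hxp.symm
    show (x * v * x⁻¹) • h.pt f = h.pt f
    rw [mul_smul, mul_smul, hxi, (show v • h.pt f = h.pt f from hv.2), hxp]⟩
  -- a point fixed by an element of order three in a set of four points
  have key : ∀ S : Set h.Flag, Nat.card S = 4 → (∀ e ∈ S, x • e ∈ S) → ∃ e ∈ S, x • e = e := by
    intro S hS hSx
    by_contra hcon
    push Not at hcon
    classical
    letI := Fintype.ofFinite h.Flag
    let σ : Equiv.Perm S := (MulAction.toPerm x).subtypePerm fun e => ⟨fun he => by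
      have h3 : x • x • (x • e) = e := by
        rw [← mul_smul, ← mul_smul, ← pow_three', ← hx, pow_orderOf_eq_one, one_smul]
      exact h3 ▸ hSx _ (hSx _ he), fun he => hSx _ he⟩
    have hσ : σ ^ 3 = 1 := Equiv.ext fun e => Subtype.ext (by
      show x • x • x • (e : h.Flag) = e
      rw [← mul_smul, ← mul_smul, ← pow_three', ← hx, pow_orderOf_eq_one, one_smul])
    haveI : Fact (Nat.Prime 3) := ⟨Nat.prime_three⟩
    obtain ⟨e, he⟩ := Equiv.Perm.exists_fixed_point_of_prime (p := 3) (n := 1) (σ := σ)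
      (by rw [← Nat.card_eq_fintype_card, hS]; decide) (by simpa using hσ)
    exact hcon e.1 e.2 (congrArg Subtype.val he)
  obtain ⟨k0, ⟨hfk0, hk0c⟩, hxk0⟩ := key {l | n.Edge f l ∧ n.Edge l c}
    (n.card_middles ff ⟨k, h1, h2, hc⟩) fun l hl =>
      ⟨hxf ▸ n.smul x f l hl.1, hxc' ▸ n.smul x l c hl.2⟩
  have hUc : ∀ v ∈ U, v • c = c ∧ v • f = f := fun v hv =>
    ⟨(Heptad.mem_ker_iff.1 hv.1).2 c rfl, ff.ker_fix f (h.pt c) hfar ⟨k, c, h1, h2, rfl⟩ hv⟩
  have hcard : Nat.card (Set.range fun v : U => (v : G) • d) = 4 := by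
    rw [Nat.card_range_of_injective, show Nat.card U = 4 from ff.ker_card _ _ (n.far_symm hfar)]
    intro v w e
    have hm : (v⁻¹ * w : U).1 • h.pt d = h.pt d := by
      rw [← h.pt_smul]
      congr 1
      simp [mul_smul, ← (show (v : G) • d = (w : G) • d from e)]
    have := n.disj_one hd (v⁻¹ * w).2.1 hm
    exact Subtype.ext (by simpa [inv_mul_eq_one] using this)
  obtain ⟨e, ⟨v, rfl⟩, he⟩ := key _ hcard (by
    rintro _ ⟨v, rfl⟩
    refine ⟨⟨x * v * x⁻¹ * u, U.mul_mem (hU v v.2) ⟨hu, hup⟩⟩, ?_⟩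
    simp [mul_smul, ← hxd])
  obtain ⟨r, hr, hre⟩ := n.torsor c k0 ((v : G) • d) (n.symm _ _ hk0c)
    ((hUc v v.2).1 ▸ n.smul (v : G) c d hd)
  have hrx : r⁻¹ * (x * r * x⁻¹) = 1 := by
    refine n.disj_one (n.symm _ _ hk0c) (mul_mem (inv_mem hr) (Heptad.conj_mem_ker' hxc hr)) ?_
    rw [← h.pt_smul]
    congr 1
    rw [mul_smul, mul_smul, mul_smul, inv_smul_eq_iff.2 hxk0.symm, hre, he, inv_smul_eq_iff, hre]
  have hr1 : r = 1 := ff.fpf c (h.pt f) (n.far_symm hfar) ⟨k, f, n.symm _ _ h2, n.symm _ _ h1, rfl⟩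
    x ⟨hxc', show x • h.pt f = h.pt f by rw [← h.pt_smul, hxf]⟩ hx r hr
    (by rw [inv_mul_eq_one, eq_mul_inv_iff_mul_eq] at hrx; exact hrx.symm)
  refine hfd ?_
  have h' := n.smul (v : G)⁻¹ f k0 hfk0
  rwa [inv_smul_eq_iff.2 (hUc v v.2).2.symm, show k0 = (v : G) • d by rw [← hre, hr1, one_smul],
    inv_smul_smul] at h'

end Near

end CfsgLib.M23Nse
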