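import Mathlib

/-!
# S3595, piece A1: the arithmetic search

The numbers of elements of the orders `2 ^ a * 3 ^ b` are divisor closed, satisfy the congruences of
Frobenius and fill, with those of the orders ten and thirty, what the primes leave free.
-/

set_option autoImplicit false

namespace CfsgLib.M23Nse.CountsA1

/-- the orders of the form `2 ^ a * 3 ^ b` above three, divisors first -/
def free : List ℕ :=
  [4, 8, 16, 32, 64, 128, 6, 9, 12, 18, 24, 36, 48, 72, 96, 144, 192, 288, 384, 576, 1152]

/-- the possible numbers -/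
def dom : List ℕ :=
  [0, 56672, 318780, 680064, 850080, 887040, 1275120, 1360128, 1457280, 1854720]

/-- the possible numbers of elements of order ten or thirty -/
def extra : List ℕ := [0, 680064, 1360128, 2040192, 2720256]

/-- what is to be shown -/
def good (c : List (ℕ × ℕ)) : Bool :=
  c.all fun p => [1, 2, 3, 4, 8].contains p.1 ||
    (if p.1 == 6 then p.2 == 850080 else p.2 == 0)

/-- the search -/
def go : List ℕ → List (ℕ × ℕ) → ℕ → Bool
  | [], c, r => !(extra.contains r) || (r == 0 && good c)
  | n :: ns, c, r => (ns.all fun d => n % d != 0) && dom.all fun v =>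
      decide (r < v) || (v != 0 && !(c.all fun p => n % p.1 != 0 || p.2 != 0)) ||
        (((c.filter fun p => n % p.1 == 0).map Prod.snd).sum + v) % n != 0 ||
        go ns (c ++ [(n, v)]) (r - v)

theorem go_ok : go free [(1, 1), (2, 3795), (3, 56672)] 2443980 = true := by decide +kernel

/-- What a family of numbers has to satisfy. -/
structure Ok (f : ℕ → ℕ) (K : List ℕ) : Prop where
  dvd : ∀ d n, d ∣ n → 0 < f n → 0 < f d
  frob : ∀ n ∈ free, n ∣ ((K.filter fun d => n % d == 0).map f).sum

theorem go_sound {f : ℕ → ℕ} {K : List ℕ} (hf : Ok f K) (hdom : ∀ n ∈ free, f n ∈ dom) :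
    ∀ (ns pre : List ℕ) (r : ℕ), (∀ n ∈ ns, n ∈ free) → K = pre ++ ns →
      go ns (pre.map fun d => (d, f d)) r = true → (∃ e ∈ extra, (ns.map f).sum + e = r) →
      good (K.map fun d => (d, f d)) = true ∧ (ns.map f).sum = r := by
  intro ns
  induction ns with
  | nil =>
    intro pre r _ hK hgo he
    obtain ⟨e, he, her⟩ := he
    simp only [List.map_nil, List.sum_nil, zero_add] at her
    subst her
    simp only [go, Bool.or_eq_true, Bool.not_eq_true', Bool.and_eq_true, beq_iff_eq] at hgo
    rcases hgo with h | h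
    · simp only [Bool.eq_false_iff] at h
      exact absurd he (by simpa using h)
    · rw [hK, List.append_nil]
      exact ⟨h.2, by simp [h.1]⟩
  | cons n ns ih =>
    intro pre r hmem hK hgo he
    obtain ⟨e, he, her⟩ := he
    simp only [List.map_cons, List.sum_cons] at her
    rw [go, Bool.and_eq_true] at hgo
    obtain ⟨hlast, hall⟩ := hgo
    have hn := hmem n List.mem_cons_self
    have hv := List.all_eq_true.1 hall (f n) (hdom n hn)
    simp only [Bool.or_eq_true, decide_eq_true_eq] at hv
    rcases hv with ((hv | hv) | hv) | hv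
    · omega
    · exfalso
      simp only [Bool.and_eq_true, bne_iff_ne, ne_eq, Bool.not_eq_true', List.all_eq_false,
        List.mem_map] at hv
      obtain ⟨hv0, p, ⟨d, -, rfl⟩, hp⟩ := hv
      simp only [Bool.or_eq_true, bne_iff_ne, ne_eq, not_or, not_not] at hp
      exact absurd (hf.dvd d n (Nat.dvd_of_mod_eq_zero hp.1) (Nat.pos_of_ne_zero hv0))
        (by omega)
    · exfalso
      have h1 := hf.frob n hn
      have h2 : (K.filter fun d => n % d == 0) = (pre.filter fun d => n % d == 0) ++ [n] := by
        have h3 : (ns.filter fun d => n % d == 0) = [] := List.filter_eq_nil_iff.2 fun d hd => by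
          have := List.all_eq_true.1 hlast d hd
          simpa using this
        rw [hK, List.filter_append, List.filter_cons, if_pos (by simp), h3]
      rw [h2, List.map_append, List.sum_append] at h1
      simp only [List.filter_map, List.map_map, bne_iff_ne, ne_eq] at hv
      apply hv
      refine Nat.mod_eq_zero_of_dvd ?_
      simpa [Function.comp_def] using h1
    · have h1 := ih (pre ++ [n]) (r - f n) (fun m hm => hmem m (List.mem_cons_of_mem n hm))
        (by rw [hK]; simp) (by simpa [List.map_append] using hv) ⟨e, he, by omega⟩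
      refine ⟨h1.1, ?_⟩
      simp only [List.map_cons, List.sum_cons]
      omega

/-- The result of the search. -/
theorem search {f : ℕ → ℕ} (e : ℕ) (h1 : f 1 = 1) (h2 : f 2 = 3795) (h3 : f 3 = 56672)
    (hdvd : ∀ d n, d ∣ n → 0 < f n → 0 < f d) (hdom : ∀ n ∈ free, f n ∈ dom)
    (hfrob : ∀ n ∈ free, n ∣ ((([1, 2, 3] ++ free).filter fun d => n % d == 0).map f).sum)
    (he : e ∈ extra) (hsum : (free.map f).sum + e = 2443980) :
    e = 0 ∧ f 6 = 850080 ∧ ∀ n ∈ free, n ≠ 4 → n ≠ 8 → n ≠ 6 → f n = 0 := by
  have hgo : go free ([1, 2, 3].map fun d => (d, f d)) 2443980 = true := by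
    simpa [h1, h2, h3] using go_ok
  obtain ⟨hgood, hs⟩ := go_sound ⟨hdvd, hfrob⟩ hdom free [1, 2, 3] 2443980 (fun _ h => h) rfl hgo
    ⟨e, he, hsum⟩
  refine ⟨by omega, ?_, fun n hn n4 n8 n6 => ?_⟩
  · have := List.all_eq_true.1 hgood (6, f 6) (List.mem_map.2 ⟨6, by decide, rfl⟩)
    simpa using this
  · have := List.all_eq_true.1 hgood (n, f n)
      (List.mem_map.2 ⟨n, List.mem_append_right _ hn, rfl⟩)
    have h123 : n ≠ 1 ∧ n ≠ 2 ∧ n ≠ 3 := (show ∀ n ∈ free, n ≠ 1 ∧ n ≠ 2 ∧ n ≠ 3 by decide) n hn
    simpa [n4, n8, n6, h123.1, h123.2.1, h123.2.2] using this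

end CfsgLib.M23Nse.CountsA1
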