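import Cfsg.Agent.Lib.M23Nse.Defs
import Cfsg.Agent.Lib.M23Nse.CountsSearch
import Cfsg.Agent.Lib.M22Nse.CountsTools

/-!
# S3595, piece A1: the numbers of elements of each order and the sizes at the large primes
-/

set_option autoImplicit false
set_option linter.unusedSectionVars false
set_option linter.style.haveILetI false

open scoped Classical

namespace CfsgLib.M23Nse.CountsA1

open Subgroup
open CfsgLib.M22Nse.CountsP1 (dvd_centCard card_sylow_eq')

universe u

variable {G : Type u} [Group G] [Finite G]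

theorem cnt_eq_oc (n : ℕ) : cnt G n = CfsgLib.Techniques.OrderClasses.cnt G n := rfl

theorem cnt_pos_iff {n : ℕ} : 0 < cnt G n ↔ ∃ g : G, orderOf g = n :=
  CfsgLib.M22Nse.CountsP1.cnt_pos_iff

theorem cnt_of_dvd {m n : ℕ} (hmn : m ∣ n) (hn : 0 < cnt G n) : 0 < cnt G m :=
  CfsgLib.M22Nse.CountsP1.cnt_of_dvd hmn hn

theorem cnt_prod' {p : ℕ} [Fact p.Prime]
    (hP : ∀ P : Sylow p G, Nat.card (P : Subgroup G) = p) {x : G} (hx : orderOf x = p) {m : ℕ}
    (hpm : p.Coprime m) : cnt G (p * m) = cnt G p * cnt (centralizer ({x} : Set G)) m :=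
  CfsgLib.M22Nse.CountsP1.cnt_prime_prod hP hx hpm

theorem totient_dvd (n : ℕ) : Nat.totient n ∣ cnt G n :=
  CfsgLib.Techniques.OrderClasses.totient_dvd_cnt G n

theorem values (h : Hyp G) (n : ℕ) : cnt G n = 0 ∨ cnt G n = 1 ∨ cnt G n = 3795 ∨
    cnt G n = 56672 ∨ cnt G n = 318780 ∨ cnt G n = 680064 ∨ cnt G n = 850080 ∨ cnt G n = 887040 ∨
    cnt G n = 1275120 ∨ cnt G n = 1360128 ∨ cnt G n = 1457280 ∨ cnt G n = 1854720 := by
  simpa [vals] using h.mem n

theorem succ_mod (h : Hyp G) {p : ℕ} (hp : p.Prime) (hd : p ∣ 10200960) :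
    (cnt G p + 1) % p = 0 := by
  have := CfsgLib.Techniques.OrderClasses.cnt_prime G hp (h.card ▸ hd)
  refine Nat.mod_eq_zero_of_dvd ?_
  rw [← ZMod.natCast_eq_zero_iff, Nat.cast_add, Nat.cast_one, cnt_eq_oc, this, neg_add_cancel]

theorem count_23 (h : Hyp G) : cnt G 23 = 887040 := by
  have := succ_mod h (p := 23) (by norm_num) (by norm_num)
  have := values h 23
  have hd := totient_dvd (G := G) 23
  rw [Nat.totient_prime (by norm_num)] at hd
  omega

theorem count_11 (h : Hyp G) : cnt G 11 = 1854720 := by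
  have := succ_mod h (p := 11) (by norm_num) (by norm_num)
  have := values h 11
  have hd := totient_dvd (G := G) 11
  rw [Nat.totient_prime (by norm_num)] at hd
  omega

theorem count_7 (h : Hyp G) : cnt G 7 = 1457280 := by
  have := succ_mod h (p := 7) (by norm_num) (by norm_num)
  have := values h 7
  have hd := totient_dvd (G := G) 7
  rw [Nat.totient_prime (by norm_num)] at hd
  omega

theorem count_5 (h : Hyp G) : cnt G 5 = 680064 := by
  have := succ_mod h (p := 5) (by norm_num) (by norm_num)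
  have := values h 5
  have hd := totient_dvd (G := G) 5
  rw [Nat.totient_prime (by norm_num)] at hd
  omega

theorem count_3 (h : Hyp G) : cnt G 3 = 56672 := by
  have := succ_mod h (p := 3) (by norm_num) (by norm_num)
  have := values h 3
  have hd := totient_dvd (G := G) 3
  rw [Nat.totient_prime (by norm_num)] at hd
  omega

/-- a prime that divides the order once -/
theorem sylow_card (h : Hyp G) {p m : ℕ} [Fact p.Prime] (hm : 10200960 = p * m) (hp : ¬ p ∣ m) :
    ∀ P : Sylow p G, Nat.card (P : Subgroup G) = p := fun P => by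
  simpa using card_sylow_eq' p m (by rw [h.card, hm]) hp P

/-- the centraliser and the normaliser at such a prime -/
theorem local_eq (h : Hyp G) {p c N : ℕ} [Fact p.Prime]
    (hP : ∀ P : Sylow p G, Nat.card (P : Subgroup G) = p) (hc : cnt G p = c)
    (hN : N * c = 10200960 * (p - 1)) :
    (∀ P : Sylow p G, Nat.card (normalizer ((P : Subgroup G) : Set G)) = N) ∧
      ∀ x : G, orderOf x = p → Nat.card (centralizer ({x} : Set G)) ∣ N := by
  have hp1 : 0 < p - 1 := by have := (Fact.out : p.Prime).two_le; omega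
  have hn : Nat.card (Sylow p G) * (p - 1) = c := by
    rw [← hc, cnt]; exact (CfsgLib.Small.card_orderOf_eq_prime hP).symm
  have hc0 : 0 < c := hn ▸ Nat.mul_pos Nat.card_pos hp1
  have hN' : N * Nat.card (Sylow p G) = Nat.card G := by
    apply Nat.eq_of_mul_eq_mul_right hp1
    rw [mul_assoc, hn, hN, h.card]
  refine ⟨fun P => ?_, fun x hx => ?_⟩
  · have h1 : Nat.card (normalizer ((P : Subgroup G) : Set G)) * Nat.card (Sylow p G) =
        Nat.card G := by
      rw [Sylow.card_eq_index_normalizer P]; exact Subgroup.card_mul_index _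
    exact Nat.eq_of_mul_eq_mul_right Nat.card_pos (h1.trans hN'.symm)
  · obtain ⟨e, -, hmul⟩ := CfsgLib.M22Nse.CountsP1.local_card hP hx
    exact Dvd.intro e (Nat.eq_of_mul_eq_mul_right Nat.card_pos (hmul.trans hN'.symm))

/-- no element of order `p * q` when the count would be too large -/
theorem no_prod (h : Hyp G) {p q : ℕ} [Fact p.Prime] (hq : q.Prime)
    (hP : ∀ P : Sylow p G, Nat.card (P : Subgroup G) = p) {x : G} (hx : orderOf x = p)
    (hpq : p.Coprime q) (hbig : 1854720 < cnt G p * (q - 1)) :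
    ¬ q ∣ Nat.card (centralizer ({x} : Set G)) := by
  intro hd
  haveI := Fact.mk hq
  obtain ⟨y, hy⟩ := exists_prime_orderOf_dvd_card' (G := centralizer ({x} : Set G)) q hd
  have hpos : 0 < cnt (centralizer ({x} : Set G)) q := cnt_pos_iff.2 ⟨y, hy⟩
  have h1 := totient_dvd (G := centralizer ({x} : Set G)) q
  rw [Nat.totient_prime hq] at h1
  have h2 := Nat.le_of_dvd hpos h1
  have h3 := cnt_prod' hP hx hpq
  have h4 := Nat.mul_le_mul_left (cnt G p) h2
  rw [← h3] at h4
  have := values h (p * q)
  omega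

theorem prime_dvd_cent {p : ℕ} {x : G} (hx : orderOf x = p) :
    p ∣ Nat.card (centralizer ({x} : Set G)) :=
  hx ▸ dvd_centCard (Commute.refl x)

theorem cent_23 (h : Hyp G) {x : G} (hx : orderOf x = 23) :
    Nat.card (centralizer ({x} : Set G)) = 23 := by
  haveI : Fact (Nat.Prime 23) := ⟨by norm_num⟩
  have hP := sylow_card h (p := 23) (m := 443520) (by norm_num) (by norm_num)
  have hd := (local_eq h hP (count_23 h) (N := 253) (by norm_num)).2 x hx
  have h11 := no_prod h (q := 11) (by norm_num) hP hx (by norm_num)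
    (by rw [count_23 h]; norm_num)
  have h23 := prime_dvd_cent hx
  refine Nat.dvd_antisymm ?_ h23
  exact (((Nat.Prime.coprime_iff_not_dvd (by norm_num)).2 h11).symm).dvd_of_dvd_mul_left
    (show Nat.card (centralizer ({x} : Set G)) ∣ 11 * 23 by simpa using hd)

theorem cent_11 (h : Hyp G) {x : G} (hx : orderOf x = 11) :
    Nat.card (centralizer ({x} : Set G)) = 11 := by
  haveI : Fact (Nat.Prime 11) := ⟨by norm_num⟩
  have hP := sylow_card h (p := 11) (m := 927360) (by norm_num) (by norm_num)
  have hd := (local_eq h hP (count_11 h) (N := 55) (by norm_num)).2 x hx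
  have h5 := no_prod h (q := 5) (by norm_num) hP hx (by norm_num)
    (by rw [count_11 h]; norm_num)
  refine Nat.dvd_antisymm ?_ (prime_dvd_cent hx)
  exact (((Nat.Prime.coprime_iff_not_dvd (by norm_num)).2 h5).symm).dvd_of_dvd_mul_left
    (show Nat.card (centralizer ({x} : Set G)) ∣ 5 * 11 by simpa using hd)

/-- the order of an element whose order has a prime divisor with known centralizers -/
theorem order_dvd {g : G} {p m : ℕ}
    (hC : ∀ x : G, orderOf x = p → Nat.card (centralizer ({x} : Set G)) ∣ m) (hd : p ∣ orderOf g) :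
    orderOf g ∣ m := by
  obtain ⟨k, hk⟩ := hd
  have hk0 : k ≠ 0 := by rintro rfl; exact (orderOf_pos g).ne' (by simpa using hk)
  have hx : orderOf (g ^ k) = p := by
    rw [orderOf_pow' _ hk0, hk, Nat.gcd_mul_left_left, Nat.mul_div_cancel _ (by omega)]
  exact (dvd_centCard ((Commute.refl g).pow_right k)).trans (hC _ hx)

theorem count_2 (h : Hyp G) : cnt G 2 = 3795 := by
  have h2 := succ_mod h Nat.prime_two (by norm_num)
  have hv := values h 2
  by_contra hne
  have h21 : cnt G 2 = 1 := by omega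
  have hpr : Nat.Prime 23 := by norm_num
  have hm : (cnt G (23 * 2) : ZMod 23) = -(cnt G 2 : ZMod 23) := by
    exact CfsgLib.Techniques.OrderClasses.cnt_mul (G := G) hpr (by norm_num)
      (by rw [h.card]; norm_num)
  rw [h21] at hm
  have hpos : 0 < cnt G (23 * 2) := by
    refine Nat.pos_of_ne_zero fun h0 => ?_
    rw [h0, Nat.cast_zero, Nat.cast_one] at hm
    revert hm; decide
  obtain ⟨g, hg⟩ := cnt_pos_iff.1 hpos
  have := order_dvd (g := g) (p := 23) (m := 23) (fun x hx => (cent_23 h hx).dvd)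
    (by rw [hg]; norm_num)
  rw [hg] at this
  norm_num at this

theorem zmod_seven : (0 : ZMod 7) ≠ -((3795 : ℕ) : ZMod 7) := by decide

theorem cent_7 (h : Hyp G) {x : G} (hx : orderOf x = 7) :
    Nat.card (centralizer ({x} : Set G)) = 14 ∧ cnt G 14 = 1457280 := by
  haveI : Fact (Nat.Prime 7) := ⟨by norm_num⟩
  have hP := sylow_card h (p := 7) (m := 1457280) (by norm_num) (by norm_num)
  have hd := (local_eq h hP (count_7 h) (N := 42) (by norm_num)).2 x hx
  have hm : (cnt G (7 * 2) : ZMod 7) = -(cnt G 2 : ZMod 7) :=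
    CfsgLib.Techniques.OrderClasses.cnt_mul (G := G) (by norm_num) (by norm_num)
      (by rw [h.card]; norm_num)
  have hpos : 0 < cnt G (7 * 2) := by
    refine Nat.pos_of_ne_zero fun h0 => ?_
    rw [h0, count_2 h, Nat.cast_zero] at hm
    exact zmod_seven hm
  have hprod := cnt_prod' hP hx (m := 2) (by norm_num)
  rw [count_7 h] at hprod
  have h14 : cnt G (7 * 2) = 1457280 := by
    have := values h (7 * 2)
    omega
  refine ⟨?_, h14⟩
  have hk : cnt (centralizer ({x} : Set G)) 2 ≠ 0 := fun h0 => by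
    rw [h0, mul_zero] at hprod; omega
  obtain ⟨y, hy⟩ := cnt_pos_iff.1 (Nat.pos_of_ne_zero hk)
  have h2 : 2 ∣ Nat.card (centralizer ({x} : Set G)) := hy ▸ orderOf_dvd_natCard y
  have h3 := no_prod h (q := 3) (by norm_num) hP hx (by norm_num)
    (by rw [count_7 h]; norm_num)
  refine Nat.dvd_antisymm ?_ (Nat.Coprime.mul_dvd_of_dvd_of_dvd (by norm_num : Nat.Coprime 2 7) h2
    (prime_dvd_cent hx))
  exact (((Nat.Prime.coprime_iff_not_dvd (by norm_num)).2 h3).symm).dvd_of_dvd_mul_left
    (show Nat.card (centralizer ({x} : Set G)) ∣ 3 * 14 by simpa using hd)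

theorem cent_5_aux (h : Hyp G) {x : G} (hx : orderOf x = 5) :
    (Nat.card (centralizer ({x} : Set G)) = 15 ∨ Nat.card (centralizer ({x} : Set G)) = 30) ∧
      cnt G 15 = 1360128 ∧ cnt G 10 + cnt G 30 ∈ extra ∧
      (cnt G 10 = 0 → Nat.card (centralizer ({x} : Set G)) = 15) := by
  haveI : Fact (Nat.Prime 5) := ⟨by norm_num⟩
  have hP := sylow_card h (p := 5) (m := 2040192) (by norm_num) (by norm_num)
  obtain ⟨e, he, hmul⟩ := CfsgLib.M22Nse.CountsP1.local_card hP hx
  have hn : Nat.card (Sylow 5 G) * (5 - 1) = 680064 := by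
    rw [← count_5 h, cnt]; exact (CfsgLib.Small.card_orderOf_eq_prime hP).symm
  rw [show Nat.card (Sylow 5 G) = 170016 by omega, h.card] at hmul
  set C := centralizer ({x} : Set G) with hC
  have hCe : Nat.card C * e = 60 :=
    Nat.eq_of_mul_eq_mul_right (by norm_num : 0 < 170016) (hmul.trans (by norm_num))
  have hle : e ≤ 4 := Nat.le_of_dvd (by norm_num) he
  have small : ∀ m, Nat.Coprime 5 m → cnt C m ≤ 2 ∧ cnt G (5 * m) = 680064 * cnt C m := by
    intro m hm
    have h1 := cnt_prod' hP hx hm
    rw [count_5 h, ← hC] at h1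
    have := values h (5 * m)
    exact ⟨by omega, h1⟩
  have hcases : Nat.card C = 15 ∨ Nat.card C = 30 := by
    have : e = 0 ∨ e = 1 ∨ e = 2 ∨ e = 3 ∨ e = 4 := by omega
    rcases this with rfl | rfl | rfl | rfl | rfl
    · omega
    · exfalso
      have hf := CfsgLib.Base.Solutions.dvd_card_pow_eq_one (G := C) (m := 12)
        (by rw [show Nat.card C = 60 by omega]; norm_num)
      rw [← CfsgLib.Techniques.OrderClasses.sum_cnt _ (by norm_num : (12:ℕ) ≠ 0),
        show (12 : ℕ).divisors = {1, 2, 3, 4, 6, 12} by decide +kernel] at hf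
      have c1 : cnt C 1 = 1 := CfsgLib.Techniques.OrderClasses.cnt_one C
      simp [← cnt_eq_oc, c1] at hf
      have := (small 2 (by norm_num)).1
      have := (small 3 (by norm_num)).1
      have := (small 4 (by norm_num)).1
      have := (small 6 (by norm_num)).1
      have h12 := (small 12 (by norm_num)).1
      have ht := totient_dvd (G := C) 12
      rw [show Nat.totient 12 = 4 by decide +kernel] at ht
      have h120 : cnt C 12 = 0 := Nat.eq_zero_of_dvd_of_lt ht (by omega)
      omega
    · exact Or.inr (by omega)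
    · norm_num at he
    · exact Or.inl (by omega)
  refine ⟨hcases, ?_, ?_, fun h10 => ?_⟩
  · obtain ⟨y, hy⟩ := exists_prime_orderOf_dvd_card' (G := C) 3
      (hp := ⟨Nat.prime_three⟩) (by rcases hcases with e | e <;> rw [e] <;> norm_num)
    have hpos : 0 < cnt C 3 := cnt_pos_iff.2 ⟨y, hy⟩
    have ht := totient_dvd (G := C) 3
    rw [Nat.totient_prime Nat.prime_three] at ht
    obtain ⟨h3, h15⟩ := small 3 (by norm_num)
    have := Nat.le_of_dvd hpos ht
    rw [show (15 : ℕ) = 5 * 3 from rfl, h15, show cnt C 3 = 2 by omega]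
  · obtain ⟨h2, h10⟩ := small 2 (by norm_num)
    obtain ⟨h6, h30⟩ := small 6 (by norm_num)
    have ht := totient_dvd (G := C) 6
    rw [show Nat.totient 6 = 2 by decide +kernel] at ht
    have h6z : cnt C 6 = 0 ∨ cnt C 6 = 2 := by omega
    rw [show (10 : ℕ) = 5 * 2 from rfl, h10, show (30 : ℕ) = 5 * 6 from rfl, h30]
    have : cnt C 2 = 0 ∨ cnt C 2 = 1 ∨ cnt C 2 = 2 := by omega
    rcases h6z with e6 | e6 <;> rcases this with e2 | e2 | e2 <;>
      (rw [e6, e2]; decide)
  · refine hcases.resolve_right fun h30 => ?_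
    obtain ⟨y, hy⟩ := exists_prime_orderOf_dvd_card' (G := C) 2
      (hp := ⟨Nat.prime_two⟩) (by rw [h30]; norm_num)
    have hpos : 0 < cnt C 2 := cnt_pos_iff.2 ⟨y, hy⟩
    have h10' := (small 2 (by norm_num)).2
    rw [show (10 : ℕ) = 5 * 2 from rfl, h10'] at h10
    omega

/-- every possible order -/
def allOrders : List ℕ := [1, 2, 3, 5, 7, 11, 23, 14, 15, 10, 30] ++ free

theorem order_mem (h : Hyp G) (g : G) : orderOf g ∈ allOrders := by
  have hd : orderOf g ∣ 10200960 := h.card ▸ orderOf_dvd_natCard g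
  by_cases h23 : 23 ∣ orderOf g
  · have := order_dvd (g := g) (m := 23) (fun x hx => (cent_23 h hx).dvd) h23
    exact (show ∀ d ∈ Nat.divisors 23, d ∈ allOrders by decide +kernel) _
      (Nat.mem_divisors.2 ⟨this, by norm_num⟩)
  by_cases h11 : 11 ∣ orderOf g
  · have := order_dvd (g := g) (m := 11) (fun x hx => (cent_11 h hx).dvd) h11
    exact (show ∀ d ∈ Nat.divisors 11, d ∈ allOrders by decide +kernel) _
      (Nat.mem_divisors.2 ⟨this, by norm_num⟩)
  by_cases h7 : 7 ∣ orderOf g
  · have := order_dvd (g := g) (m := 14) (fun x hx => (cent_7 h hx).1.dvd) h7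
    exact (show ∀ d ∈ Nat.divisors 14, d ∈ allOrders by decide +kernel) _
      (Nat.mem_divisors.2 ⟨this, by norm_num⟩)
  by_cases h5 : 5 ∣ orderOf g
  · have := order_dvd (g := g) (m := 30)
      (fun x hx => by rcases (cent_5_aux h hx).1 with e | e <;> rw [e] <;> norm_num) h5
    exact (show ∀ d ∈ Nat.divisors 30, 5 ∣ d → d ∈ allOrders by decide +kernel) _
      (Nat.mem_divisors.2 ⟨this, by norm_num⟩) h5
  have hcop : (orderOf g).Coprime (5 * (7 * (11 * 23))) := by
    refine Nat.Coprime.mul_right ?_ (Nat.Coprime.mul_right ?_ (Nat.Coprime.mul_right ?_ ?_))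
    all_goals refine ((Nat.Prime.coprime_iff_not_dvd (by norm_num)).2 ?_).symm
    exacts [h5, h7, h11, h23]
  have : orderOf g ∣ 1152 := hcop.dvd_of_dvd_mul_right
    (show orderOf g ∣ 1152 * (5 * (7 * (11 * 23))) by simpa using hd)
  exact (show ∀ d ∈ Nat.divisors 1152, d ∈ allOrders by decide +kernel) _
    (Nat.mem_divisors.2 ⟨this, by norm_num⟩)

theorem total (h : Hyp G) :
    (free.map (cnt G)).sum + (cnt G 10 + cnt G 30) = 2443980 := by
  haveI := Fintype.ofFinite G
  have hsum : ∑ d ∈ allOrders.toFinset, cnt G d = 10200960 := by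
    rw [← h.card, Nat.card_eq_fintype_card, ← Finset.card_univ,
      Finset.card_eq_sum_card_fiberwise (f := fun g : G => orderOf g) (t := allOrders.toFinset)
        (fun g _ => by simpa using order_mem h g)]
    refine Finset.sum_congr rfl fun d _ => ?_
    rw [cnt, Nat.card_eq_fintype_card, Fintype.card_subtype]
  rw [List.sum_toFinset _ (by decide +kernel : allOrders.Nodup)] at hsum
  obtain ⟨x, hx⟩ := exists_prime_orderOf_dvd_card' (G := G) 5 (hp := ⟨by norm_num⟩)
    (by rw [h.card]; norm_num)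
  obtain ⟨y, hy⟩ := exists_prime_orderOf_dvd_card' (G := G) 7 (hp := ⟨by norm_num⟩)
    (by rw [h.card]; norm_num)
  have c1 : cnt G 1 = 1 := CfsgLib.Techniques.OrderClasses.cnt_one G
  rw [allOrders, List.map_append, List.sum_append] at hsum
  change _ + (free.map (cnt G)).sum = _ at hsum
  simp only [List.map_cons, List.map_nil, List.sum_cons, List.sum_nil, c1, count_2 h, count_3 h,
    count_5 h, count_7 h, count_11 h, count_23 h, (cent_7 h hy).2, (cent_5_aux h hx).2.1] at hsum
  omega

theorem frobenius (h : Hyp G) {n : ℕ} (hn : n ∈ free) :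
    n ∣ ((([1, 2, 3] ++ free).filter fun d => n % d == 0).map (cnt G)).sum := by
  have hnd : n ∣ 10200960 := (show ∀ n ∈ free, n ∣ 10200960 by decide +kernel) n hn
  have hn0 : n ≠ 0 := fun e => by simp [e] at hnd
  have hl : (([1, 2, 3] ++ free).filter fun d => n % d == 0).Nodup :=
    List.Nodup.filter _ (by decide +kernel)
  have hset : (([1, 2, 3] ++ free).filter fun d => n % d == 0).toFinset = n.divisors :=
    (show ∀ m ∈ free, (([1, 2, 3] ++ free).filter fun d => m % d == 0).toFinset = m.divisors by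
      decide +kernel) n hn
  rw [← List.sum_toFinset _ hl, hset]
  show n ∣ ∑ d ∈ n.divisors, CfsgLib.Techniques.OrderClasses.cnt G d
  rw [CfsgLib.Techniques.OrderClasses.sum_cnt G hn0]
  exact CfsgLib.Base.Solutions.dvd_card_pow_eq_one (h.card ▸ hnd)

theorem main (h : Hyp G) : cnt G 10 + cnt G 30 = 0 ∧ cnt G 6 = 850080 ∧
    ∀ n ∈ free, n ≠ 4 → n ≠ 8 → n ≠ 6 → cnt G n = 0 := by
  obtain ⟨x, hx⟩ := exists_prime_orderOf_dvd_card' (G := G) 5 (hp := ⟨by norm_num⟩)
    (by rw [h.card]; norm_num)
  refine search (f := cnt G) _ (CfsgLib.Techniques.OrderClasses.cnt_one G) (count_2 h) (count_3 h)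
    (fun d n hdn => cnt_of_dvd hdn) (fun n hn => ?_) (fun n hn => frobenius h hn)
    (cent_5_aux h hx).2.2.1 (total h)
  have he := CfsgLib.Techniques.OrderClasses.even_cnt G (m := n)
    ((show ∀ n ∈ free, 2 < n by decide +kernel) n hn)
  rw [← cnt_eq_oc, Nat.even_iff] at he
  simp only [dom, List.mem_cons, List.not_mem_nil, or_false]
  rcases values h n with e | e | e | e | e | e | e | e | e | e | e | e <;> rw [e] at he ⊢ <;>
    omega

end CfsgLib.M23Nse.CountsA1

namespace CfsgLib.M23Nse

open CountsA1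

universe u

/-- Piece A1: the numbers of elements of each order. -/
theorem counts : StmtCounts.{u} := by
  intro G _ _ h
  haveI : Fact (Nat.Prime 5) := ⟨by norm_num⟩
  haveI : Fact (Nat.Prime 7) := ⟨by norm_num⟩
  haveI : Fact (Nat.Prime 23) := ⟨by norm_num⟩
  obtain ⟨h1030, h6, hzero⟩ := main h
  have h10 : cnt G 10 = 0 := by omega
  have h30 : cnt G 30 = 0 := by omega
  refine
    { hyp := h
      orders := fun g => ?_
      cnt2 := count_2 h
      cnt3 := count_3 h
      cnt6 := h6
      cnt15 := ?_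
      cent5 := fun u hu => (cent_5_aux h hu).2.2.2 h10
      norm5 := (local_eq h (sylow_card h (p := 5) (m := 2040192) (by norm_num) (by norm_num))
        (count_5 h) (N := 60) (by norm_num)).1
      cent7 := fun u hu => (cent_7 h hu).1
      norm7 := (local_eq h (sylow_card h (p := 7) (m := 1457280) (by norm_num) (by norm_num))
        (count_7 h) (N := 42) (by norm_num)).1
      cent11 := fun u hu => cent_11 h hu
      cent23 := fun u hu => cent_23 h hu
      norm23 := (local_eq h (sylow_card h (p := 23) (m := 443520) (by norm_num) (by norm_num))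
        (count_23 h) (N := 253) (by norm_num)).1 }
  · have hp : 0 < cnt G (orderOf g) := cnt_pos_iff.2 ⟨g, rfl⟩
    by_contra hne
    rcases List.mem_append.1 (order_mem h g) with hT | hS
    · simp only [List.mem_cons, List.not_mem_nil, or_false] at hT hne
      rcases hT with e | e | e | e | e | e | e | e | e | e | e <;> rw [e] at hne hp <;> omega
    · simp only [List.mem_cons, List.not_mem_nil, or_false, not_or] at hne
      obtain ⟨-, -, -, n4, -, n6, -, n8, -⟩ := hne
      rw [hzero _ hS n4 n8 n6] at hp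
      exact lt_irrefl 0 hp
  · obtain ⟨x, hx⟩ := exists_prime_orderOf_dvd_card' (G := G) 5 (by rw [h.card]; norm_num)
    exact (cent_5_aux h hx).2.1

end CfsgLib.M23Nse
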