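import Mathlib
import Cfsg.Prelude.Def_Sporadic_a

/-!
# The numbers of elements of each order in a group like the Mathieu group of degree 23

Interfaces between the pieces of the proof that a group with the order and these numbers of `M23`
is `M23`.  The paper proof is `tools/S3595_plan.md`.
-/

set_option autoImplicit false

namespace CfsgLib.M23Nse

open Subgroup MulAction

universe u

variable (G : Type u) [Group G]

/-- the number of elements of a given order -/
noncomputable def cnt (n : ℕ) : ℕ := Nat.card {g : G // orderOf g = n}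

/-- the values of these numbers in the Mathieu group of degree 23 -/
def vals : List ℕ :=
  [1, 3795, 56672, 318780, 680064, 850080, 887040, 1275120, 1360128, 1457280, 1854720]

/-- What the hypothesis on the numbers of elements gives at once. -/
structure Hyp : Prop where
  card : Nat.card G = 10200960
  mem : ∀ n, cnt G n = 0 ∨ cnt G n ∈ vals

/-- The numbers of elements of the orders that matter and the sizes at five and seven. -/
structure Counts : Prop where
  hyp : Hyp G
  orders : ∀ g : G, orderOf g ∈ [1, 2, 3, 4, 5, 6, 7, 8, 11, 14, 15, 23]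
  cnt2 : cnt G 2 = 3795
  cnt3 : cnt G 3 = 56672
  cnt6 : cnt G 6 = 850080
  cnt15 : cnt G 15 = 1360128
  cent5 : ∀ u : G, orderOf u = 5 → Nat.card (centralizer ({u} : Set G)) = 15
  norm5 : ∀ P : Sylow 5 G, Nat.card (normalizer ((P : Subgroup G) : Set G)) = 60
  cent7 : ∀ u : G, orderOf u = 7 → Nat.card (centralizer ({u} : Set G)) = 14
  norm7 : ∀ P : Sylow 7 G, Nat.card (normalizer ((P : Subgroup G) : Set G)) = 42
  cent11 : ∀ u : G, orderOf u = 11 → Nat.card (centralizer ({u} : Set G)) = 11
  cent23 : ∀ u : G, orderOf u = 23 → Nat.card (centralizer ({u} : Set G)) = 23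
  norm23 : ∀ P : Sylow 23 G, Nat.card (normalizer ((P : Subgroup G) : Set G)) = 253

/-- The element orders and the local structure at two, three, five and seven. -/
structure Facts : Prop where
  card : Nat.card G = 10200960
  simple : IsSimpleGroup G
  nab : ¬ ∀ a b : G, a * b = b * a
  orders : ∀ g : G, orderOf g ∈ [1, 2, 3, 4, 5, 6, 7, 8, 11, 14, 15, 23]
  conj2 : ∀ u v : G, orderOf u = 2 → orderOf v = 2 → IsConj u v
  cent2 : ∀ u : G, orderOf u = 2 → Nat.card (centralizer ({u} : Set G)) = 2688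
  conj3 : ∀ u v : G, orderOf u = 3 → orderOf v = 3 → IsConj u v
  cent3 : ∀ u : G, orderOf u = 3 → Nat.card (centralizer ({u} : Set G)) = 180
  invol3 : ∀ u : G, orderOf u = 3 → Nat.card {v : G // Commute u v ∧ orderOf v = 2} = 15
  cycle3 : ∀ x : G, orderOf x = 3 → ∀ V : Subgroup G, Nat.card V = 4 →
    (∀ v ∈ V, Commute x v) →
    ∃ y : G, orderOf y = 3 ∧ Commute x y ∧ (∀ v ∈ V, y * v * y⁻¹ ∈ V) ∧
      ∀ v ∈ V, y * v * y⁻¹ = v → v = 1
  cent5 : ∀ u : G, orderOf u = 5 → Nat.card (centralizer ({u} : Set G)) = 15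
  norm5 : ∀ P : Sylow 5 G, Nat.card (normalizer ((P : Subgroup G) : Set G)) = 60
  cent7 : ∀ u : G, orderOf u = 7 → Nat.card (centralizer ({u} : Set G)) = 14
  norm7 : ∀ P : Sylow 7 G, Nat.card (normalizer ((P : Subgroup G) : Set G)) = 42

/-- An elementary abelian subgroup of order 16, its own centraliser, whose normaliser acts on
seven labels as the alternating group, any two conjugates meeting trivially. -/
structure Heptad where
  R : Subgroup G
  card_R : Nat.card R = 16
  elem : ∀ a ∈ R, a * a = 1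
  self_cent : centralizer (R : Set G) = R
  card_N : Nat.card (normalizer (R : Set G)) = 40320
  trans : ∀ a ∈ R, a ≠ 1 → ∀ b ∈ R, b ≠ 1 → ∃ g ∈ normalizer (R : Set G), g * a * g⁻¹ = b
  cent_le : ∀ a ∈ R, a ≠ 1 → centralizer ({a} : Set G) ≤ normalizer (R : Set G)
  meet : ∀ g : G, g ∉ normalizer (R : Set G) → ∀ a ∈ R, g * a * g⁻¹ ∈ R → a = 1
  not_le : ∀ g : G, g ∉ normalizer (R : Set G) →
    ¬ R ≤ normalizer ((R.map (MulAut.conj g).toMonoidHom : Subgroup G) : Set G)
  π : normalizer (R : Set G) →* alternatingGroup (Fin 7)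
  π_surj : Function.Surjective π
  π_ker : π.ker = R.subgroupOf (normalizer (R : Set G))
  fpf3 : ∀ x : normalizer (R : Set G),
    Equiv.Perm.IsThreeCycle ((π x : Equiv.Perm (Fin 7))) →
    ∀ a ∈ R, Commute (x : G) a → a = 1

variable {G}

namespace Heptad

variable (h : Heptad G)

/-- the stabiliser of a point -/
def N : Subgroup G := normalizer (h.R : Set G)

/-- the stabiliser of the first label -/
def A : Subgroup G :=
  ((stabilizer (alternatingGroup (Fin 7)) (0 : Fin 7)).comap h.π).map
    (normalizer (h.R : Set G)).subtype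

theorem A_le_N : h.A ≤ h.N := map_subtype_le _

/-- the points: the conjugates of the subgroup of order 16 -/
abbrev Pt : Type u := G ⧸ h.N

/-- the flags: a point with one of its seven labels -/
abbrev Flag : Type u := G ⧸ h.A

/-- the point of a flag -/
def pt : h.Flag → h.Pt := Subgroup.quotientMapOfLE h.A_le_N

/-- the elements fixing a point and all its labels -/
def ker (P : h.Pt) : Subgroup G :=
  stabilizer G P ⊓ ⨅ f : {f : h.Flag // h.pt f = P}, stabilizer G f.1

/-- no edge joins the labels of two different points -/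
def Far (Edge : h.Flag → h.Flag → Prop) (P Q : h.Pt) : Prop :=
  P ≠ Q ∧ ∀ a b, h.pt a = P → h.pt b = Q → ¬ Edge a b

/-- two steps lead from a flag to a point -/
def Two (Edge : h.Flag → h.Flag → Prop) (f : h.Flag) (Q : h.Pt) : Prop :=
  ∃ k c, Edge f k ∧ Edge k c ∧ h.pt c = Q

end Heptad

/-- The orbit of length 112 of a point stabiliser, as a relation on flags. -/
structure Near (h : Heptad G) where
  Edge : h.Flag → h.Flag → Prop
  smul : ∀ (g : G) f k, Edge f k → Edge (g • f) (g • k)
  symm : ∀ f k, Edge f k → Edge k f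
  pt_ne : ∀ f k, Edge f k → h.pt f ≠ h.pt k
  card16 : ∀ f, Nat.card {k : h.Flag // Edge f k} = 16
  inj : ∀ f k k', Edge f k → Edge f k' → h.pt k = h.pt k' → k = k'
  unique : ∀ f f' k k', Edge f k → Edge f' k' → h.pt f = h.pt f' → h.pt k = h.pt k' →
    f = f' ∧ k = k'
  disj : ∀ f k, Edge f k → h.ker (h.pt f) ⊓ stabilizer G (h.pt k) = ⊥
  torsor : ∀ f k k', Edge f k → Edge f k' → ∃ r ∈ h.ker (h.pt f), r • k = k'
  fix_edge : ∀ f k, Edge f k → stabilizer G (h.pt f) ⊓ stabilizer G (h.pt k) ≤ stabilizer G f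
  stab_edge : ∀ f k, Edge f k →
    Nat.card (stabilizer G (h.pt f) ⊓ stabilizer G (h.pt k) : Subgroup G) = 360
  trans15 : ∀ f k c c', Edge f k → Edge k c → Edge k c' → c ≠ f → c' ≠ f →
    ∃ g ∈ stabilizer G f ⊓ stabilizer G k, g • c = c'
  fix5 : ∀ P Q, h.Far Edge P Q →
    ¬ 5 ∣ Nat.card (stabilizer G P ⊓ stabilizer G Q : Subgroup G)
  fix7 : ∀ P Q : h.Pt, P ≠ Q →
    ¬ 7 ∣ Nat.card (stabilizer G P ⊓ stabilizer G Q : Subgroup G)
  card_far : ∀ P, Nat.card {Q : h.Pt // h.Far Edge P Q} = 140

/-- The orbit of length 140: what two steps do. -/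
structure FarFacts {h : Heptad G} (n : Near h) : Prop where
  two_far : ∀ f k c, n.Edge f k → n.Edge k c → c ≠ f → h.Far n.Edge (h.pt f) (h.pt c)
  triple : ∀ P Q, h.Far n.Edge P Q →
    Nat.card {f : h.Flag // h.pt f = P ∧ h.Two n.Edge f Q} = 3
  mid : ∀ f Q, h.Far n.Edge (h.pt f) Q → h.Two n.Edge f Q →
    Nat.card {k : h.Flag // n.Edge f k ∧ ∃ c, n.Edge k c ∧ h.pt c = Q} = 4
  ker_card : ∀ P Q, h.Far n.Edge P Q →
    Nat.card (h.ker P ⊓ stabilizer G Q : Subgroup G) = 4
  stab_in : ∀ f Q, h.Far n.Edge (h.pt f) Q → h.Two n.Edge f Q →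
    Nat.card (stabilizer G f ⊓ stabilizer G Q : Subgroup G) = 96
  stab_off : ∀ f Q, h.Far n.Edge (h.pt f) Q → ¬ h.Two n.Edge f Q →
    Nat.card (stabilizer G f ⊓ stabilizer G Q : Subgroup G) = 72
  ker_fix : ∀ f Q, h.Far n.Edge (h.pt f) Q → h.Two n.Edge f Q →
    h.ker Q ⊓ stabilizer G (h.pt f) ≤ stabilizer G f
  fpf : ∀ f Q, h.Far n.Edge (h.pt f) Q → h.Two n.Edge f Q →
    ∀ x ∈ stabilizer G f ⊓ stabilizer G Q, orderOf x = 3 →
    ∀ r ∈ h.ker (h.pt f), Commute x r → r = 1

/-- from the hypothesis to the counts -/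
def StmtCounts : Prop := ∀ (G : Type u) [Group G] [Finite G], Hyp G → Counts G

/-- from the counts to the facts -/
def StmtFacts : Prop := ∀ (G : Type u) [Group G] [Finite G], Counts G → Facts G

/-- the existence of the subgroup of order 16 -/
def StmtHeptad : Prop := ∀ (G : Type u) [Group G] [Finite G], Facts G → Nonempty (Heptad G)

/-- the orbit of length 112 -/
def StmtNear : Prop := ∀ (G : Type u) [Group G] [Finite G], Facts G → ∀ h : Heptad G,
  Nonempty (Near h)

/-- the orbit of length 140 -/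
def StmtFar : Prop := ∀ (G : Type u) [Group G] [Finite G], Facts G → ∀ (h : Heptad G) (n : Near h),
  FarFacts n

/-- the classes of flags are the points of a Steiner system -/
def StmtSteiner : Prop := ∀ (G : Type u) [Group G] [Finite G], Facts G →
  ∀ (h : Heptad G) (n : Near h), FarFacts n →
  ∃ (V : Type u) (_ : Fintype V) (_ : DecidableEq V) (B : Set (Finset V))
    (φ : G →* Cfsg.setSystemAut B),
    Fintype.card V = 23 ∧ Cfsg.IsSteinerSystem 4 7 B ∧ Function.Injective φ

end CfsgLib.M23Nse
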