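import Cfsg.Agent.Lib.M23Nse.Points

/-!
# The orbit of length 140

Two steps in the graph on flags lead to the points at distance two; the stabiliser of such a pair
of points has order 288 and fixes a triple of labels on each side.
-/

set_option autoImplicit false
set_option linter.unusedSectionVars false
set_option linter.style.haveILetI false

namespace CfsgLib.M23Nse.FarProof

open Subgroup MulAction
open scoped Pointwise

universe u

/-! ### subgroups of the alternating group of degree seven -/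

section Seven

/-- A subgroup fixing `k` given labels has order dividing `(7-k)!/2`. -/
theorem card_fix_dvd (s : Finset (Fin 7)) (hs : 2 ≤ 7 - s.card)
    (S : Subgroup (alternatingGroup (Fin 7))) (h : ∀ σ ∈ S, ∀ i ∈ s, (σ : Equiv.Perm (Fin 7)) i = i) :
    2 * Nat.card S ∣ (7 - s.card).factorial := by
  classical
  let α := {x : Fin 7 // x ∉ s}
  have hα : Fintype.card α = 7 - s.card := by
    simp only [α]
    rw [Fintype.card_subtype_compl, Fintype.card_fin, Fintype.card_coe]
  have hmem : ∀ σ : S, ∀ x, x ∉ s ↔ ((σ : alternatingGroup (Fin 7)) : Equiv.Perm (Fin 7)) x ∉ s := by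
    intro σ x
    constructor
    · intro hx hc
      have := h _ σ.2 _ hc
      exact hx (((σ : alternatingGroup (Fin 7)) : Equiv.Perm (Fin 7)).injective this ▸ hc)
    · intro hc hx
      exact hc (by rw [h _ σ.2 _ hx]; exact hx)
  let φ : S →* alternatingGroup α :=
    { toFun := fun σ => ⟨((σ : alternatingGroup (Fin 7)) : Equiv.Perm (Fin 7)).subtypePerm
          (fun x => (hmem σ x).symm), by
        rw [Equiv.Perm.mem_alternatingGroup, Equiv.Perm.sign_subtypePerm]
        · exact Equiv.Perm.mem_alternatingGroup.1 (σ : alternatingGroup (Fin 7)).2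
        · intro x hx hxs
          exact hx (h _ σ.2 _ hxs)⟩
      map_one' := by ext x; rfl
      map_mul' := fun a b => by ext x; rfl }
  have hinj : Function.Injective φ := by
    intro a b hab
    apply Subtype.ext; apply Subtype.ext
    refine Equiv.ext fun x => ?_
    by_cases hx : x ∈ s
    · rw [h _ a.2 _ hx, h _ b.2 _ hx]
    · have := congrArg (fun p : alternatingGroup α => ((p : Equiv.Perm α) ⟨x, hx⟩ : Fin 7)) hab
      exact this
  have : Nontrivial α := Fintype.one_lt_card_iff_nontrivial.1 (by omega)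
  have hc : 2 * Nat.card (alternatingGroup α) = (7 - s.card).factorial := by
    rw [Nat.card_eq_fintype_card, two_mul_card_alternatingGroup, Fintype.card_perm, hα]
  rw [← hc]
  exact mul_dvd_mul_left 2 (Subgroup.card_dvd_of_injective φ hinj)

/-- No subgroup of order 72 fixes a label. -/
theorem no72 (i : Fin 7) (S : Subgroup (alternatingGroup (Fin 7)))
    (h : ∀ σ ∈ S, (σ : Equiv.Perm (Fin 7)) i = i) : Nat.card S ≠ 72 := by
  classical
  intro hS
  let α := {x : Fin 7 // x ≠ i}
  have hα : Fintype.card α = 6 := by simp [α]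
  let ψ : alternatingGroup α →* alternatingGroup (Fin 7) :=
    ((Equiv.Perm.ofSubtype).comp (alternatingGroup α).subtype).codRestrict _ fun x => by
      rw [Equiv.Perm.mem_alternatingGroup]
      change Equiv.Perm.sign (Equiv.Perm.ofSubtype (x : Equiv.Perm α)) = 1
      rw [Equiv.Perm.sign_ofSubtype]
      exact Equiv.Perm.mem_alternatingGroup.1 x.2
  have hinj : Function.Injective ψ := fun a b hab =>
    Subtype.ext (Equiv.Perm.ofSubtype_injective (congrArg Subtype.val hab))
  have hle : S ≤ ψ.range := by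
    intro σ hσ
    have hfix : ∀ x, (σ : Equiv.Perm (Fin 7)) x ≠ i ↔ x ≠ i := by
      intro x
      rw [not_iff_not]
      exact ⟨fun hx => (σ : Equiv.Perm (Fin 7)).injective (hx.trans (h σ hσ).symm),
        fun hx => hx ▸ h σ hσ⟩
    have hsup : ∀ x, (σ : Equiv.Perm (Fin 7)) x ≠ x → x ≠ i := fun x hx hxi => hx (hxi ▸ h σ hσ)
    refine ⟨⟨(σ : Equiv.Perm (Fin 7)).subtypePerm hfix, ?_⟩, ?_⟩
    · rw [Equiv.Perm.mem_alternatingGroup, Equiv.Perm.sign_subtypePerm _ _ hsup]
      exact Equiv.Perm.mem_alternatingGroup.1 σ.2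
    · exact Subtype.ext (Equiv.Perm.ofSubtype_subtypePerm hfix hsup)
  let T : Subgroup (alternatingGroup α) := S.comap ψ
  have hT : Nat.card T = 72 := by
    have e : T.map ψ = S := Subgroup.map_comap_eq_self hle
    rw [← Subgroup.card_map_of_injective hinj, e, hS]
  have : Nontrivial α := Fintype.one_lt_card_iff_nontrivial.1 (by omega)
  have hA : Nat.card (alternatingGroup α) = 360 := by
    have h2 := two_mul_card_alternatingGroup (α := α)
    rw [Fintype.card_perm, hα, show (6 : ℕ).factorial = 720 from rfl] at h2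
    rw [Nat.card_eq_fintype_card]; omega
  have hidx : T.index = 5 := by
    have := T.card_mul_index; rw [hT, hA] at this; omega
  have : IsSimpleGroup (alternatingGroup α) :=
    alternatingGroup.isSimpleGroup (by rw [Nat.card_eq_fintype_card, hα]; norm_num)
  rcases (T.normalCore_normal).eq_bot_or_eq_top with hb | ht
  · have := Subgroup.normalCore_eq_ker T
    rw [hb] at this
    have hle' : Nat.card (alternatingGroup α) ≤ Nat.card (Equiv.Perm (alternatingGroup α ⧸ T)) :=
      Nat.card_le_card_of_injective _ ((MonoidHom.ker_eq_bot_iff _).1 this.symm)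
    rw [hA, Nat.card_perm, ← Subgroup.index_eq_card, hidx] at hle'
    simp [Nat.factorial] at hle'
  · have hle' := Subgroup.normalCore_le T
    rw [ht, top_le_iff] at hle'
    rw [hle', Subgroup.card_top, hA] at hT
    omega

theorem isThreeCycle_of_fix (σ : Equiv.Perm (Fin 7)) (h3 : orderOf σ = 3) (s : Finset (Fin 7))
    (hs : s.card = 3) (h : ∀ i ∈ s, σ i = i) : σ.IsThreeCycle := by
  have : Fact (Nat.Prime 3) := ⟨Nat.prime_three⟩
  obtain ⟨n, hn⟩ := Equiv.Perm.cycleType_prime_order (σ := σ) (by rw [h3]; exact Nat.prime_three)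
  rw [h3] at hn
  have hsum := σ.sum_cycleType
  rw [hn, Multiset.sum_replicate, smul_eq_mul] at hsum
  have hle : σ.support.card ≤ 4 := by
    have hsub : σ.support ⊆ sᶜ := fun x hx => by
      rw [Finset.mem_compl]; exact fun hxs => (Equiv.Perm.mem_support.1 hx) (h x hxs)
    have := Finset.card_le_card hsub
    rw [Finset.card_compl, hs, Fintype.card_fin] at this
    omega
  refine card_support_eq_three_iff.1 ?_
  omega

end Seven

/-! ### tools -/

section Tools

variable {G : Type u} [Group G]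

theorem card_orbit_mul {X : Type*} [MulAction G X] (H : Subgroup G) (x : X) :
    Nat.card (orbit H x) * Nat.card (H ⊓ stabilizer G x : Subgroup G) = Nat.card H := by
  have e : stabilizer H x = (stabilizer G x).subgroupOf H := by ext h; rfl
  rw [show H ⊓ stabilizer G x = stabilizer G x ⊓ H from inf_comm _ _,
    ← Nat.card_congr (Subgroup.equivMapOfInjective ((stabilizer G x).subgroupOf H) H.subtype
      H.subtype_injective |>.toEquiv.trans (Equiv.cast (by rw [Subgroup.subgroupOf_map_subtype])))]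
  rw [← e, Nat.card_congr (orbitEquivQuotientStabilizer H x), mul_comm]
  exact Subgroup.card_mul_index _

end Tools

variable {G : Type u} [Group G] [Finite G] {h : Heptad G}

theorem ker_iff (P : h.Pt) (x : stabilizer G P) : (h.chart P).ρ x = 1 ↔ (x : G) ∈ h.ker P := by
  rw [← MonoidHom.mem_ker, (h.chart P).ker_eq, Subgroup.mem_subgroupOf]

theorem ker_inter {P Q : h.Pt} (hne : P ≠ Q) : h.ker P ⊓ h.ker Q = ⊥ := by
  obtain ⟨a, rfl⟩ := h.exists_smul_base P
  obtain ⟨b, rfl⟩ := h.exists_smul_base Q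
  rw [Subgroup.eq_bot_iff_forall]
  rintro x ⟨hxa, hxb⟩
  rw [h.ker_smul, h.ker_base] at hxa hxb
  obtain ⟨y, hy, rfl⟩ := hxa
  obtain ⟨z, hz, hzy⟩ := hxb
  have hg : a⁻¹ * b ∉ normalizer (h.R : Set G) := fun hh => hne (by
    rw [← h.stab_base, mem_stabilizer_iff, mul_smul, inv_smul_eq_iff] at hh
    exact hh.symm)
  have e : a⁻¹ * b * z * (a⁻¹ * b)⁻¹ = y := by
    simp only [MulEquiv.coe_toMonoidHom, MulAut.conj_apply] at hzy
    rw [show a⁻¹ * b * z * (a⁻¹ * b)⁻¹ = a⁻¹ * (b * z * b⁻¹) * a by group, hzy]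
    group
  have hz1 := h.meet _ hg z hz (by rw [e]; exact hy)
  rw [hz1] at e
  simp only [mul_one, mul_inv_cancel] at e
  simp [← e]

theorem ker_not_le {P Q : h.Pt} (hne : P ≠ Q) : ¬ h.ker P ≤ stabilizer G Q := by
  obtain ⟨a, rfl⟩ := h.exists_smul_base P
  obtain ⟨b, rfl⟩ := h.exists_smul_base Q
  intro hle
  have hg : a⁻¹ * b ∉ normalizer (h.R : Set G) := fun hh => hne (by
    rw [← h.stab_base, mem_stabilizer_iff, mul_smul, inv_smul_eq_iff] at hh
    exact hh.symm)
  refine h.not_le _ hg fun r hr => ?_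
  rw [← Subgroup.map_equiv_normalizer_eq, ← h.stab_base]
  have hmem : a * r * a⁻¹ ∈ stabilizer G (b • ((1 : G) : h.Pt)) := hle (by
    rw [h.ker_smul, h.ker_base]; exact ⟨r, hr, by simp⟩)
  rw [stabilizer_smul_eq_stabilizer_map_conj] at hmem
  obtain ⟨w, hw, hwe⟩ := hmem
  refine ⟨w, hw, ?_⟩
  simp only [MulEquiv.coe_toMonoidHom, MulAut.conj_apply] at hwe ⊢
  rw [show a⁻¹ * b * w * (a⁻¹ * b)⁻¹ = a⁻¹ * (b * w * b⁻¹) * a by group, hwe]
  group

/-- the image of a subgroup of a point stabiliser on the labels -/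
noncomputable def img {P : h.Pt} (H : Subgroup G) (hH : H ≤ stabilizer G P) :
    Subgroup (alternatingGroup (Fin 7)) :=
  ((h.chart P).ρ.comp (Subgroup.inclusion hH)).range

theorem img_card {P : h.Pt} (H : Subgroup G) (hH : H ≤ stabilizer G P) :
    Nat.card (img H hH) * Nat.card (h.ker P ⊓ H : Subgroup G) = Nat.card H := by
  let φ := (h.chart P).ρ.comp (Subgroup.inclusion hH)
  have e : Nat.card φ.ker = Nat.card (h.ker P ⊓ H : Subgroup G) := Nat.card_congr
    { toFun := fun x => ⟨x.1.1, (ker_iff P _).1 (MonoidHom.mem_ker.1 x.2), x.1.2⟩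
      invFun := fun x => ⟨⟨x.1, x.2.2⟩,
        MonoidHom.mem_ker.2 ((ker_iff P (Subgroup.inclusion hH ⟨x.1, x.2.2⟩)).2 x.2.1)⟩
      left_inv := fun _ => rfl
      right_inv := fun _ => rfl }
  rw [← e, show img H hH = φ.range from rfl, ← Subgroup.index_ker, mul_comm]
  exact φ.ker.card_mul_index

theorem img_mono {P : h.Pt} {H K : Subgroup G} (hH : H ≤ stabilizer G P) (hK : K ≤ stabilizer G P)
    (hle : H ≤ K) : img H hH ≤ img K hK := by
  rintro _ ⟨x, rfl⟩; exact ⟨⟨x.1, hle x.2⟩, rfl⟩

theorem img_fix {P : h.Pt} {H : Subgroup G} (hH : H ≤ stabilizer G P) {i : Fin 7}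
    (hi : H ≤ stabilizer G ((h.chart P).lab i)) :
    ∀ σ ∈ img H hH, (σ : Equiv.Perm (Fin 7)) i = i := by
  rintro _ ⟨x, rfl⟩
  apply (h.chart P).inj
  exact ((h.chart P).smul_lab _ i).symm.trans (mem_stabilizer_iff.1 (hi x.2))

variable (n : Near h)

theorem stab_edge_eq {f k : h.Flag} (e : n.Edge f k) :
    stabilizer G f ⊓ stabilizer G k = stabilizer G (h.pt f) ⊓ stabilizer G (h.pt k) :=
  le_antisymm (inf_le_inf (h.stab_flag_le f) (h.stab_flag_le k))
    (le_inf (n.fix_edge f k e) (by rw [inf_comm]; exact n.fix_edge k f (n.symm f k e)))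

theorem card_others {f k : h.Flag} (e : n.Edge f k) :
    Nat.card {c : h.Flag // n.Edge k c ∧ c ≠ f} = 15 := by
  have h16 := n.card16 k
  change Nat.card ↥{c | n.Edge k c} = 16 at h16
  change Nat.card ↥({c | n.Edge k c} \ {f}) = 15
  rw [Nat.card_coe_set_eq] at h16 ⊢
  rw [Set.ncard_sdiff_singleton_of_mem (show f ∈ {c | n.Edge k c} from n.symm f k e), h16]

/-- the stabiliser of a two-path has order 24 -/
theorem card_path {f k c : h.Flag} (e : n.Edge f k) (e' : n.Edge k c) (hcf : c ≠ f) :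
    Nat.card (stabilizer G f ⊓ stabilizer G k ⊓ stabilizer G c : Subgroup G) = 24 := by
  let H := stabilizer G f ⊓ stabilizer G k
  have hH : Nat.card H = 360 := by
    simp only [H]; rw [stab_edge_eq n e]; exact n.stab_edge f k e
  have horb : orbit H c = {c' | n.Edge k c' ∧ c' ≠ f} := by
    ext c'
    constructor
    · rintro ⟨⟨g, hgf, hgk⟩, rfl⟩
      change n.Edge k (g • c) ∧ g • c ≠ f
      refine ⟨?_, fun hh => hcf ?_⟩
      · have := n.smul g k c e'
        rwa [mem_stabilizer_iff.1 hgk] at this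
      · rw [← mem_stabilizer_iff.1 hgf] at hh
        exact MulAction.injective g hh
    · rintro ⟨h1, h2⟩
      obtain ⟨g, hg, rfl⟩ := n.trans15 f k c c' e e' h1 hcf h2
      exact ⟨⟨g, hg⟩, rfl⟩
  have := card_orbit_mul H c
  have hc : Nat.card (orbit H c) = 15 :=
    (Nat.card_congr (Equiv.setCongr horb)).trans (card_others n e)
  have key : 15 * Nat.card (H ⊓ stabilizer G c : Subgroup G) = 360 := by
    rw [← hc]; exact this.trans hH
  show Nat.card (H ⊓ stabilizer G c : Subgroup G) = 24
  omega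

/-- two steps never lead to a neighbouring point -/
theorem two_far (hcard : Nat.card G = 10200960) {f k c : h.Flag} (e : n.Edge f k)
    (e' : n.Edge k c) (hcf : c ≠ f) : h.Far n.Edge (h.pt f) (h.pt c) := by
  have hne : h.pt f ≠ h.pt c := fun he => hcf (n.inj k c f e' (n.symm f k e) he.symm)
  refine ⟨hne, fun f' c' hf' hc' he' => ?_⟩
  have h24 := card_path n e e' hcf
  by_cases hff : f' = f
  · subst hff
    -- all second neighbours are neighbours: seventeen points
    have key : ∀ c'', n.Edge k c'' → c'' ≠ f' → ∃ a, n.Edge f' a ∧ h.pt a = h.pt c'' := by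
      intro c'' h1 h2
      obtain ⟨g, hg, rfl⟩ := n.trans15 f' k c c'' e e' h1 hcf h2
      refine ⟨g • c', ?_, by rw [h.pt_smul, h.pt_smul, hc']⟩
      have := n.smul g f' c' he'
      rwa [mem_stabilizer_iff.1 hg.1] at this
    let Z : h.Flag → Set h.Pt := fun a => insert (h.pt a) (h.pt '' {b | n.Edge a b})
    have hcardZ : ∀ a, (Z a).ncard = 17 := by
      intro a
      have h16 : (h.pt '' {b | n.Edge a b}).ncard = 16 := by
        rw [Set.InjOn.ncard_image (s := {b | n.Edge a b}) (f := h.pt) (fun x hx y hy hxy => n.inj a x y hx hy hxy)]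
        have := n.card16 a
        change Nat.card ↥{b | n.Edge a b} = 16 at this
        rwa [Nat.card_coe_set_eq] at this
      rw [Set.ncard_insert_of_notMem (fun hh => ?_) (Set.toFinite _), h16]
      obtain ⟨b, hb, hb'⟩ := hh
      exact n.pt_ne a b hb hb'.symm
    have hsub : Z k ⊆ Z f' := by
      rintro _ (rfl | ⟨b, hb, rfl⟩)
      · exact Or.inr ⟨k, e, rfl⟩
      · by_cases hb' : b = f'
        · exact Or.inl (by rw [hb'])
        · obtain ⟨a, ha, ha'⟩ := key b hb hb'
          exact Or.inr ⟨a, ha, ha'⟩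
    have hZ : Z k = Z f' := Set.eq_of_subset_of_ncard_le hsub (by rw [hcardZ, hcardZ])
      (Set.toFinite _)
    let W : Subgroup G := stabilizer G (Z f')
    have hfW : ∀ a, Z a = Z f' → stabilizer G a ≤ W := by
      intro a ha g hg
      rw [mem_stabilizer_set]
      have hga : g • a = a := mem_stabilizer_iff.1 hg
      intro x
      rw [← ha]
      constructor
      · rintro (hx | ⟨b, hb, hx⟩)
        · left
          apply MulAction.injective g
          change g • x = g • h.pt a
          rw [hx, ← h.pt_smul, hga]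
        · right
          refine ⟨g⁻¹ • b, ?_, ?_⟩
          · have := n.smul g⁻¹ a b hb
            rwa [inv_smul_eq_iff.2 hga.symm] at this
          · rw [h.pt_smul, hx, inv_smul_smul]
      · rintro (hx | ⟨b, hb, hx⟩)
        · left
          rw [hx, ← h.pt_smul, hga]
        · right
          refine ⟨g • b, ?_, ?_⟩
          · have := n.smul g a b hb
            rwa [hga] at this
          · rw [h.pt_smul, hx]
    have horb : orbit W (h.pt f') = Z f' := by
      apply Set.Subset.antisymm
      · rintro _ ⟨⟨g, hg⟩, rfl⟩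
        exact (mem_stabilizer_set.1 hg _).2 (Or.inl rfl)
      · -- a move from `f'` to the others
        have hall : ∀ b, n.Edge f' b → ∃ g ∈ W, g • h.pt k = h.pt b := by
          intro b hb
          obtain ⟨r, hr, rfl⟩ := n.torsor f' k b e hb
          refine ⟨r, hfW f' rfl ?_, (h.pt_smul r k).symm⟩
          have := (Subgroup.mem_iInf.1 hr.2) ⟨f', rfl⟩
          exact this
        -- and from `k` one that moves the point of `f'`
        obtain ⟨r, hr, hrc⟩ := n.torsor k f' c (n.symm f' k e) e'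
        have hrW : r ∈ W := hfW k hZ ((Subgroup.mem_iInf.1 hr.2) ⟨k, rfl⟩)
        have hcZ : h.pt c ∈ Z f' := hZ ▸ Or.inr ⟨c, e', rfl⟩
        rcases hcZ with hh | ⟨a, ha, ha'⟩
        · exact absurd hh hne.symm
        obtain ⟨g, hg, hgk⟩ := hall a ha
        have hk : h.pt k ∈ orbit W (h.pt f') := by
          refine ⟨⟨g⁻¹ * r, mul_mem (inv_mem hg) hrW⟩, ?_⟩
          change (g⁻¹ * r) • h.pt f' = h.pt k
          rw [mul_smul, ← h.pt_smul, hrc, inv_smul_eq_iff, hgk, ha']
        rintro _ (rfl | ⟨b, hb, rfl⟩)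
        · exact mem_orbit_self _
        · obtain ⟨g', hg', hgb⟩ := hall b hb
          obtain ⟨⟨w, hw⟩, hwk⟩ := hk
          refine ⟨⟨g' * w, mul_mem hg' hw⟩, ?_⟩
          change (g' * w) • h.pt f' = h.pt b
          rw [mul_smul, show w • h.pt f' = h.pt k from hwk, hgb]
    have h17 : Nat.card (orbit W (h.pt f')) = 17 := by
      rw [horb, Nat.card_coe_set_eq, hcardZ]
    have hd : 17 ∣ Nat.card W := ⟨_, (h17 ▸ card_orbit_mul W (h.pt f')).symm⟩
    have := hd.trans (Subgroup.card_subgroup_dvd_card W)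
    rw [hcard] at this; omega
  · -- the intersection with another label is too small
    let H := stabilizer G (h.pt f) ⊓ stabilizer G (h.pt c)
    have hH : Nat.card H = 360 := by
      simp only [H]; rw [← hf', ← hc']; exact n.stab_edge f' c' he'
    have hfix : H ≤ stabilizer G f' := by
      simp only [H]; rw [← hf', ← hc']; exact n.fix_edge f' c' he'
    obtain ⟨i, hi⟩ := (h.chart (h.pt f)).exists_lab f rfl
    obtain ⟨i', hi'⟩ := (h.chart (h.pt f)).exists_lab f' hf'
    let K := stabilizer G f ⊓ stabilizer G (h.pt c)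
    have hK : K ≤ H := inf_le_inf_right _ (h.stab_flag_le f)
    have hle : stabilizer G f ⊓ stabilizer G k ⊓ stabilizer G c ≤ K :=
      le_inf (inf_le_left.trans inf_le_left) (inf_le_right.trans (h.stab_flag_le c))
    have hd := Subgroup.card_dvd_of_le hle
    rw [h24] at hd
    have hKP : K ≤ stabilizer G (h.pt f) := hK.trans inf_le_left
    have hdisj : h.ker (h.pt f) ⊓ K = ⊥ := by
      refine le_bot_iff.1 ?_
      calc h.ker (h.pt f) ⊓ K ≤ h.ker (h.pt f') ⊓ stabilizer G (h.pt c') := by
            rw [hf', hc']; exact inf_le_inf_left _ inf_le_right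
        _ = ⊥ := n.disj f' c' he'
    have himg := img_card K hKP
    rw [hdisj, Subgroup.card_bot, mul_one] at himg
    have hne' : i ≠ i' := fun hh => hff (by rw [← hi', ← hh, hi])
    have h60 := card_fix_dvd {i, i'} (by simp [hne']) (img K hKP) (by
      intro σ hσ j hj
      simp only [Finset.mem_insert, Finset.mem_singleton] at hj
      rcases hj with rfl | rfl
      · exact img_fix hKP (by rw [hi]; exact inf_le_left) σ hσ
      · exact img_fix hKP (by rw [hi']; exact hK.trans hfix) σ hσ)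
    rw [Finset.card_pair hne', himg] at h60
    obtain ⟨m, hm⟩ := hd
    obtain ⟨m', hm'⟩ := h60
    rw [hm, show ((7 - 2 : ℕ)).factorial = 120 from rfl] at hm'
    have h48 : 48 ∣ 120 := ⟨m * m', by rw [hm']; ring⟩
    norm_num at h48

theorem far_symm {P Q : h.Pt} (hf : h.Far n.Edge P Q) : h.Far n.Edge Q P :=
  ⟨hf.1.symm, fun a b ha hb he => hf.2 b a hb ha (n.symm a b he)⟩

theorem far_smul {P Q : h.Pt} {g : G} (hg : g ∈ stabilizer G P) (hf : h.Far n.Edge P Q) :
    h.Far n.Edge P (g • Q) := by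
  have hgP : g • P = P := mem_stabilizer_iff.1 hg
  refine ⟨fun he => hf.1 (MulAction.injective g (hgP.trans he)), fun a b ha hb he => ?_⟩
  refine hf.2 (g⁻¹ • a) (g⁻¹ • b) ?_ ?_ (n.smul g⁻¹ a b he)
  · rw [h.pt_smul, ha, inv_smul_eq_iff, hgP]
  · rw [h.pt_smul, hb, inv_smul_smul]

/-- first bounds for two points at distance two -/
theorem far_bounds {P Q : h.Pt} (hf : h.Far n.Edge P Q) :
    288 ≤ Nat.card (stabilizer G P ⊓ stabilizer G Q : Subgroup G) ∧
    Nat.card (img (P := P) (stabilizer G P ⊓ stabilizer G Q) inf_le_left) ∣ 72 ∧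
    Nat.card (img (P := P) (stabilizer G P ⊓ stabilizer G Q) inf_le_left) *
      Nat.card (h.ker P ⊓ stabilizer G Q : Subgroup G) =
        Nat.card (stabilizer G P ⊓ stabilizer G Q : Subgroup G) ∧
    (h.ker P ⊓ stabilizer G Q : Subgroup G) ≤ stabilizer G P ∧
    Nat.card (h.ker P ⊓ stabilizer G Q : Subgroup G) ∈ [1, 2, 4, 8] := by
  have hk : h.ker P ≤ stabilizer G P := inf_le_left
  set W := stabilizer G P ⊓ stabilizer G Q with hW
  have horb := card_orbit_mul (stabilizer G P) Q
  rw [h.card_stab_pt] at horb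
  have hle : Nat.card (orbit (stabilizer G P) Q) ≤ 140 := by
    rw [← n.card_far P]
    refine Nat.card_le_card_of_injective
      (fun x => (⟨x.1, ?_⟩ : {Q : h.Pt // h.Far n.Edge P Q})) ?_
    · obtain ⟨g, hg⟩ := x.2
      rw [← hg]; exact far_smul n g.2 hf
    · intro a b hab; exact Subtype.ext (congrArg (fun z => z.1) hab)
  have h288 : 288 ≤ Nat.card W := by
    by_contra hlt
    have h1 := Nat.mul_le_mul hle (show Nat.card W ≤ 287 by omega)
    have h2 : Nat.card (orbit (stabilizer G P) Q) * Nat.card W = 40320 := horb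
    omega
  have himg := img_card (P := P) W inf_le_left
  have heq : h.ker P ⊓ W = h.ker P ⊓ stabilizer G Q := by
    rw [hW, ← inf_assoc, inf_eq_left.2 hk]
  rw [heq] at himg
  refine ⟨h288, ?_, himg, inf_le_left.trans hk, ?_⟩
  · have h2520 : Nat.card (alternatingGroup (Fin 7)) = 2520 := by
      have h2 := two_mul_card_alternatingGroup (α := Fin 7)
      rw [Fintype.card_perm, Fintype.card_fin, show (7 : ℕ).factorial = 5040 from rfl] at h2
      rw [Nat.card_eq_fintype_card]; omega
    have hd := Subgroup.card_subgroup_dvd_card (img (P := P) W inf_le_left)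
    rw [h2520] at hd
    have h5 : ¬ 5 ∣ Nat.card (img (P := P) W inf_le_left) := fun h5 =>
      n.fix5 P Q hf (himg ▸ h5.mul_right _)
    have h7 : ¬ 7 ∣ Nat.card (img (P := P) W inf_le_left) := fun h7 =>
      n.fix7 P Q hf.1 (himg ▸ h7.mul_right _)
    have c5 : (Nat.card (img (P := P) W inf_le_left)).Coprime 5 :=
      ((Nat.prime_five.coprime_iff_not_dvd).2 h5).symm
    have c7 : (Nat.card (img (P := P) W inf_le_left)).Coprime 7 :=
      (((by norm_num : Nat.Prime 7).coprime_iff_not_dvd).2 h7).symm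
    exact (c5.mul_right c7).dvd_of_dvd_mul_right (show _ ∣ 72 * (5 * 7) from hd)
  · have hd := Subgroup.card_dvd_of_le (inf_le_left : h.ker P ⊓ stabilizer G Q ≤ h.ker P)
    rw [h.card_ker _] at hd
    have hne : Nat.card (h.ker P ⊓ stabilizer G Q : Subgroup G) ≠ 16 := fun he =>
      ker_not_le hf.1 (inf_eq_left.1 (Subgroup.eq_of_le_of_card_ge inf_le_left
        (by rw [he, h.card_ker _])))
    obtain ⟨j, hj, hje⟩ := (Nat.dvd_prime_pow Nat.prime_two (m := 4)).1 hd
    rw [hje] at hne ⊢
    interval_cases j <;> simp_all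

/-- the stabiliser of a label and a point -/
theorem flag_inf (f : h.Flag) (Q : h.Pt) :
    stabilizer G (h.pt f) ⊓ stabilizer G Q ⊓ stabilizer G f = stabilizer G f ⊓ stabilizer G Q :=
  le_antisymm (le_inf inf_le_right (inf_le_left.trans inf_le_right))
    (le_inf (inf_le_inf_right _ (h.stab_flag_le f)) inf_le_left)

/-- the pair of points at distance two given by two steps -/
theorem main {f : h.Flag} {Q : h.Pt} (hf : h.Far n.Edge (h.pt f) Q) (h2 : h.Two n.Edge f Q) :
    Nat.card (stabilizer G (h.pt f) ⊓ stabilizer G Q : Subgroup G) = 288 ∧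
    Nat.card (h.ker (h.pt f) ⊓ stabilizer G Q : Subgroup G) = 4 ∧
    Nat.card (stabilizer G f ⊓ stabilizer G Q : Subgroup G) = 96 ∧
    Nat.card (orbit (stabilizer G (h.pt f) ⊓ stabilizer G Q : Subgroup G) f) = 3 ∧
    (h.ker Q ⊓ stabilizer G (h.pt f) ≤ stabilizer G f) ∧
    Nat.card (img (P := h.pt f) (stabilizer G (h.pt f) ⊓ stabilizer G Q) inf_le_left) = 72 := by
  obtain ⟨k, c, e, e', hcQ⟩ := h2
  have hcf : c ≠ f := fun he => hf.1 (by rw [← hcQ, he])
  set P := h.pt f with hP
  set W := stabilizer G P ⊓ stabilizer G Q with hW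
  obtain ⟨h288, hs, himg, -, hker⟩ := far_bounds n hf
  set s := Nat.card (img (P := P) W inf_le_left) with hsdef
  -- the path
  set S := stabilizer G f ⊓ stabilizer G k ⊓ stabilizer G c with hS
  have h24 : Nat.card S = 24 := card_path n e e' hcf
  have hSW : S ≤ W := le_inf (inf_le_left.trans (inf_le_left.trans (h.stab_flag_le f)))
    (hcQ ▸ inf_le_right.trans (h.stab_flag_le c))
  have hSk : h.ker P ⊓ S = ⊥ := le_bot_iff.1 (by
    rw [← n.disj f k e]
    exact inf_le_inf_left _ (inf_le_left.trans (inf_le_right.trans (h.stab_flag_le k))))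
  have hSP : S ≤ stabilizer G P := hSW.trans inf_le_left
  have hSimg := img_card S hSP
  rw [hSk, Subgroup.card_bot, mul_one, h24] at hSimg
  have h24s : 24 ∣ s := hSimg ▸ Subgroup.card_dvd_of_le (img_mono hSP inf_le_left hSW)
  set e₁ := Nat.card (h.ker P ⊓ stabilizer G Q : Subgroup G) with he₁
  have hs72 : s = 72 := by
    have he8 : e₁ ≤ 8 := (by decide : ∀ x ∈ [1, 2, 4, 8], x ≤ 8) _ hker
    have himg2 : s * e₁ = Nat.card (stabilizer G P ⊓ stabilizer G Q : Subgroup G) := himg
    have hbd : 288 ≤ s * e₁ := h288.trans_eq himg2.symm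
    obtain ⟨a, ha⟩ := h24s
    obtain ⟨b, hb⟩ := hs
    rcases a with _ | _ | _ | _ | a
    · rw [ha] at hbd; omega
    · rw [ha] at hbd; omega
    · rw [ha] at hb; omega
    · omega
    · rw [ha] at hb; rcases b with _ | b <;> nlinarith
  -- the stabiliser of the label
  set Wf := stabilizer G f ⊓ stabilizer G Q with hWf
  have hWfW : Wf ≤ W := inf_le_inf_right _ (h.stab_flag_le f)
  have hWfP : Wf ≤ stabilizer G P := hWfW.trans inf_le_left
  have hWfimg := img_card Wf hWfP
  have hkeq : h.ker P ⊓ Wf = h.ker P ⊓ stabilizer G Q := by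
    rw [hWf, ← inf_assoc, inf_eq_left.2 (h.ker_le_stab_flag f)]
  rw [hkeq] at hWfimg
  set sf := Nat.card (img Wf hWfP) with hsf
  have h24f : 24 ∣ sf := hSimg ▸ Subgroup.card_dvd_of_le (img_mono hSP hWfP
    (le_inf (inf_le_left.trans inf_le_left) (hcQ ▸ inf_le_right.trans (h.stab_flag_le c))))
  have hsfs : sf ∣ s := Subgroup.card_dvd_of_le (img_mono hWfP inf_le_left hWfW)
  obtain ⟨i, hi⟩ := (h.chart P).exists_lab f rfl
  have hsfne : sf ≠ 72 :=
    no72 i _ (img_fix hWfP (by rw [hi]; exact inf_le_left))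
  have hsf24 : sf = 24 := by
    have : 0 < sf := Nat.card_pos
    rw [hs72] at hsfs
    obtain ⟨a, ha⟩ := h24f
    obtain ⟨b, hb⟩ := hsfs
    rcases a with _ | _ | _ | _ | a
    · omega
    · omega
    · rw [ha] at hb; omega
    · omega
    · rw [ha] at hb; rcases b with _ | b <;> nlinarith
  rw [hs72] at himg
  rw [hsf24, ← he₁] at hWfimg
  have horb := card_orbit_mul W f
  rw [hW, hP, flag_inf f Q, ← hWf, ← hP, ← hW, ← himg, ← hWfimg] at horb
  have he₁pos : 0 < e₁ := Nat.card_pos
  have h3 : Nat.card (orbit W f) = 3 := by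
    have horb2 : Nat.card (orbit W f) * (24 * e₁) = 72 * e₁ := horb
    have : Nat.card (orbit W f) * 24 * e₁ = 3 * 24 * e₁ := by linarith
    have := Nat.eq_of_mul_eq_mul_right he₁pos this
    omega
  -- the kernel on the other side
  set U := h.ker Q ⊓ stabilizer G P with hU
  have hUW : U ≤ W := le_inf inf_le_right (inf_le_left.trans inf_le_left)
  have hUconj : ∀ w ∈ W, ∀ r ∈ U, w⁻¹ * r * w ∈ U := by
    intro w hw r hr
    refine ⟨?_, (stabilizer G P).mul_mem ((stabilizer G P).mul_mem
      ((stabilizer G P).inv_mem hw.1) hr.2) hw.1⟩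
    simpa using h.conj_mem_ker (inv_mem (show w ∈ stabilizer G Q from hw.2)) hr.1
  have hU2 : IsPGroup 2 U := by
    intro r
    refine ⟨1, Subtype.ext ?_⟩
    simpa [pow_two] using h.sq_ker r.2.1
  have hUfix : ∀ r ∈ U, ∀ x ∈ orbit W f, r • x = x := by
    letI : MulAction U (orbit W f) := MulAction.compHom _ (Subgroup.inclusion hUW)
    have : Fact (Nat.Prime 2) := ⟨Nat.prime_two⟩
    obtain ⟨⟨x₀, hx₀⟩, hfx⟩ := hU2.nonempty_fixed_point_of_prime_not_dvd_card (orbit W f)
      (by rw [h3]; omega)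
    intro r hr x hx
    obtain ⟨w, rfl⟩ := hx
    obtain ⟨w₀, rfl⟩ := hx₀
    have hmem : (w.1 * w₀.1⁻¹)⁻¹ * r * (w.1 * w₀.1⁻¹) ∈ U :=
      hUconj _ (mul_mem w.2 (inv_mem w₀.2)) r hr
    have hh := congrArg Subtype.val (hfx ⟨_, hmem⟩)
    change ((w.1 * w₀.1⁻¹)⁻¹ * r * (w.1 * w₀.1⁻¹)) • (w₀.1 • f) = w₀.1 • f at hh
    change r • (w.1 • f) = w.1 • f
    simp only [← mul_smul] at hh ⊢
    have := congrArg ((w.1 * w₀.1⁻¹) • ·) hh
    simp only [← mul_smul] at this
    simpa [mul_assoc] using this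
  have hUf : U ≤ stabilizer G f := fun r hr =>
    mem_stabilizer_iff.2 (hUfix r hr f (mem_orbit_self _))
  have hUP : U ≤ stabilizer G P := inf_le_right
  have hUk : h.ker P ⊓ U = ⊥ := le_bot_iff.1 (by
    rw [← ker_inter hf.1]; exact inf_le_inf_left _ inf_le_left)
  have hUimg := img_card U hUP
  rw [hUk, Subgroup.card_bot, mul_one] at hUimg
  have hU4 : Nat.card U ≤ 4 := by
    classical
    let T : Finset (Fin 7) := Finset.univ.filter fun j => (h.chart P).lab j ∈ orbit W f
    have hT : T.card = 3 := by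
      rw [← h3, Nat.card_coe_set_eq]
      have : (orbit W f) = (h.chart P).lab '' (T : Set (Fin 7)) := by
        ext x
        constructor
        · intro hx
          obtain ⟨w, rfl⟩ := hx
          have hp : h.pt (w.1 • f) = P := by
            rw [h.pt_smul, ← hP]; exact mem_stabilizer_iff.1 w.2.1
          obtain ⟨j, hj⟩ := (h.chart P).exists_lab _ hp
          refine ⟨j, ?_, hj⟩
          simp only [T, Finset.coe_filter, Finset.mem_univ, true_and, Set.mem_ofPred_eq, hj]
          exact ⟨w, rfl⟩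
        · rintro ⟨j, hj, rfl⟩
          simpa [T] using hj
      rw [this, Set.ncard_image_of_injective _ (h.chart P).inj, Set.ncard_coe_finset]
    have hd := card_fix_dvd T (by omega) (img U hUP) (by
      rintro _ ⟨r, rfl⟩ j hj
      apply (h.chart P).inj
      rw [Finset.mem_filter] at hj
      exact ((h.chart P).smul_lab _ j).symm.trans (hUfix r r.2 _ hj.2))
    rw [hT, hUimg] at hd
    have hd16 := Subgroup.card_dvd_of_le (inf_le_left : U ≤ h.ker Q)
    rw [h.card_ker _] at hd16
    have h12 : Nat.card U ∣ 12 := Nat.dvd_of_mul_dvd_mul_left (by norm_num : 0 < 2)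
      (by simpa [Nat.factorial] using hd)
    exact Nat.le_of_dvd (by norm_num) (show Nat.card U ∣ Nat.gcd 12 16 from Nat.dvd_gcd h12 hd16)
  obtain ⟨-, hs', himg', -, -⟩ := far_bounds n (far_symm n hf)
  have hW' : Nat.card (stabilizer G Q ⊓ stabilizer G P : Subgroup G) = Nat.card W := by
    rw [hW, inf_comm]
  rw [hW'] at himg'
  have hW288 : Nat.card W = 288 := by
    refine le_antisymm ?_ h288
    rw [← himg']
    exact Nat.mul_le_mul (Nat.le_of_dvd (by norm_num) hs') hU4
  have he4 : e₁ = 4 := by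
    have h5 : 72 * e₁ = Nat.card W := himg
    omega
  refine ⟨hW288, he4, ?_, h3, hUf, hs72⟩
  rw [← hWfimg, he4]

/-- every pair of points at distance two is reached by two steps -/
theorem exists_two (hcard : Nat.card G = 10200960) {P Q : h.Pt} (hf : h.Far n.Edge P Q) :
    ∃ f, h.pt f = P ∧ h.Two n.Edge f Q := by
  let f₀ := (h.chart P).lab 0
  have hP : h.pt f₀ = P := (h.chart P).pt_lab 0
  have hne : Nonempty {k // n.Edge f₀ k} := (Nat.card_pos_iff.1 (by rw [n.card16]; omega)).1
  obtain ⟨⟨k, e⟩⟩ := hne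
  have hne' : Nonempty {c // n.Edge k c ∧ c ≠ f₀} :=
    (Nat.card_pos_iff.1 (by rw [card_others n e]; omega)).1
  obtain ⟨⟨c, e', hcf⟩⟩ := hne'
  have hfar : h.Far n.Edge P (h.pt c) := hP ▸ two_far n hcard e e' hcf
  have h288 := (main n (hP.symm ▸ hfar) ⟨k, c, e, e', rfl⟩).1
  rw [hP] at h288
  have horb := card_orbit_mul (stabilizer G P) (h.pt c)
  rw [h.card_stab_pt, h288] at horb
  have hset : orbit (stabilizer G P) (h.pt c) = {Q | h.Far n.Edge P Q} := by
    refine Set.eq_of_subset_of_ncard_le ?_ ?_ (Set.toFinite _)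
    · rintro _ ⟨g, rfl⟩; exact far_smul n g.2 hfar
    · rw [← Nat.card_coe_set_eq, ← Nat.card_coe_set_eq]
      change Nat.card {Q : h.Pt // h.Far n.Edge P Q} ≤ _
      have h2 : Nat.card (orbit (stabilizer G P) (h.pt c)) * 288 = 40320 := horb
      rw [n.card_far]; omega
  have hQ : Q ∈ orbit (stabilizer G P) (h.pt c) := by rw [hset]; exact hf
  obtain ⟨g, rfl⟩ := hQ
  refine ⟨g.1 • f₀, ?_, g.1 • k, g.1 • c, n.smul _ _ _ e, n.smul _ _ _ e', h.pt_smul _ _⟩
  rw [h.pt_smul, hP]; exact mem_stabilizer_iff.1 g.2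

theorem two_smul {f : h.Flag} {Q : h.Pt} {g : G} (hg : g • Q = Q) (h2 : h.Two n.Edge f Q) :
    h.Two n.Edge (g • f) Q := by
  obtain ⟨k, c, e, e', rfl⟩ := h2
  exact ⟨g • k, g • c, n.smul g f k e, n.smul g k c e', by rw [h.pt_smul, hg]⟩

/-- a label outside the triple has an orbit of four -/
theorem off_orbit {f f' : h.Flag} {Q : h.Pt} (hf : h.Far n.Edge (h.pt f) Q)
    (h2 : h.Two n.Edge f Q) (hf' : h.pt f' = h.pt f)
    (hno : f' ∉ orbit (stabilizer G (h.pt f) ⊓ stabilizer G Q : Subgroup G) f) :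
    Nat.card (orbit (stabilizer G (h.pt f) ⊓ stabilizer G Q : Subgroup G) f') = 4 := by
  classical
  obtain ⟨h288, -, -, h3, -, hs72⟩ := main n hf h2
  set P := h.pt f with hP
  set W := stabilizer G P ⊓ stabilizer G Q with hW
  let Fib : Set h.Flag := {a | h.pt a = P}
  have hFib : Fib.ncard = 7 := by rw [← Nat.card_coe_set_eq]; exact h.card_fibre P
  have hsubF : ∀ a, h.pt a = P → orbit W a ⊆ Fib := by
    rintro a ha _ ⟨w, rfl⟩
    change h.pt (w.1 • a) = P
    rw [h.pt_smul, ha]; exact mem_stabilizer_iff.1 w.2.1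
  have hC : (Fib \ orbit W f).ncard = 4 := by
    rw [Set.ncard_sdiff (hsubF f rfl) (Set.toFinite _), hFib, ← Nat.card_coe_set_eq, h3]
  have hsub : ∀ a ∈ Fib \ orbit W f, orbit W a ⊆ Fib \ orbit W f := by
    rintro a ⟨ha, hna⟩ x hx
    refine ⟨hsubF a ha hx, fun hxf => hna ?_⟩
    rw [← orbit_eq_iff.2 hxf, orbit_eq_iff.2 hx]; exact mem_orbit_self _
  have hfix : ∀ a, h.pt a = P → (orbit W a).ncard ≠ 1 := by
    intro a ha h1
    obtain ⟨i, hi⟩ := (h.chart P).exists_lab a ha
    refine no72 i _ (img_fix (inf_le_left : W ≤ _) ?_) hs72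
    intro w hw
    obtain ⟨b, hb⟩ := Set.ncard_eq_one.1 h1
    rw [mem_stabilizer_iff, hi]
    have m1 : w • a ∈ orbit W a := ⟨⟨w, hw⟩, rfl⟩
    have m2 : a ∈ orbit W a := mem_orbit_self _
    rw [hb] at m1 m2
    exact m1.trans m2.symm
  -- an element of order three moving a label outside the triple
  have : Fact (Nat.Prime 3) := ⟨Nat.prime_three⟩
  obtain ⟨T⟩ : Nonempty (Sylow 3 W) := inferInstance
  have hT : Nat.card (T : Subgroup W) = 9 := by
    rw [T.card_eq_multiplicity, h288,
      show (288 : ℕ).factorization 3 = 2 by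
        rw [show (288 : ℕ) = 3 ^ 2 * 32 by norm_num, Nat.factorization_mul (by norm_num) (by norm_num),
          Finsupp.add_apply, Nat.prime_three.factorization_pow, Finsupp.single_eq_same,
          Nat.factorization_eq_zero_of_not_dvd (by norm_num)]]
    norm_num
  let φ : (T : Subgroup W) →* Equiv.Perm (orbit W f) :=
    (MulAction.toPermHom W (orbit W f)).comp (T : Subgroup W).subtype
  have hker : φ.ker ≠ ⊥ := by
    intro hb
    have := Subgroup.card_dvd_of_injective φ ((MonoidHom.ker_eq_bot_iff _).1 hb)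
    rw [hT, Nat.card_perm, h3] at this
    simp [Nat.factorial] at this
  obtain ⟨⟨t, htk⟩, ht1⟩ : ∃ t : φ.ker, t ≠ 1 := by
    by_contra hh; push Not at hh
    exact hker ((Subgroup.eq_bot_iff_forall _).2 fun t ht => congrArg Subtype.val (hh ⟨t, ht⟩))
  let x : G := ((t : W) : G)
  have hx : x ∈ W := (t : W).2
  have hxf : ∀ a ∈ orbit W f, x • a = a := fun a ha =>
    congrArg (fun q : Equiv.Perm (orbit W f) => (q ⟨a, ha⟩ : h.Flag)) (MonoidHom.mem_ker.1 htk)
  have hxne : x ≠ 1 := fun hx1 => ht1 (Subtype.ext (Subtype.ext (Subtype.ext hx1)))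
  obtain ⟨j, hj⟩ := T.2.exists_card_eq
  have hxpow : x ^ 9 = 1 := by
    have := pow_card_eq_one' (x := t)
    rw [hT] at this
    simpa [x] using congrArg (fun z : (T : Subgroup W) => ((z : W) : G)) this
  obtain ⟨b, hb, hmove⟩ : ∃ b ∈ Fib \ orbit W f, x • b ≠ b := by
    by_contra hh; push Not at hh
    have hk : x ∈ h.ker P := ⟨hx.1, Subgroup.mem_iInf.2 fun a => by
      by_cases ha : a.1 ∈ orbit W f
      · exact mem_stabilizer_iff.2 (hxf _ ha)
      · exact mem_stabilizer_iff.2 (hh a.1 ⟨a.2, ha⟩)⟩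
    apply hxne
    have h2' := h.sq_ker hk
    calc x = x * ((x * x) ^ 4) := by rw [h2', one_pow, mul_one]
      _ = x ^ 9 := by simp [pow_succ, mul_assoc]
      _ = 1 := hxpow
  have h4 : (orbit W b).ncard = 4 := by
    have hle : (orbit W b).ncard ≤ 4 := hC ▸ Set.ncard_le_ncard (hsub b hb) (Set.toFinite _)
    have h2le : 3 ≤ (orbit W b).ncard := by
      have hm : ∀ i : ℕ, x ^ i • b ∈ orbit W b := fun i =>
        ⟨⟨x ^ i, pow_mem hx i⟩, rfl⟩
      have hsq : x ^ 2 • b ≠ b := by
        intro hh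
        apply hmove
        have h8 : x ^ 8 • b = b := by
          rw [show x ^ 8 = x ^ 2 * (x ^ 2 * (x ^ 2 * x ^ 2)) by group]
          simp only [mul_smul, hh]
        have h9 : x ^ 9 • b = b := by rw [hxpow, one_smul]
        rw [show x ^ 9 = x * x ^ 8 by group, mul_smul, h8] at h9
        exact h9
      have hsub3 : ({b, x • b, x ^ 2 • b} : Set h.Flag) ⊆ orbit W b := by
        rintro _ (rfl | rfl | rfl)
        · exact mem_orbit_self _
        · simpa using hm 1
        · exact hm 2
      refine le_trans ?_ (Set.ncard_le_ncard hsub3 (Set.toFinite _))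
      rw [Set.ncard_eq_three.2 ⟨b, x • b, x ^ 2 • b, hmove.symm, hsq.symm, ?_, rfl⟩]
      intro hh
      rw [pow_two, mul_smul] at hh
      exact hmove (MulAction.injective x hh).symm
    rcases Nat.lt_or_ge (orbit W b).ncard 4 with hlt | hge
    · exfalso
      have h1 : ((Fib \ orbit W f) \ orbit W b).ncard = 1 := by
        rw [Set.ncard_sdiff (hsub b hb) (Set.toFinite _), hC]; omega
      obtain ⟨a, ha⟩ := Set.ncard_eq_one.1 h1
      have haC : a ∈ (Fib \ orbit W f) \ orbit W b := by rw [ha]; rfl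
      refine hfix a haC.1.1 (Set.ncard_eq_one.2 ⟨a, ?_⟩)
      refine Set.Subset.antisymm (fun y hy => ?_) (fun y hy => hy ▸ mem_orbit_self _)
      rw [← ha]
      refine ⟨hsub a haC.1 hy, fun hyb => haC.2 ?_⟩
      rw [← orbit_eq_iff.2 hyb, orbit_eq_iff.2 hy]; exact mem_orbit_self _
    · omega
  have hall : orbit W b = Fib \ orbit W f :=
    Set.eq_of_subset_of_ncard_le (hsub b hb) (by rw [h4, hC]) (Set.toFinite _)
  have hf'b : f' ∈ orbit W b := by rw [hall]; exact ⟨hf', hno⟩
  rw [orbit_eq_iff.2 hf'b, Nat.card_coe_set_eq, h4]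

/-- the facts about the orbit of length 140 -/
theorem farFacts (hcard : Nat.card G = 10200960) : FarFacts n := by
  have horbTwo : ∀ f Q, h.Far n.Edge (h.pt f) Q → h.Two n.Edge f Q →
      ∀ a, (h.pt a = h.pt f ∧ h.Two n.Edge a Q) ↔
        a ∈ orbit (stabilizer G (h.pt f) ⊓ stabilizer G Q : Subgroup G) f := by
    intro f Q hf h2 a
    constructor
    · rintro ⟨ha, ha2⟩
      by_contra hno
      have h4 := off_orbit n hf h2 ha hno
      have h3 := (main n (ha.symm ▸ hf) ha2).2.2.2.1
      rw [ha] at h3; omega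
    · rintro ⟨w, rfl⟩
      exact ⟨(h.pt_smul w.1 f).trans (mem_stabilizer_iff.1 w.2.1),
        two_smul n (mem_stabilizer_iff.1 w.2.2) h2⟩
  refine ⟨fun f k c e e' hc => two_far n hcard e e' hc, ?_, ?_, ?_,
    fun f Q hf h2 => (main n hf h2).2.2.1, ?_, fun f Q hf h2 => (main n hf h2).2.2.2.2.1, ?_⟩
  · intro P Q hf
    obtain ⟨f, rfl, h2⟩ := exists_two n hcard hf
    rw [← (main n hf h2).2.2.2.1]
    exact Nat.card_congr (Equiv.subtypeEquivRight (horbTwo f Q hf h2))
  · intro f Q hf h2
    obtain ⟨k, c, e, e', rfl⟩ := h2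
    have hcf : c ≠ f := fun he => hf.1 (by rw [he])
    have h2 : h.Two n.Edge f (h.pt c) := ⟨k, c, e, e', rfl⟩
    let H := stabilizer G f ⊓ stabilizer G (h.pt c)
    have horb := card_orbit_mul H k
    have hst : H ⊓ stabilizer G k = stabilizer G f ⊓ stabilizer G k ⊓ stabilizer G c := by
      refine le_antisymm (fun g hg => ⟨⟨hg.1.1, hg.2⟩, ?_⟩) (fun g hg => ⟨⟨hg.1.1,
        h.stab_flag_le c hg.2⟩, hg.1.2⟩)
      refine mem_stabilizer_iff.2 (n.inj k _ _ ?_ e' ?_)
      · have := n.smul g k c e'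
        rwa [mem_stabilizer_iff.1 hg.2] at this
      · rw [h.pt_smul, mem_stabilizer_iff.1 hg.1.2]
    rw [hst, card_path n e e' hcf, show Nat.card H = 96 from (main n hf h2).2.2.1] at horb
    have hset : orbit H k = {k' | n.Edge f k' ∧ ∃ c', n.Edge k' c' ∧ h.pt c' = h.pt c} := by
      ext k'
      constructor
      · rintro ⟨g, rfl⟩
        change n.Edge f (g.1 • k) ∧ ∃ c', n.Edge (g.1 • k) c' ∧ h.pt c' = h.pt c
        refine ⟨?_, g.1 • c, n.smul _ _ _ e', by rw [h.pt_smul, mem_stabilizer_iff.1 g.2.2]⟩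
        have := n.smul g.1 f k e
        rwa [mem_stabilizer_iff.1 g.2.1] at this
      · rintro ⟨ek, c', ec', hc'⟩
        obtain ⟨r, hr, rfl⟩ := n.torsor f k k' e ek
        have hrf : r • f = f := mem_stabilizer_iff.1 (h.ker_le_stab_flag f hr)
        have hcf' : c' ≠ f := fun he => hf.1 (by rw [← hc', he])
        have hrc : r • c ≠ f := fun he => hcf (MulAction.injective r (he.trans hrf.symm))
        obtain ⟨g, hg, hgc⟩ := n.trans15 f (r • k) (r • c) c' ek (n.smul r k c e') ec' hrc hcf'
        refine ⟨⟨g * r, ⟨mul_mem hg.1 (h.ker_le_stab_flag f hr), ?_⟩⟩, ?_⟩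
        · change (g * r) • h.pt c = h.pt c
          rw [mul_smul, ← h.pt_smul, ← h.pt_smul, hgc, hc']
        · change (g * r) • k = r • k
          rw [mul_smul]; exact mem_stabilizer_iff.1 hg.2
    have h5 : Nat.card (orbit H k) * 24 = 96 := horb
    rw [hset] at h5
    change Nat.card {k' : h.Flag // n.Edge f k' ∧ ∃ c', n.Edge k' c' ∧ h.pt c' = h.pt c} * 24 = 96
      at h5
    omega
  · intro P Q hf
    obtain ⟨f, rfl, h2⟩ := exists_two n hcard hf
    exact (main n hf h2).2.1
  · intro f' Q hf hno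
    obtain ⟨f, hfP, h2⟩ := exists_two n hcard hf
    rw [← hfP] at hf
    have hnot : f' ∉ orbit (stabilizer G (h.pt f) ⊓ stabilizer G Q : Subgroup G) f :=
      fun hh => hno ((horbTwo f Q hf h2 f').2 hh).2
    have h4 := off_orbit n hf h2 hfP.symm hnot
    have horb := card_orbit_mul (stabilizer G (h.pt f) ⊓ stabilizer G Q : Subgroup G) f'
    have h5 : Nat.card (orbit (stabilizer G (h.pt f) ⊓ stabilizer G Q : Subgroup G) f') *
        Nat.card (stabilizer G f' ⊓ stabilizer G Q : Subgroup G) = 288 := by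
      rw [← (main n hf h2).1, ← flag_inf f' Q, ← hfP]; exact horb
    rw [h4] at h5
    omega
  · intro f Q hf h2 x hx hx3 r hr hcomm
    classical
    set P := h.pt f with hP
    set O := orbit (stabilizer G P ⊓ stabilizer G Q : Subgroup G) f with hO
    have h3 : Nat.card O = 3 := (main n hf h2).2.2.2.1
    have hxW : x ∈ stabilizer G P ⊓ stabilizer G Q := ⟨h.stab_flag_le f hx.1, hx.2⟩
    have hxO : ∀ a ∈ O, x • a ∈ O := fun a ha =>
      mem_orbit_of_mem_orbit (⟨x, hxW⟩ : ↥(stabilizer G P ⊓ stabilizer G Q)) ha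
    have hfix : ∀ a ∈ O, x • a = a := by
      intro a ha
      by_contra hne
      have hx1 : x • f = f := mem_stabilizer_iff.1 hx.1
      have h3' : x ^ 3 • a = a := by rw [← hx3, pow_orderOf_eq_one, one_smul]
      have e3 : x • x • x • a = a := by
        rw [← mul_smul, ← mul_smul, mul_assoc, ← pow_two, ← pow_succ']; exact h3'
      have ne1 : x • x • a ≠ a := fun hh => hne (by rwa [hh] at e3)
      have ne2 : x • x • a ≠ x • a := fun hh => hne (MulAction.injective x hh)
      have haf : a ≠ f := fun hh => hne (by rw [hh, hx1])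
      have hbf : x • a ≠ f := fun hh => haf (MulAction.injective x (hh.trans hx1.symm))
      have hcf : x • x • a ≠ f := fun hh => hbf (MulAction.injective x (hh.trans hx1.symm))
      have hsub : ({f, a, x • a, x • x • a} : Set h.Flag) ⊆ O := by
        rintro _ (rfl | rfl | rfl | rfl)
        exacts [mem_orbit_self _, ha, hxO a ha, hxO _ (hxO a ha)]
      have := Set.ncard_le_ncard hsub (Set.toFinite _)
      rw [← Nat.card_coe_set_eq O, h3, Set.ncard_insert_of_notMem
        (by simp [haf.symm, hbf.symm, hcf.symm]) (Set.toFinite _),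
        Set.ncard_eq_three.2 ⟨a, x • a, x • x • a, fun hh => hne hh.symm, ne1.symm, ne2.symm, rfl⟩]
        at this
      omega
    let L := h.chart P
    let y : stabilizer G P := ⟨x, hxW.1⟩
    let T : Finset (Fin 7) := Finset.univ.filter fun j => L.lab j ∈ O
    have hOsub : ∀ a ∈ O, h.pt a = P := by
      rintro _ ⟨w, rfl⟩
      exact (h.pt_smul w.1 f).trans (mem_stabilizer_iff.1 w.2.1)
    have hT : T.card = 3 := by
      rw [← h3, Nat.card_coe_set_eq]
      have hOeq : O = L.lab '' (T : Set (Fin 7)) := by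
        ext a
        constructor
        · intro ha
          obtain ⟨j, rfl⟩ := L.exists_lab a (hOsub a ha)
          exact ⟨j, by simp [T, ha], rfl⟩
        · rintro ⟨j, hj, rfl⟩
          simpa [T] using hj
      rw [hOeq, Set.ncard_image_of_injective _ L.inj, Set.ncard_coe_finset]
    have hord : orderOf ((L.ρ y : Equiv.Perm (Fin 7))) = 3 := by
      have : Fact (Nat.Prime 3) := ⟨Nat.prime_three⟩
      refine orderOf_eq_prime ?_ ?_
      · rw [← SubmonoidClass.coe_pow, ← map_pow,
          show y ^ 3 = 1 from Subtype.ext (by simp [y, ← hx3, pow_orderOf_eq_one]), map_one,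
          OneMemClass.coe_one]
      · intro h1
        have hk : x ∈ h.ker P := (ker_iff P y).1 (Subtype.ext h1)
        have hd : orderOf x ∣ 2 :=
          orderOf_dvd_of_pow_eq_one (by rw [pow_two]; exact h.sq_ker hk)
        rw [hx3] at hd; omega
    refine L.fpf y (isThreeCycle_of_fix _ hord T hT fun j hj => ?_) r hr hcomm
    apply L.inj
    rw [← L.smul_lab y j]
    exact hfix _ (Finset.mem_filter.1 hj).2

/-- the orbit of length 140 -/
theorem far : StmtFar.{u} := fun _ _ _ hF _ n => farFacts n hF.card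

end CfsgLib.M23Nse.FarProof
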