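import Cfsg.Agent.S0997
import Cfsg.Agent.Lib.Classical.Order

/-!
# S3595, piece B: a group of order 2688 like an involution centralizer in `M23`

A group `H` of order 2688 with a central involution `z`, self-centralizing `7` up to `z` with
normalizer of order 42, and centralizers of order 12 at the elements of order 3, has a
self-centralizing elementary abelian normal subgroup `R` of order 16 with simple quotient.
-/

set_option autoImplicit false
set_option linter.style.haveILetI false
set_option linter.unusedSectionVars false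

namespace CfsgLib.M23Nse.HeptadP

open Subgroup MulAction

universe u

/-- The data of the involution centralizer. -/
structure Core (H : Type u) [Group H] (z : H) : Prop where
  card : Nat.card H = 2688
  ord : orderOf z = 2
  central : ∀ h : H, h * z = z * h
  cent7 : ∀ u : H, orderOf u = 7 → Nat.card (centralizer ({u} : Set H)) = 14
  norm7 : ∀ u : H, orderOf u = 7 → Nat.card (normalizer (zpowers u : Set H)) = 42
  cent3 : ∀ x : H, orderOf x = 3 → Nat.card (centralizer ({x} : Set H)) = 12

variable {H : Type u} [Group H] [Finite H]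

/-- an element normalizing a group of order three either centralizes or inverts a generator -/
theorem conj_three {x g : H} (hx : orderOf x = 3) (hg : g ∈ normalizer (zpowers x : Set H)) :
    g * x * g⁻¹ = x ∨ g * x * g⁻¹ = x⁻¹ := by
  have hm := (mem_normalizer_iff.1 hg x).1 (mem_zpowers x)
  obtain ⟨i, hi⟩ := mem_powers_iff_mem_zpowers.2 hm
  have hi' : x ^ (i % 3) = g * x * g⁻¹ := by
    rw [← hx, pow_mod_orderOf]; exact hi
  have hlt : i % 3 < 3 := Nat.mod_lt _ (by norm_num)
  interval_cases hj : i % 3
  · exfalso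
    rw [pow_zero] at hi'
    have : x = 1 := conj_eq_one_iff.1 hi'.symm
    rw [this, orderOf_one] at hx
    norm_num at hx
  · exact Or.inl (by rw [← hi', pow_one])
  · refine Or.inr ?_
    rw [← hi', eq_inv_iff_mul_eq_one, ← pow_succ]
    exact orderOf_dvd_iff_pow_eq_one.1 (hx.dvd)

/-- the fixed points of a `p`-element acting by conjugation count a normalized subgroup modulo `p` -/
theorem card_modEq_fixed {p n : ℕ} [Fact p.Prime] {u : H} (hu : orderOf u = p ^ n) (R : Subgroup H)
    (hn : u ∈ normalizer (R : Set H)) :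
    Nat.card R ≡ Nat.card ↥(R ⊓ centralizer ({u} : Set H)) [MOD p] := by
  classical
  let ρ : zpowers u →* MulAut R :=
    (normalizerMonoidHom R).comp (inclusion (zpowers_le.2 hn))
  letI : MulAction (zpowers u) R := MulAction.compHom R ρ
  have hp : IsPGroup p (zpowers u) := IsPGroup.of_card (by rw [Nat.card_zpowers, hu])
  have h := hp.card_modEq_card_fixedPoints (α := R)
  refine h.trans (congrArg (· % p) (Nat.card_congr ?_))
  have key : ∀ (g : zpowers u) (r : R), ((g • r : R) : H) = (g : H) * r * (g : H)⁻¹ := fun g r => rfl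
  exact
    { toFun := fun r => ⟨(r.1 : H), r.1.2, mem_centralizer_singleton_iff.2 (by
        have e : ((⟨u, mem_zpowers u⟩ : zpowers u) • r.1 : R) = r.1 := r.2 ⟨u, mem_zpowers u⟩
        have e' := congrArg Subtype.val e
        rw [key] at e'
        exact (mul_inv_eq_iff_eq_mul.1 e').symm)⟩
      invFun := fun r => ⟨⟨r.1, r.2.1⟩, fun g => Subtype.ext (by
        rw [key]
        obtain ⟨i, hi⟩ := mem_zpowers_iff.1 g.2
        rw [← hi]
        have hc : Commute u (r : H) := (mem_centralizer_singleton_iff.1 r.2.2).symm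
        exact mul_inv_eq_iff_eq_mul.2 (hc.zpow_left i).eq)⟩
      left_inv := fun r => rfl
      right_inv := fun r => rfl }

variable {z : H} (D : Core H z)

include D

theorem exists_seven : ∃ u : H, orderOf u = 7 := by
  haveI : Fact (Nat.Prime 7) := ⟨by norm_num⟩
  exact exists_prime_orderOf_dvd_card' 7 (by rw [D.card]; norm_num)

theorem exists_three : ∃ x : H, orderOf x = 3 :=
  haveI : Fact (Nat.Prime 3) := ⟨by norm_num⟩
  exists_prime_orderOf_dvd_card' 3 (by rw [D.card]; norm_num)

/-- an involution centralizing an element of order seven is `z` -/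
theorem cent_seven {u r : H} (hu : orderOf u = 7) (hr : r * r = 1) (hc : r * u = u * r) :
    r = 1 ∨ r = z := by
  have hz : Commute u z := D.central u
  have hord : orderOf (u * z) = 14 := by
    rw [hz.orderOf_mul_eq_mul_orderOf_of_coprime (by rw [hu, D.ord]; norm_num), hu, D.ord]
  have hle : zpowers (u * z) ≤ centralizer ({u} : Set H) :=
    zpowers_le.2 (mem_centralizer_singleton_iff.2 (by
      rw [mul_assoc u z u, ← D.central u]))
  have heq := Subgroup.eq_of_le_of_card_ge hle (by rw [Nat.card_zpowers, hord, D.cent7 u hu])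
  obtain ⟨i, hi⟩ := mem_powers_iff_mem_zpowers.2
    (heq ▸ mem_centralizer_singleton_iff.2 hc : r ∈ zpowers (u * z))
  simp only at hi
  have h14 : 14 ∣ i + i := by
    rw [← hord, orderOf_dvd_iff_pow_eq_one, pow_add, hi, hr]
  obtain ⟨j, rfl⟩ : 7 ∣ i := by omega
  have h7 : (u * z) ^ 7 = z := by
    rw [hz.mul_pow, show u ^ 7 = 1 by rw [← hu]; exact pow_orderOf_eq_one u, one_mul,
      show (7 : ℕ) = 2 * 3 + 1 by norm_num, pow_succ, pow_mul,
      show z ^ 2 = 1 by rw [← D.ord]; exact pow_orderOf_eq_one z, one_pow, one_mul]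
  rw [pow_mul, h7] at hi
  have hz2 : z ^ 2 = 1 := by rw [← D.ord]; exact pow_orderOf_eq_one z
  rcases Nat.even_or_odd j with ⟨k, rfl⟩ | ⟨k, rfl⟩
  · exact Or.inl (by rw [← hi, ← two_mul, pow_mul, hz2, one_pow])
  · exact Or.inr (by rw [← hi, pow_succ, pow_mul, hz2, one_pow, one_mul])

theorem fix_seven {u : H} (hu : orderOf u = 7) (R : Subgroup H) (hR : IsPGroup 2 R) (hz : z ∈ R) :
    ∀ r ∈ R, r * u = u * r → r = 1 ∨ r = z := by
  intro r hr hc
  obtain ⟨k, hk⟩ := hR ⟨r, hr⟩
  have h2 : r ^ 2 ^ k = 1 := congrArg Subtype.val hk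
  have h14 : r ^ 14 = 1 := by
    have hmem : r ∈ centralizer ({u} : Set H) := mem_centralizer_singleton_iff.2 hc
    have := congrArg Subtype.val (pow_card_eq_one' (x := (⟨r, hmem⟩ : centralizer ({u} : Set H))))
    rw [D.cent7 u hu] at this
    exact this
  have hg := pow_gcd_eq_one.2 ⟨h2, h14⟩
  refine cent_seven D hu ?_ hc
  have hd : Nat.gcd (2 ^ k) 14 ∣ 2 := by
    have h1 : (Nat.gcd (2 ^ k) 14).Coprime 7 :=
      (Nat.Coprime.pow_left k (by norm_num)).coprime_dvd_left (Nat.gcd_dvd_left _ _)
    exact h1.dvd_of_dvd_mul_right (Nat.gcd_dvd_right _ _ : Nat.gcd (2 ^ k) 14 ∣ 2 * 7)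
  obtain ⟨c, hc'⟩ := hd
  rw [← sq, hc', pow_mul, hg, one_pow]

/-- the normalizer of a group of order three has order 24, so some element inverts -/
theorem inverter {x : H} (hx : orderOf x = 3) :
    Nat.card (normalizer (zpowers x : Set H)) = 24 ∧ ∃ s : H, s * x * s⁻¹ = x⁻¹ := by
  haveI : Fact (Nat.Prime 3) := ⟨by norm_num⟩
  set N := normalizer (zpowers x : Set H) with hN
  have hCN : centralizer ({x} : Set H) ≤ N := by
    intro g hg
    have hc : Commute g x := mem_centralizer_singleton_iff.1 hg
    refine mem_normalizer_iff.2 fun r => ⟨fun hr => ?_, fun hr => ?_⟩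
    · obtain ⟨i, rfl⟩ := mem_zpowers_iff.1 hr
      rw [(hc.zpow_right i).eq, mul_inv_cancel_right]
      exact zpow_mem (mem_zpowers x) i
    · obtain ⟨i, hi⟩ := mem_zpowers_iff.1 hr
      refine mem_zpowers_iff.2 ⟨i, ?_⟩
      have : g * x ^ i * g⁻¹ = g * r * g⁻¹ := by rw [(hc.zpow_right i).eq, mul_inv_cancel_right, hi]
      exact mul_left_cancel (mul_right_cancel this)
  have hne : ¬ N ≤ centralizer ({x} : Set H) := by
    intro hle
    let P : Sylow 3 H := Sylow.ofCard (zpowers x) (by
      rw [Nat.card_zpowers, hx, D.card]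
      rw [show (2688 : ℕ) = 3 * 896 by norm_num, Nat.factorization_mul (by norm_num) (by norm_num)]
      simp [Nat.factorization_eq_zero_of_not_dvd (show ¬ 3 ∣ 896 by norm_num),
        (show Nat.Prime 3 by norm_num).factorization_self])
    have h1 := card_sylow_modEq_one 3 H
    have h2 : Nat.card (Sylow 3 H) = N.index := P.card_eq_index_normalizer
    have h3 := N.card_mul_index
    rw [le_antisymm hle hCN, D.cent3 x hx, D.card] at h3
    rw [le_antisymm hle hCN] at h2
    have h4 : Nat.card (Sylow 3 H) = 224 := by omega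
    rw [h4, Nat.ModEq] at h1
    norm_num at h1
  obtain ⟨s, hs, hsC⟩ := SetLike.not_le_iff_exists.1 hne
  have hinv : ∀ g ∈ N, g ∉ centralizer ({x} : Set H) → g * x * g⁻¹ = x⁻¹ := fun g hg hgC =>
    (conj_three hx hg).resolve_left fun h =>
      hgC (mem_centralizer_singleton_iff.2 (mul_inv_eq_iff_eq_mul.1 h))
  refine ⟨?_, s, hinv s hs hsC⟩
  have h2 : ((centralizer ({x} : Set H)).subgroupOf N).index = 2 := by
    rw [index_eq_two_iff]
    refine ⟨⟨s, hs⟩, fun g => ?_⟩
    rw [mem_subgroupOf, mem_subgroupOf]
    by_cases hg : (g : H) ∈ centralizer ({x} : Set H)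
    · refine Or.inr ⟨hg, fun h => hsC ?_⟩
      have := mul_mem (inv_mem hg) h
      simpa using this
    · refine Or.inl ⟨?_, hg⟩
      rw [mem_centralizer_singleton_iff, Subgroup.coe_mul]
      have e1 := hinv g g.2 hg
      have e2 := hinv s hs hsC
      refine mul_inv_eq_iff_eq_mul.1 ?_
      calc (g : H) * s * x * ((g : H) * s)⁻¹ = g * (s * x * s⁻¹) * (g : H)⁻¹ := by group
        _ = (g * x * (g : H)⁻¹)⁻¹ := by rw [e2]; group
        _ = x := by rw [e1, inv_inv]
  have h3 := ((centralizer ({x} : Set H)).subgroupOf N).card_mul_index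
  rw [h2, Nat.card_congr (subgroupOfEquivOfLe hCN).toEquiv, D.cent3 x hx] at h3
  exact h3.symm

/-- a normal subgroup containing `z` is a 2-group or everything -/
theorem normal_cases (N : Subgroup H) [N.Normal] (hz : z ∈ N) : IsPGroup 2 N ∨ N = ⊤ := by
  classical
  have hdvd : Nat.card N ∣ 2688 := D.card ▸ card_subgroup_dvd_card N
  have hN2688 := N.card_mul_index
  rw [D.card] at hN2688
  by_cases h7 : 7 ∣ Nat.card N
  · haveI : Fact (Nat.Prime 7) := ⟨by norm_num⟩
    obtain ⟨v, hv⟩ := exists_prime_orderOf_dvd_card' 7 h7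
    have hu : orderOf (v : H) = 7 := by rw [Subgroup.orderOf_coe, hv]
    let P : Sylow 7 N := Sylow.ofCard (zpowers v) (by
      rw [Nat.card_zpowers, hv]
      have h1 : ¬ 7 ^ 2 ∣ Nat.card N := fun h => by
        have := h.trans hdvd
        norm_num at this
      have h2 : (Nat.card N).factorization 7 = 1 := by
        refine le_antisymm ?_ ((Nat.Prime.dvd_iff_one_le_factorization (by norm_num)
          Nat.card_pos.ne').1 h7)
        by_contra hlt
        exact h1 ((Nat.Prime.pow_dvd_iff_le_factorization (by norm_num)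
          Nat.card_pos.ne').2 (by omega))
      rw [h2, pow_one])
    have hP : (P : Subgroup N).map N.subtype = zpowers (v : H) := by
      rw [show (P : Subgroup N) = zpowers v from rfl, MonoidHom.map_zpowers]
      rfl
    have hsup := P.normalizer_sup_eq_top
    rw [hP] at hsup
    have hidx : N.index ∣ 3 := by
      set K := normalizer (zpowers (v : H) : Set H)
      have huzK : (v : H) * z ∈ K ⊓ N := by
        refine ⟨mul_mem (le_normalizer (mem_zpowers _)) ?_, mul_mem v.2 hz⟩
        refine mem_normalizer_iff.2 fun r => ?_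
        rw [← D.central r, mul_inv_cancel_right]
      have h14 : 14 ∣ Nat.card ↥(K ⊓ N) := by
        have h := (K ⊓ N).orderOf_dvd_natCard huzK
        rwa [(show Commute (v : H) z from D.central (v : H)).orderOf_mul_eq_mul_orderOf_of_coprime
          (by rw [hu, D.ord]; norm_num), hu, D.ord] at h
      have hrel : N.index = (N.subgroupOf K).index := by
        have h := Subgroup.relIndex_sup_right (H := K) (K := N)
        rw [hsup, relIndex_top_right] at h
        exact h
      have hm := (N.subgroupOf K).card_mul_index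
      rw [D.norm7 _ hu, ← hrel, ← inf_subgroupOf_right,
        Nat.card_congr (subgroupOfEquivOfLe (inf_le_right : N ⊓ K ≤ K)).toEquiv, inf_comm] at hm
      obtain ⟨c, hc⟩ := h14
      rw [hc] at hm
      exact ⟨c, by linarith⟩
    rcases (Nat.dvd_prime (by norm_num)).1 hidx with h | h
    · exact Or.inr (index_eq_one.1 h)
    · exfalso
      obtain ⟨x, hx⟩ := exists_three D
      obtain ⟨s, hs⟩ := (inverter D hx).2
      have hxN : x ∉ N := fun h' => by
        have h3 := N.orderOf_dvd_natCard h'
        rw [h] at hN2688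
        rw [hx] at h3
        omega
      haveI : Fact (Nat.Prime 3) := ⟨by norm_num⟩
      haveI : IsCyclic (H ⧸ N) := isCyclic_of_prime_card (p := 3) (by rw [← index_eq_card, h])
      have hq : QuotientGroup.mk' N (s * x * s⁻¹) = QuotientGroup.mk' N x := by
        rw [map_mul, map_mul, map_inv,
          (IsCyclic.isMulCommutative (α := H ⧸ N)).is_comm.comm (QuotientGroup.mk' N s),
          mul_inv_cancel_right]
      rw [hs, QuotientGroup.mk'_apply, QuotientGroup.mk'_apply, QuotientGroup.eq, inv_inv] at hq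
      have : x = (x * x)⁻¹ := by
        rw [eq_inv_iff_mul_eq_one, ← mul_assoc, ← pow_three', ← hx, pow_orderOf_eq_one]
      exact hxN (this ▸ inv_mem hq)
  · left
    by_contra hnp
    haveI : Fact (Nat.Prime 3) := ⟨by norm_num⟩
    have hd : Nat.card N ∣ 384 := by
      refine Nat.Coprime.dvd_of_dvd_mul_right ?_ (show Nat.card N ∣ 384 * 7 from by simpa using hdvd)
      exact (Nat.Prime.coprime_iff_not_dvd (by norm_num)).2 h7 |>.symm
    have h3 : 3 ∣ Nat.card N := by
      by_contra h3
      refine hnp ?_
      have hd2 : Nat.card N ∣ 2 ^ 7 := by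
        refine Nat.Coprime.dvd_of_dvd_mul_right ?_ (show Nat.card N ∣ 2 ^ 7 * 3 from by simpa using hd)
        exact (Nat.Prime.coprime_iff_not_dvd (by norm_num)).2 h3 |>.symm
      obtain ⟨k, -, hk⟩ := (Nat.dvd_prime_pow Nat.prime_two).1 hd2
      exact IsPGroup.of_card hk
    obtain ⟨x, hx⟩ := exists_prime_orderOf_dvd_card' 3 h3
    have hx' : orderOf (x : H) = 3 := by rw [Subgroup.orderOf_coe, hx]
    let P : Sylow 3 N := Sylow.ofCard (zpowers x) (by
      rw [Nat.card_zpowers, hx]
      have h1 : ¬ 3 ^ 2 ∣ Nat.card N := fun h => by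
        have := h.trans hd
        norm_num at this
      have h2 : (Nat.card N).factorization 3 = 1 := by
        refine le_antisymm ?_ ((Nat.Prime.dvd_iff_one_le_factorization (by norm_num)
          Nat.card_pos.ne').1 h3)
        by_contra hlt
        exact h1 ((Nat.Prime.pow_dvd_iff_le_factorization (by norm_num)
          Nat.card_pos.ne').2 (by omega))
      rw [h2, pow_one])
    have hP : (P : Subgroup N).map N.subtype = zpowers (x : H) := by
      rw [show (P : Subgroup N) = zpowers x from rfl, MonoidHom.map_zpowers]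
      rfl
    have hsup := P.normalizer_sup_eq_top
    rw [hP] at hsup
    have hidx : N.index ∣ 24 := by
      rw [← (inverter D hx').1]
      have h := Subgroup.relIndex_sup_right (H := normalizer (zpowers (x : H) : Set H)) (K := N)
      rw [hsup, relIndex_top_right] at h
      rw [h]
      exact index_dvd_card _
    have : 7 ∣ N.index := by
      have hh : 7 ∣ Nat.card N * N.index := by rw [hN2688]; norm_num
      exact ((Nat.Prime.dvd_mul (by norm_num)).1 hh).resolve_left h7
    have := this.trans hidx
    norm_num at this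

/-- The normal subgroup of order sixteen. -/
theorem exists_R : ∃ R : Subgroup H, R.Normal ∧ z ∈ R ∧ Nat.card R = 16 ∧ (∀ a ∈ R, a * a = 1) ∧
    centralizer (R : Set H) = R ∧
    (∀ N : Subgroup H, N.Normal → R ≤ N → N = R ∨ N = ⊤) ∧
    (∀ x : H, orderOf x = 3 → Nat.card ↥(R ⊓ centralizer ({x} : Set H)) = 4) ∧
    ∀ a ∈ R, a ≠ 1 → a ≠ z → ∀ b ∈ R, b ≠ 1 → b ≠ z →
      ∃ g : H, g * a * g⁻¹ = b ∨ g * (a * z) * g⁻¹ = b := by
  classical
  haveI : Fact (Nat.Prime 2) := ⟨Nat.prime_two⟩
  let S : Sylow 2 H := default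
  set R := (S : Subgroup H).normalCore with hRdef
  haveI : R.Normal := inferInstanceAs ((S : Subgroup H).normalCore.Normal)
  have hR2 : IsPGroup 2 R := S.2.to_le (normalCore_le _)
  have hmax : ∀ N : Subgroup H, N.Normal → IsPGroup 2 N → N ≤ R := by
    intro N hN hN2
    haveI := hN
    refine (normal_le_normalCore).2 ?_
    obtain ⟨T, hT⟩ := hN2.exists_le_sylow
    obtain ⟨g, hg⟩ := MulAction.exists_smul_eq H T S
    intro a ha
    rw [← hg, Sylow.smul_def, Sylow.pointwise_smul_def, Subgroup.mem_pointwise_smul_iff_inv_smul_mem]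
    refine hT ?_
    rw [← map_inv, MulAut.smul_def, MulAut.conj_apply, inv_inv]
    have := hN.conj_mem a ha g⁻¹
    rwa [inv_inv] at this
  have hzn : (zpowers z).Normal := ⟨fun a ha g => by
    obtain ⟨i, rfl⟩ := mem_zpowers_iff.1 ha
    rw [((show Commute g z from D.central g).zpow_right i).eq, mul_inv_cancel_right]
    exact zpow_mem (mem_zpowers z) i⟩
  have hzR : z ∈ R := hmax _ hzn (IsPGroup.of_card (n := 1) (by rw [Nat.card_zpowers, D.ord, pow_one]))
    (mem_zpowers z)
  have hquot : ∀ N : Subgroup H, N.Normal → R ≤ N → N = R ∨ N = ⊤ := fun N hN hle => by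
    haveI := hN
    rcases normal_cases D N (hle hzR) with h | h
    · exact Or.inl (le_antisymm (hmax N hN h) hle)
    · exact Or.inr h
  obtain ⟨u, hu⟩ := exists_seven D
  have hz1 : z ≠ 1 := fun h => by
    have := D.ord
    rw [h, orderOf_one] at this
    norm_num at this
  haveI : Fact (Nat.Prime 7) := ⟨by norm_num⟩
  have hfix : Nat.card ↥(R ⊓ centralizer ({u} : Set H)) = 2 := by
    have : R ⊓ centralizer ({u} : Set H) = zpowers z := by
      refine le_antisymm ?_ (zpowers_le.2 ⟨hzR, mem_centralizer_singleton_iff.2 (D.central u).symm⟩)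
      rintro r ⟨hr, hc⟩
      rcases fix_seven D hu R hR2 hzR r hr (mem_centralizer_singleton_iff.1 hc) with rfl | rfl
      exacts [one_mem _, mem_zpowers _]
    rw [this, Nat.card_zpowers, D.ord]
  have hun : u ∈ normalizer (R : Set H) := normalizer_eq_top (H := R) ▸ mem_top u
  have hmod := card_modEq_fixed (n := 1) (hu.trans (pow_one 7).symm) R hun
  rw [hfix] at hmod
  obtain ⟨k, hk⟩ := IsPGroup.iff_card.1 hR2
  have hk7 : k ≤ 7 := by
    have h := card_subgroup_dvd_card R
    rw [hk, D.card] at h
    by_contra hlt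
    have h' : 2 ^ 8 ∣ 2688 := (pow_dvd_pow 2 (by omega : 8 ≤ k)).trans h
    norm_num at h'
  have hRcard : Nat.card R = 16 := by
    rw [hk] at hmod ⊢
    have hidx := R.card_mul_index
    rw [hk, D.card] at hidx
    interval_cases k <;> simp [Nat.ModEq] at hmod hidx ⊢
    · -- the quotient would be simple of order 1344
      exfalso
      haveI : Nontrivial (H ⧸ R) := Finite.one_lt_card_iff_nontrivial.1 (by
        rw [← index_eq_card]; omega)
      haveI : IsSimpleGroup (H ⧸ R) := ⟨fun K hK => by
        have hK' : (K.comap (QuotientGroup.mk' R)).Normal := hK.comap _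
        have hsurj := QuotientGroup.mk'_surjective R
        rcases hquot _ hK' (fun r hr => by
            rw [mem_comap, QuotientGroup.mk'_apply, (QuotientGroup.eq_one_iff r).2 hr]
            exact one_mem _) with h | h
        · left
          rw [← map_comap_eq_self_of_surjective hsurj K, h, Subgroup.map_eq_bot_iff, QuotientGroup.ker_mk']
        · right
          rw [← map_comap_eq_self_of_surjective hsurj K, h, map_top_of_surjective _ hsurj]⟩
      have hQ : Nat.card (H ⧸ R) = 1344 := by rw [← index_eq_card]; omega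
      have hnc : ¬ IsCyclic (H ⧸ R) := fun hc => by
        letI := hc.commGroup
        have := (IsSimpleGroup.prime_card (α := H ⧸ R))
        rw [hQ] at this
        norm_num at this
      rcases Cfsg.Agent.S0997.result hnc 7 2 6 3 (by norm_num) Nat.prime_two (by norm_num)
        (by rw [hQ]; norm_num) (by norm_num) with
        ⟨m, F, _, _, hF, -, ⟨e⟩⟩ | ⟨m, F, _, _, -, hm', -⟩
      · rw [Nat.card_congr e.toEquiv, CfsgLib.Classical.card_PSL_two, Nat.card_eq_fintype_card,
          hF] at hQ
        norm_num at hQ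
      · have : 2 ^ m = 6 := by omega
        rcases m with _ | _ | _ | m <;> simp [pow_succ] at this <;> omega
    · -- the quotient would have a normal subgroup of order seven
      exfalso
      have hQ : Nat.card (H ⧸ R) = 21 := by rw [← index_eq_card]; omega
      let P : Sylow 7 (H ⧸ R) := default
      haveI : Subsingleton (Sylow 7 (H ⧸ R)) := by
        have h1 := card_sylow_modEq_one 7 (H ⧸ R)
        have hP : Nat.card (P : Subgroup (H ⧸ R)) = 7 := by
          rw [P.card_eq_multiplicity, hQ, show (21 : ℕ) = 7 * 3 by norm_num,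
            Nat.factorization_mul (by norm_num) (by norm_num)]
          simp [Nat.factorization_eq_zero_of_not_dvd (show ¬ 7 ∣ 3 by norm_num),
            (show Nat.Prime 7 by norm_num).factorization_self]
        have h2 := P.card_dvd_index
        have h3 := (P : Subgroup (H ⧸ R)).card_mul_index
        rw [hP, hQ] at h3
        rw [show (P : Subgroup (H ⧸ R)).index = 3 by omega] at h2
        have h4 := Nat.le_of_dvd (by norm_num) h2
        rw [Nat.ModEq] at h1
        have h5 : Nat.card (Sylow 7 (H ⧸ R)) = 1 := by omega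
        exact (Nat.card_eq_one_iff_unique.1 h5).1
      haveI := P.normal_of_subsingleton
      have hsurj := QuotientGroup.mk'_surjective R
      rcases hquot ((P : Subgroup (H ⧸ R)).comap (QuotientGroup.mk' R)) inferInstance (fun r hr => by
          rw [mem_comap, QuotientGroup.mk'_apply, (QuotientGroup.eq_one_iff r).2 hr]
          exact one_mem _) with h | h
      all_goals
        have h' := congrArg Subgroup.index h
        rw [index_comap_of_surjective _ hsurj] at h'
        have h3 := (P : Subgroup (H ⧸ R)).card_mul_index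
        have hP : Nat.card (P : Subgroup (H ⧸ R)) = 7 := by
          rw [P.card_eq_multiplicity, hQ, show (21 : ℕ) = 7 * 3 by norm_num,
            Nat.factorization_mul (by norm_num) (by norm_num)]
          simp [Nat.factorization_eq_zero_of_not_dvd (show ¬ 7 ∣ 3 by norm_num),
            (show Nat.Prime 7 by norm_num).factorization_self]
        rw [hP, hQ] at h3
        try simp only [index_top] at h'
        omega
  -- squares
  have horb : ∀ a ∈ R, a ≠ 1 → a ≠ z → ∀ b ∈ R, b ≠ 1 → b ≠ z →
      ∃ i : Fin 7, u ^ (i : ℕ) * a * (u ^ (i : ℕ))⁻¹ = b ∨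
        u ^ (i : ℕ) * (a * z) * (u ^ (i : ℕ))⁻¹ = b := by
    intro a ha ha1 haz
    haveI := Fintype.ofFinite R
    have hcomm : ∀ j : ℕ, 0 < j → j < 7 → ∀ r ∈ R, u ^ j * r * (u ^ j)⁻¹ = r → r = 1 ∨ r = z := by
      intro j hj hj7 r hr h
      have hord : orderOf (u ^ j) = 7 := by
        rw [Nat.Coprime.orderOf_pow, hu]
        rw [hu]
        exact (Nat.Prime.coprime_iff_not_dvd (by norm_num)).2
          (fun h' => by have := Nat.le_of_dvd hj h'; omega)
      exact fix_seven D hord R hR2 hzR r hr (mul_inv_eq_iff_eq_mul.1 h).symm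
    let f : Bool × Fin 7 → R := fun p =>
      ⟨u ^ (p.2 : ℕ) * (if p.1 then a * z else a) * (u ^ (p.2 : ℕ))⁻¹,
        Subgroup.Normal.conj_mem inferInstance _ (by split <;> [exact mul_mem ha hzR; exact ha]) _⟩
    have hinj : ∀ (j : ℕ) (s t : Bool), j < 7 →
        u ^ j * (if s then a * z else a) * (u ^ j)⁻¹ = (if t then a * z else a) → j = 0 ∧ s = t := by
      intro j s t hj h
      rcases Nat.eq_zero_or_pos j with rfl | hpos
      · refine ⟨rfl, ?_⟩
        cases s <;> cases t <;> simp at h ⊢
        · exact hz1 h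
        · exact hz1 h
      · exfalso
        have hord2 : u ^ j * z * (u ^ j)⁻¹ = z := by
          rw [D.central, mul_inv_cancel_right]
        have h2 : u ^ (2 * j) * a * (u ^ (2 * j))⁻¹ = a := by
          have hj1 : u ^ j * a * (u ^ j)⁻¹ = a ∨ u ^ j * a * (u ^ j)⁻¹ = a * z := by
            have hsplit : u ^ j * (a * z) * (u ^ j)⁻¹ = u ^ j * a * (u ^ j)⁻¹ * z := by
              calc u ^ j * (a * z) * (u ^ j)⁻¹ = u ^ j * a * (u ^ j)⁻¹ * (u ^ j * z * (u ^ j)⁻¹) := by
                    group
                _ = _ := by rw [hord2]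
            have hzz : z * z = 1 := by rw [← sq, ← D.ord, pow_orderOf_eq_one]
            cases s <;> cases t <;> simp only [if_true, Bool.false_eq_true, if_false] at h
            · exact Or.inl h
            · exact Or.inr h
            · rw [hsplit] at h
              exact Or.inr (by
                conv_rhs => rw [← h, mul_assoc, hzz, mul_one])
            · rw [hsplit] at h
              exact Or.inl (mul_right_cancel h)
          rcases hj1 with e | e
          · rw [two_mul, pow_add]
            calc u ^ j * u ^ j * a * (u ^ j * u ^ j)⁻¹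
                = u ^ j * (u ^ j * a * (u ^ j)⁻¹) * (u ^ j)⁻¹ := by group
              _ = a := by rw [e, e]
          · rw [two_mul, pow_add]
            calc u ^ j * u ^ j * a * (u ^ j * u ^ j)⁻¹
                = u ^ j * (u ^ j * a * (u ^ j)⁻¹) * (u ^ j)⁻¹ := by group
              _ = u ^ j * a * (u ^ j)⁻¹ * (u ^ j * z * (u ^ j)⁻¹) := by
                    nth_rewrite 1 [e]
                    group
              _ = a * z * z := by rw [hord2, e]
              _ = a := by rw [mul_assoc, ← sq, ← D.ord, pow_orderOf_eq_one, mul_one]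
        rw [← pow_mod_orderOf u (2 * j), hu] at h2
        rcases hcomm _ (by omega) (Nat.mod_lt _ (by norm_num)) a ha h2 with h' | h'
        · exact ha1 h'
        · exact haz h'
    have hf : Function.Injective f := by
      rintro ⟨s, i⟩ ⟨t, j⟩ h
      have h' : u ^ (i : ℕ) * (if s then a * z else a) * (u ^ (i : ℕ))⁻¹ =
          u ^ (j : ℕ) * (if t then a * z else a) * (u ^ (j : ℕ))⁻¹ := congrArg Subtype.val h
      rcases Nat.le_total (j : ℕ) i with hle | hle
      · obtain ⟨h0, rfl⟩ := hinj ((i : ℕ) - j) s t (by omega) (by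
          obtain ⟨d, hd⟩ := Nat.exists_eq_add_of_le hle
          rw [hd, pow_add] at h'
          rw [hd, Nat.add_sub_cancel_left]
          exact mul_left_cancel (a := u ^ (j : ℕ)) (mul_right_cancel (b := (u ^ (j : ℕ))⁻¹) (by
            rw [← h']; group)))
        have : i = j := Fin.ext (by omega)
        rw [this]
      · obtain ⟨h0, rfl⟩ := hinj ((j : ℕ) - i) t s (by omega) (by
          obtain ⟨d, hd⟩ := Nat.exists_eq_add_of_le hle
          rw [hd, pow_add] at h'
          rw [hd, Nat.add_sub_cancel_left]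
          exact mul_left_cancel (a := u ^ (i : ℕ)) (mul_right_cancel (b := (u ^ (i : ℕ))⁻¹) (by
            rw [h']; group)))
        have : i = j := Fin.ext (by omega)
        rw [this]
    intro b hb hb1 hbz
    by_contra hno
    push Not at hno
    have h1 : (1 : R) ∉ Finset.univ.image f ∧ (⟨z, hzR⟩ : R) ∉ Finset.univ.image f ∧
        (⟨b, hb⟩ : R) ∉ Finset.univ.image f := by
      simp only [Finset.mem_image, Finset.mem_univ, true_and, not_exists]
      have hzz : z * z = 1 := by rw [← sq, ← D.ord, pow_orderOf_eq_one]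
      refine ⟨fun p h => ?_, fun p h => ?_, fun p h => ?_⟩
      · have h' := conj_eq_one_iff.1 (congrArg Subtype.val h : _ = (1 : H))
        rcases p with ⟨s, i⟩
        cases s <;> simp at h'
        · exact ha1 h'
        · exact haz (by rw [eq_inv_of_mul_eq_one_left h', inv_eq_of_mul_eq_one_right hzz])
      · have h' : u ^ (p.2 : ℕ) * (if p.1 then a * z else a) * (u ^ (p.2 : ℕ))⁻¹ = z :=
          congrArg Subtype.val h
        have h'' : (if p.1 then a * z else a) = z := by
          rw [mul_inv_eq_iff_eq_mul, ← D.central] at h'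
          exact mul_left_cancel h'
        split at h''
        · exact ha1 (by
            have := congrArg (· * z) h''
            rwa [mul_assoc, hzz, mul_one] at this)
        · exact haz h''
      · have h' : u ^ (p.2 : ℕ) * (if p.1 then a * z else a) * (u ^ (p.2 : ℕ))⁻¹ = b :=
          congrArg Subtype.val h
        rcases p with ⟨s, i⟩
        cases s <;> simp at h'
        · exact (hno i).1 h'
        · exact (hno i).2 (by simpa [mul_assoc] using h')
    have hbne : (⟨b, hb⟩ : R) ≠ 1 ∧ (⟨b, hb⟩ : R) ≠ ⟨z, hzR⟩ ∧ (⟨z, hzR⟩ : R) ≠ 1 :=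
      ⟨fun h => hb1 (congrArg Subtype.val h), fun h => hbz (congrArg Subtype.val h),
        fun h => hz1 (congrArg Subtype.val h)⟩
    have hcard : (insert (1 : R) (insert ⟨z, hzR⟩ (insert ⟨b, hb⟩ (Finset.univ.image f)))).card = 17 := by
      rw [Finset.card_insert_of_notMem (by simp [h1.1, Ne.symm hbne.1, Ne.symm hbne.2.2]),
        Finset.card_insert_of_notMem (by simp [h1.2.1, Ne.symm hbne.2.1]),
        Finset.card_insert_of_notMem h1.2.2, Finset.card_image_of_injective _ hf]
      simp
    have := Finset.card_le_univ (insert (1 : R) (insert ⟨z, hzR⟩ (insert ⟨b, hb⟩ (Finset.univ.image f))))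
    rw [hcard, ← Nat.card_eq_fintype_card, hRcard] at this
    omega
  have hzz : z * z = 1 := by rw [← sq, ← D.ord, pow_orderOf_eq_one]
  have helem : ∀ a ∈ R, a * a = 1 := by
    -- an element outside `⟨z⟩` with square in `⟨z⟩`
    obtain ⟨a₀, ha₀, ha₀1, ha₀z, ha₀s⟩ :
        ∃ a ∈ R, a ≠ 1 ∧ a ≠ z ∧ (a * a = 1 ∨ a * a = z) := by
      have hex : ∃ a ∈ R, a ∉ zpowers z := by
        by_contra hall
        push Not at hall
        have := card_dvd_of_le (hall : R ≤ zpowers z)
        rw [hRcard, Nat.card_zpowers, D.ord] at this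
        norm_num at this
      obtain ⟨a, ha, haz⟩ := hex
      obtain ⟨k, hk⟩ := hR2 ⟨a, ha⟩
      have hk' : a ^ 2 ^ k ∈ zpowers z := by
        have : a ^ 2 ^ k = 1 := congrArg Subtype.val hk
        rw [this]; exact one_mem _
      obtain ⟨j, hj, hj'⟩ : ∃ j, a ^ 2 ^ j ∉ zpowers z ∧ a ^ 2 ^ (j + 1) ∈ zpowers z := by
        by_contra hall
        push Not at hall
        have : ∀ j, a ^ 2 ^ j ∉ zpowers z := fun j => by
          induction j with
          | zero => simpa using haz
          | succ j ih => exact hall j ih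
        exact this k hk'
      refine ⟨a ^ 2 ^ j, pow_mem ha _, fun h => hj (h ▸ one_mem _), fun h => hj (h.symm ▸ mem_zpowers z),
        ?_⟩
      rw [← pow_add, ← two_mul, ← pow_succ']
      obtain ⟨i, hi⟩ := mem_powers_iff_mem_zpowers.2 hj'
      simp only at hi
      rcases Nat.even_or_odd i with ⟨t, rfl⟩ | ⟨t, rfl⟩
      · exact Or.inl (by rw [← hi, ← two_mul, pow_mul, sq, hzz, one_pow])
      · exact Or.inr (by rw [← hi, pow_succ, pow_mul, sq, hzz, one_pow, one_mul])
    have hsq : ∀ b ∈ R, b ≠ 1 → b ≠ z → b * b = a₀ * a₀ := by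
      intro b hb hb1 hbz
      obtain ⟨i, h | h⟩ := horb a₀ ha₀ ha₀1 ha₀z b hb hb1 hbz
      all_goals
        set g := u ^ (i : ℕ)
        have hg : g * (a₀ * a₀) * g⁻¹ = a₀ * a₀ := by
          rcases ha₀s with e | e <;> rw [e]
          · group
          · rw [D.central, mul_inv_cancel_right]
      · rw [← h]
        refine Eq.trans ?_ hg
        group
      · rw [← h]
        have e : a₀ * z * (a₀ * z) = a₀ * a₀ := by
          calc a₀ * z * (a₀ * z) = a₀ * (z * a₀) * z := by group
            _ = a₀ * a₀ * (z * z) := by rw [← D.central]; group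
            _ = a₀ * a₀ := by rw [hzz, mul_one]
        refine Eq.trans ?_ hg
        rw [← e]
        group
    rcases ha₀s with e | e
    · intro b hb
      by_cases hb1 : b = 1
      · rw [hb1, one_mul]
      by_cases hbz : b = z
      · rw [hbz, hzz]
      rw [hsq b hb hb1 hbz, e]
    · exfalso
      haveI := Fintype.ofFinite R
      let zz : R := ⟨z, hzR⟩
      obtain ⟨⟨b, hb⟩, -, hb'⟩ := Finset.exists_mem_notMem_of_card_lt_card
        (s := ({1, zz, ⟨a₀, ha₀⟩, ⟨a₀, ha₀⟩ * zz} : Finset R)) (t := Finset.univ) (by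
          refine lt_of_le_of_lt Finset.card_le_four ?_
          rw [Finset.card_univ, ← Nat.card_eq_fintype_card, hRcard]; norm_num)
      obtain ⟨⟨d, hd⟩, -, hd'⟩ := Finset.exists_mem_notMem_of_card_lt_card
        (s := (({1, zz, ⟨a₀, ha₀⟩, ⟨a₀, ha₀⟩ * zz} : Finset R) ∪
          ({1, zz, ⟨a₀, ha₀⟩, ⟨a₀, ha₀⟩ * zz} : Finset R).image (⟨b, hb⟩ * ·))) (t := Finset.univ) (by
          refine lt_of_le_of_lt ((Finset.card_union_le _ _).trans
            (add_le_add Finset.card_le_four (Finset.card_image_le.trans Finset.card_le_four))) ?_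
          rw [Finset.card_univ, ← Nat.card_eq_fintype_card, hRcard]; norm_num)
      simp only [Finset.mem_union, Finset.mem_image, Finset.mem_insert, Finset.mem_singleton,
        exists_eq_or_imp, exists_eq_left, mul_one, not_or] at hb' hd'
      simp only [Subtype.ext_iff, Subgroup.coe_one, Subgroup.coe_mul, zz] at hb' hd'
      obtain ⟨hb1, hbz, hba, hbaz⟩ := hb'
      obtain ⟨⟨hd1, hdz, hda, hdaz⟩, hdb, hdbz, hdba, hdbaz⟩ := hd'
      have inv_eq : ∀ x ∈ R, x ≠ 1 → x ≠ z → x⁻¹ = x * z := fun x hx h1 h2 =>
        inv_eq_of_mul_eq_one_right (by rw [← mul_assoc, hsq x hx h1 h2, e, hzz])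
      have anti : ∀ x ∈ R, ∀ y ∈ R, x ≠ 1 → x ≠ z → y ≠ 1 → y ≠ z → x * y ≠ 1 → x * y ≠ z →
          y * x = x * y * z := by
        intro x hx y hy h1 h2 h3 h4 h5 h6
        have h : x * y * (x * y) = z := (hsq _ (mul_mem hx hy) h5 h6).trans e
        calc y * x = x⁻¹ * (x * y * (x * y)) * y⁻¹ := by group
          _ = x * z * z * (y * z) := by rw [h, inv_eq x hx h1 h2, inv_eq y hy h3 h4]
          _ = x * y * z := by rw [mul_assoc x z z, hzz, mul_one, ← mul_assoc]
      have hainv : a₀⁻¹ = a₀ * z := inv_eq a₀ ha₀ ha₀1 ha₀z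
      have hbinv : b⁻¹ = b * z := inv_eq b hb hb1 hbz
      have ab : ∀ y ∈ R, y ≠ 1 → y ≠ z → y ≠ a₀ → y ≠ a₀ * z → y * a₀ = a₀ * y * z := by
        intro y hy h1 h2 h3 h4
        refine anti a₀ ha₀ y hy ha₀1 ha₀z h1 h2 (fun h => h4 ?_) (fun h => h3 ?_)
        · rw [← hainv]; exact (inv_eq_of_mul_eq_one_right h).symm
        · rw [← inv_mul_cancel_left a₀ y, h, hainv, mul_assoc, hzz, mul_one]
      have hbd1 : b * d ≠ 1 := fun h => hdbz (by
        rw [← inv_eq_of_mul_eq_one_right h, hbinv])
      have hbdz : b * d ≠ z := fun h => hdb (by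
        rw [← inv_mul_cancel_left b d, h, hbinv, mul_assoc, hzz, mul_one])
      have hbda : b * d ≠ a₀ := fun h => hdbaz (by
        rw [← inv_mul_cancel_left b d, h, hbinv, mul_assoc, ← D.central])
      have hbdaz : b * d ≠ a₀ * z := fun h => hdba (by
        rw [← inv_mul_cancel_left b d, h, hbinv, mul_assoc, ← mul_assoc z, ← D.central a₀,
          mul_assoc a₀, hzz, mul_one])
      have e1 := ab b hb hb1 hbz hba hbaz
      have e2 := ab d hd hd1 hdz hda hdaz
      have e3 := ab (b * d) (mul_mem hb hd) hbd1 hbdz hbda hbdaz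
      have e4 : b * d * a₀ = a₀ * b * d := by
        calc b * d * a₀ = b * (a₀ * d * z) := by rw [mul_assoc, e2]
          _ = b * a₀ * (d * z) := by group
          _ = a₀ * b * (z * d) * z := by rw [e1]; group
          _ = a₀ * b * d * (z * z) := by rw [← D.central d]; group
          _ = a₀ * b * d := by rw [hzz, mul_one]
      rw [e4, ← mul_assoc a₀ b d] at e3
      exact hz1 (left_eq_mul.1 e3)
  have hself : centralizer (R : Set H) = R := by
    refine le_antisymm ?_ (fun a ha => mem_centralizer_iff.2 fun b hb => ?_)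
    · haveI : (centralizer (R : Set H)).Normal := ⟨fun c hc g => mem_centralizer_iff.2 fun r hr => by
        have hr' : g⁻¹ * r * g ∈ R := by
          have := (inferInstance : R.Normal).conj_mem r hr g⁻¹
          rwa [inv_inv] at this
        have h := mem_centralizer_iff.1 hc _ hr'
        calc r * (g * c * g⁻¹) = g * (g⁻¹ * r * g * c) * g⁻¹ := by group
          _ = g * (c * (g⁻¹ * r * g)) * g⁻¹ := by rw [h]
          _ = g * c * g⁻¹ * r := by group⟩
      rcases normal_cases D (centralizer (R : Set H)) (mem_centralizer_iff.2 fun b _ => D.central b) with h | h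
      · exact hmax (centralizer (R : Set H)) inferInstance h
      · exfalso
        have hle : R ≤ R ⊓ centralizer ({u} : Set H) := fun r hr => ⟨hr, mem_centralizer_singleton_iff.2
          ((mem_centralizer_iff.1 (h ▸ mem_top u : u ∈ centralizer (R : Set H))) r hr)⟩
        have := card_dvd_of_le hle
        rw [hRcard, hfix] at this
        norm_num at this
    · have h := helem _ (mul_mem ha hb)
      calc b * a = b⁻¹ * a⁻¹ := by
            rw [inv_eq_of_mul_eq_one_right (helem a ha), inv_eq_of_mul_eq_one_right (helem b hb)]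
        _ = (a * b)⁻¹ := by group
        _ = a * b := inv_eq_of_mul_eq_one_right h
  refine ⟨R, inferInstance, hzR, hRcard, helem, hself, hquot, fun x hx => ?_,
    fun a ha h1 h2 b hb h3 h4 => ?_⟩
  · haveI : Fact (Nat.Prime 3) := ⟨by norm_num⟩
    have hxn : x ∈ normalizer (R : Set H) := normalizer_eq_top (H := R) ▸ mem_top x
    have h := card_modEq_fixed (n := 1) (hx.trans (pow_one 3).symm) R hxn
    have hd := card_dvd_of_le (inf_le_left : R ⊓ centralizer ({x} : Set H) ≤ R)
    rw [hRcard] at h hd
    obtain ⟨j, hj, hj'⟩ := (Nat.dvd_prime_pow (m := 4) Nat.prime_two).1 (show _ ∣ 2 ^ 4 from hd)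
    have hz2 : 2 ∣ Nat.card ↥(R ⊓ centralizer ({x} : Set H)) := by
      rw [← D.ord]
      exact (R ⊓ centralizer ({x} : Set H)).orderOf_dvd_natCard
        ⟨hzR, mem_centralizer_singleton_iff.2 (D.central x).symm⟩
    rw [hj'] at h hz2 ⊢
    interval_cases j <;> simp [Nat.ModEq] at h hz2 ⊢
    exfalso
    have heq := Subgroup.eq_of_le_of_card_ge (inf_le_left : R ⊓ centralizer ({x} : Set H) ≤ R)
      (by rw [hj', hRcard]; norm_num)
    have hxc : x ∈ centralizer (R : Set H) := mem_centralizer_iff.2 fun r hr =>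
      mem_centralizer_singleton_iff.1 (heq.ge hr).2
    rw [hself] at hxc
    have := R.orderOf_dvd_natCard hxc
    rw [hx, hRcard] at this
    norm_num at this
  · obtain ⟨i, h⟩ := horb a ha h1 h2 b hb h3 h4
    exact ⟨_, h⟩

end CfsgLib.M23Nse.HeptadP
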