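import Cfsg.Agent.Lib.M23Nse.HeptadCore

/-!
# S3595, piece B: an element moving `z` normalizes the subgroup of order sixteen

`R`, `R^y`, `R^{y²}` normalize one another and lie in a group `W` of order 64 modulo which their
common part `V` is central; the commutators form a subgroup of order at most two of `V`, fixed by
`y`, hence trivial.
-/

set_option autoImplicit false
set_option linter.style.haveILetI false
set_option linter.unusedSectionVars false

namespace CfsgLib.M23Nse.HeptadP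

open Subgroup

universe u

variable {G : Type u} [Group G] [Finite G]

/-- The data of the swap step. -/
structure Swap (G : Type u) [Group G] (R : Subgroup G) (x y : G) : Prop where
  card : Nat.card R = 16
  elem : ∀ a ∈ R, a * a = 1
  self_cent : centralizer (R : Set G) = R
  cent_le : centralizer ((R ⊓ centralizer ({x} : Set G) : Subgroup G) : Set G) ≤
    normalizer (R : Set G)
  two : ∀ W : Subgroup G, IsPGroup 2 W → Nat.card W ≤ 128
  ox : orderOf x = 3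
  xR : x ∈ normalizer (R : Set G)
  xV : Nat.card ↥(R ⊓ centralizer ({x} : Set G)) = 4
  oy : orderOf y = 3
  yx : Commute x y
  yV : ∀ v ∈ R ⊓ centralizer ({x} : Set G), y * v * y⁻¹ ∈ R ⊓ centralizer ({x} : Set G)
  yfix : ∀ v ∈ R ⊓ centralizer ({x} : Set G), y * v * y⁻¹ = v → v = 1

/-- an image under conjugation -/
def cj (g : G) (H : Subgroup G) : Subgroup G := H.map (MulAut.conj g).toMonoidHom

theorem mem_cj {g : G} {H : Subgroup G} {a : G} : a ∈ cj g H ↔ g⁻¹ * a * g ∈ H := by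
  rw [cj, Subgroup.mem_map_equiv, MulAut.conj_symm_apply]

theorem card_cj (g : G) (H : Subgroup G) : Nat.card (cj g H) = Nat.card H :=
  (Nat.card_congr (H.equivMapOfInjective _ (MulAut.conj g).injective).toEquiv).symm

/-- commutators with values central for the second argument are multiplicative -/
theorem comm_mul {a b b' : G} (hb : ∀ c : G, c = a * b' * a⁻¹ * b'⁻¹ → c * b = b * c) :
    a * (b * b') * a⁻¹ * (b * b')⁻¹ = (a * b * a⁻¹ * b⁻¹) * (a * b' * a⁻¹ * b'⁻¹) := by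
  have h := hb _ rfl
  calc a * (b * b') * a⁻¹ * (b * b')⁻¹
      = a * b * a⁻¹ * ((a * b' * a⁻¹ * b'⁻¹) * b⁻¹) := by group
    _ = a * b * a⁻¹ * (b⁻¹ * (a * b' * a⁻¹ * b'⁻¹)) := by
      rw [show (a * b' * a⁻¹ * b'⁻¹) * b⁻¹ = b⁻¹ * (a * b' * a⁻¹ * b'⁻¹) from
        ((show Commute (a * b' * a⁻¹ * b'⁻¹) b from h).inv_right).eq]
    _ = _ := by group

/-- `y` normalizes `R`. -/
theorem swap {R : Subgroup G} {x y : G} (D : Swap G R x y) : y ∈ normalizer (R : Set G) := by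
  classical
  set V := R ⊓ centralizer ({x} : Set G) with hV
  set K := centralizer (V : Set G) with hK
  have hy3 : y * y * y = 1 := by rw [← pow_three', ← D.oy, pow_orderOf_eq_one]
  set R₁ := cj y R with hR₁
  set R₂ := cj y R₁ with hR₂
  have hVR : V ≤ R := inf_le_left
  have hRab : ∀ a ∈ R, ∀ b ∈ R, a * b = b * a := fun a ha b hb => by
    have h : a ∈ centralizer (R : Set G) := D.self_cent.symm ▸ ha
    exact (mem_centralizer_iff.1 h b hb).symm
  -- `y` normalizes `V` and `K`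
  have hyV : ∀ v ∈ V, y * v * y⁻¹ ∈ V ∧ y⁻¹ * v * y ∈ V := by
    intro v hv
    refine ⟨D.yV v hv, ?_⟩
    have h := D.yV _ (D.yV v hv)
    rwa [show y * (y * v * y⁻¹) * y⁻¹ = y * y * v * (y * y)⁻¹ by group,
      show y * y = y⁻¹ from eq_inv_of_mul_eq_one_left hy3, inv_inv] at h
  have hyK : ∀ k ∈ K, y * k * y⁻¹ ∈ K ∧ y⁻¹ * k * y ∈ K := by
    intro k hk
    refine ⟨mem_centralizer_iff.2 fun v hv => ?_, mem_centralizer_iff.2 fun v hv => ?_⟩
    · have h := mem_centralizer_iff.1 hk _ (hyV v hv).2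
      calc v * (y * k * y⁻¹) = y * (y⁻¹ * v * y * k) * y⁻¹ := by group
        _ = y * (k * (y⁻¹ * v * y)) * y⁻¹ := by rw [h]
        _ = y * k * y⁻¹ * v := by group
    · have h := mem_centralizer_iff.1 hk _ (hyV v hv).1
      calc v * (y⁻¹ * k * y) = y⁻¹ * (y * v * y⁻¹ * k) * y := by group
        _ = y⁻¹ * (k * (y * v * y⁻¹)) * y := by rw [h]
        _ = y⁻¹ * k * y * v := by group
  have hRK : R ≤ K := fun a ha => mem_centralizer_iff.2 fun v hv => hRab v (hVR hv) a ha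
  have hR₁K : R₁ ≤ K := fun a ha => by
    have h := (hyK _ (hRK (mem_cj.1 ha))).1
    rwa [show y * (y⁻¹ * a * y) * y⁻¹ = a by group] at h
  have hR₂K : R₂ ≤ K := fun a ha => by
    have h := (hyK _ (hR₁K (mem_cj.1 ha))).1
    rwa [show y * (y⁻¹ * a * y) * y⁻¹ = a by group] at h
  have hcjN : ∀ S : Subgroup G, K ≤ normalizer (S : Set G) →
      K ≤ normalizer ((cj y S : Subgroup G) : Set G) := by
    intro S hS k hk
    refine mem_normalizer_iff.2 fun a => ?_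
    rw [mem_cj, mem_cj, mem_normalizer_iff.1 (hS (hyK k hk).2)]
    rw [show y⁻¹ * k * y * (y⁻¹ * a * y) * (y⁻¹ * k * y)⁻¹ = y⁻¹ * (k * a * k⁻¹) * y by group]
  have hKR : K ≤ normalizer (R : Set G) := D.cent_le
  have hKR₁ : K ≤ normalizer (R₁ : Set G) := hcjN R hKR
  have hKR₂ : K ≤ normalizer (R₂ : Set G) := hcjN R₁ hKR₁
  have hVy : ∀ S : Subgroup G, V ≤ S → V ≤ cj y S := fun S hS v hv => mem_cj.2 (hS (hyV v hv).2)
  have hVR₁ : V ≤ R₁ := hVy R hVR
  have hVR₂ : V ≤ R₂ := hVy R₁ hVR₁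
  have hxcj : ∀ S : Subgroup G, x ∈ normalizer (S : Set G) →
      x ∈ normalizer ((cj y S : Subgroup G) : Set G) := by
    intro S hS
    refine mem_normalizer_iff.2 fun a => ?_
    rw [mem_cj, mem_cj, mem_normalizer_iff.1 hS]
    have e : x * y⁻¹ = y⁻¹ * x := D.yx.inv_right.eq
    have e' : x⁻¹ * y = y * x⁻¹ := D.yx.inv_left.eq
    rw [show x * (y⁻¹ * a * y) * x⁻¹ = x * y⁻¹ * a * (y * x⁻¹) by group, e, ← e',
      show y⁻¹ * x * a * (x⁻¹ * y) = y⁻¹ * (x * a * x⁻¹) * y by group]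
  have hxR₁ : x ∈ normalizer (R₁ : Set G) := hxcj R D.xR
  have hxR₂ : x ∈ normalizer (R₂ : Set G) := hxcj R₁ hxR₁
  have hfixy : ∀ {S : Subgroup G}, S ⊓ centralizer ({x} : Set G) ≤ V →
      cj y S ⊓ centralizer ({x} : Set G) ≤ V := by
    rintro S hS a ⟨ha, hc⟩
    have hc' : y⁻¹ * a * y ∈ centralizer ({x} : Set G) := mem_centralizer_singleton_iff.2
      (((D.yx.inv_right).mul_right (show Commute x a from
        (mem_centralizer_singleton_iff.1 hc).symm)).mul_right D.yx).symm.eq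
    have h := (hyV _ (hS ⟨mem_cj.1 ha, hc'⟩)).1
    rwa [show y * (y⁻¹ * a * y) * y⁻¹ = a by group] at h
  have hfR : R ⊓ centralizer ({x} : Set G) ≤ V := le_rfl
  have hfR₂ : R₂ ⊓ centralizer ({x} : Set G) ≤ V := hfixy (hfixy hfR)
  haveI : Fact (Nat.Prime 3) := ⟨by norm_num⟩
  have hmod : ∀ S : Subgroup G, x ∈ normalizer (S : Set G) → V ≤ S →
      S ⊓ centralizer ({x} : Set G) ≤ V → Nat.card S % 3 = 1 := by
    intro S hS hVS hle
    have h := card_modEq_fixed (n := 1) (D.ox.trans (pow_one 3).symm) S hS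
    rw [le_antisymm hle (le_inf hVS inf_le_right), hV, D.xV] at h
    exact h
  have hinfx : ∀ {A B : Subgroup G}, x ∈ normalizer (A : Set G) → x ∈ normalizer (B : Set G) →
      x ∈ normalizer ((A ⊓ B : Subgroup G) : Set G) := by
    intro A B hA hB
    refine mem_normalizer_iff.2 fun a => ?_
    rw [mem_inf, mem_inf, mem_normalizer_iff.1 hA, mem_normalizer_iff.1 hB]
  by_contra hyn
  have hne : R₁ ≠ R := fun h => hyn (mem_normalizer_iff.2 fun a => by
    constructor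
    · intro ha
      rw [← h, mem_cj, show y⁻¹ * (y * a * y⁻¹) * y = a by group]
      exact ha
    · intro ha
      rw [← h, mem_cj, show y⁻¹ * (y * a * y⁻¹) * y = a by group] at ha
      exact ha)
  have h01 : R ⊓ R₁ = V := by
    have hd := card_dvd_of_le (inf_le_left : R ⊓ R₁ ≤ R)
    have h3 := hmod (R ⊓ R₁) (hinfx D.xR hxR₁) (le_inf hVR hVR₁)
      (fun a ha => ⟨ha.1.1, ha.2⟩)
    rw [D.card] at hd
    obtain ⟨j, hj, hj'⟩ := (Nat.dvd_prime_pow (m := 4) Nat.prime_two).1 (show _ ∣ 2 ^ 4 from hd)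
    have hge := card_le_of_le (le_inf hVR hVR₁)
    rw [hV, D.xV, hj'] at hge
    rw [hj'] at h3
    refine (Subgroup.eq_of_le_of_card_ge (le_inf hVR hVR₁) ?_).symm
    rw [hj', hV, D.xV]
    interval_cases j <;> simp at h3 hge ⊢
    refine hne (Subgroup.eq_of_le_of_card_ge (fun a ha => ?_) ?_).symm.symm
    · have := Subgroup.eq_of_le_of_card_ge (inf_le_left : R ⊓ R₁ ≤ R) (by rw [hj', D.card]; norm_num)
      have h2 := Subgroup.eq_of_le_of_card_ge (this ▸ inf_le_right : R ≤ R₁)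
        (by rw [hR₁, card_cj])
      exact h2 ▸ ha
    · rw [hR₁, card_cj]
  -- the group `W` of order 64
  set W := R ⊔ R₁ with hW
  have hRn₁ : R ≤ normalizer (R₁ : Set G) := hRK.trans hKR₁
  have hWmem : ∀ w ∈ W, ∃ a ∈ R, ∃ b ∈ R₁, w = a * b := by
    intro w hw
    rw [← SetLike.mem_coe, hW, Subgroup.coe_mul_of_left_le_normalizer_right R R₁ hRn₁] at hw
    obtain ⟨a, ha, b, hb, rfl⟩ := Set.mem_mul.1 hw
    exact ⟨a, ha, b, hb, rfl⟩
  have hR₁p : IsPGroup 2 R₁ := IsPGroup.of_card (n := 4) (by rw [hR₁, card_cj, D.card]; norm_num)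
  have hRp : IsPGroup 2 R := IsPGroup.of_card (n := 4) (by rw [D.card]; norm_num)
  have hR₂p : IsPGroup 2 R₂ := IsPGroup.of_card (n := 4) (by
    rw [hR₂, card_cj, hR₁, card_cj, D.card]; norm_num)
  have hWp : IsPGroup 2 W := hRp.to_sup_of_normal_right' hR₁p hRn₁
  have hsup : ∀ {A B : Subgroup G}, A ≤ normalizer (B : Set G) →
      Nat.card ↥(A ⊔ B) * Nat.card ↥(A ⊓ B) = Nat.card A * Nat.card B := by
    intro A B hAB
    haveI := Subgroup.normal_subgroupOf_of_le_normalizer hAB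
    haveI := Subgroup.normal_subgroupOf_sup_of_le_normalizer hAB
    have e := Nat.card_congr (QuotientGroup.quotientInfEquivProdNormalizerQuotient A B hAB).toEquiv
    have h1 := (B.subgroupOf A).card_mul_index
    have h2 := (B.subgroupOf (A ⊔ B)).card_mul_index
    rw [Nat.card_congr (subgroupOfEquivOfLe (le_sup_right : B ≤ A ⊔ B)).toEquiv] at h2
    rw [← inf_subgroupOf_left, Nat.card_congr (subgroupOfEquivOfLe (inf_le_left : A ⊓ B ≤ A)).toEquiv,
      inf_subgroupOf_left] at h1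
    rw [← h2, ← h1, index_eq_card, index_eq_card, e]
    ring
  have hWcard : Nat.card W = 64 := by
    have h := hsup hRn₁
    rw [h01, hV, D.xV, D.card, hR₁, card_cj, D.card] at h
    rw [hW, hR₁]
    omega
  have hWK : W ≤ K := sup_le hRK hR₁K
  have hWn₂ : W ≤ normalizer (R₂ : Set G) := hWK.trans hKR₂
  have hR₂W : R₂ ≤ W := by
    have hp := hWp.to_sup_of_normal_right' hR₂p hWn₂
    have h := hsup hWn₂
    have h128 := D.two _ hp
    rw [hWcard, show Nat.card R₂ = 16 by rw [hR₂, card_cj, hR₁, card_cj, D.card]] at h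
    have hxW : x ∈ normalizer (W : Set G) := by
      have key : ∀ c, c ∈ normalizer (R : Set G) → c ∈ normalizer (R₁ : Set G) →
          ∀ w ∈ W, c * w * c⁻¹ ∈ W := by
        intro c h1 h2 w hw
        obtain ⟨a, ha, b, hb, rfl⟩ := hWmem w hw
        rw [show c * (a * b) * c⁻¹ = c * a * c⁻¹ * (c * b * c⁻¹) by group]
        exact mul_mem (mem_sup_left ((mem_normalizer_iff.1 h1 a).1 ha))
          (mem_sup_right ((mem_normalizer_iff.1 h2 b).1 hb))
      refine mem_normalizer_iff.2 fun w => ⟨key x D.xR hxR₁ w, fun hw => ?_⟩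
      have := key x⁻¹ (inv_mem D.xR) (inv_mem hxR₁) _ hw
      rwa [inv_inv, show x⁻¹ * (x * w * x⁻¹) * x = w by group] at this
    have h3 := hmod (W ⊓ R₂) (hinfx hxW hxR₂) (le_inf (hVR.trans le_sup_left) hVR₂)
      (fun a ha => hfR₂ ⟨ha.1.2, ha.2⟩)
    have hd := card_dvd_of_le (inf_le_right : W ⊓ R₂ ≤ R₂)
    rw [show Nat.card R₂ = 16 by rw [hR₂, card_cj, hR₁, card_cj, D.card]] at hd
    obtain ⟨j, hj, hj'⟩ := (Nat.dvd_prime_pow (m := 4) Nat.prime_two).1 (show _ ∣ 2 ^ 4 from hd)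
    rw [hj'] at h h3
    have hj4 : j = 4 := by
      interval_cases j <;> omega
    have := Subgroup.eq_of_le_of_card_ge (inf_le_right : W ⊓ R₂ ≤ R₂) (by
      rw [hj', hj4, hR₂, card_cj, hR₁, card_cj, D.card]; norm_num)
    exact this ▸ inf_le_left
  -- commutators
  have hcV : ∀ a ∈ R, ∀ b ∈ R₁, a * b * a⁻¹ * b⁻¹ ∈ V := fun a ha b hb => by
    rw [← h01]
    refine ⟨?_, ?_⟩
    · rw [show a * b * a⁻¹ * b⁻¹ = a * (b * a⁻¹ * b⁻¹) by group]
      exact mul_mem ha ((mem_normalizer_iff.1 (hKR (hR₁K hb)) _).1 (inv_mem ha))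
    · exact R₁.mul_mem ((mem_normalizer_iff.1 (hRn₁ ha) _).1 hb) (R₁.inv_mem hb)
  have hVc : ∀ v ∈ V, ∀ w ∈ W, v * w = w * v := fun v hv w hw =>
    mem_centralizer_iff.1 (hWK hw) v hv
  -- every coset of `V` in `R` meets `R₂ R₁`
  have hlink : ∀ a ∈ R, ∃ b ∈ R₁, a * b ∈ R₂ := by
    intro a ha
    have hn21 : R₂ ≤ normalizer (R₁ : Set G) := hR₂K.trans hKR₁
    have h21 : R₂ ⊔ R₁ = W := by
      refine Subgroup.eq_of_le_of_card_ge (sup_le hR₂W le_sup_right) ?_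
      have h := hsup hn21
      have hle : R₂ ⊓ R₁ ≤ V := by
        intro b hb
        have h1 : y⁻¹ * b * y ∈ R₁ := mem_cj.1 hb.1
        have h2 : y⁻¹ * b * y ∈ R := mem_cj.1 hb.2
        have h3 : y⁻¹ * b * y ∈ V := h01 ▸ ⟨h2, h1⟩
        have h4 := (hyV _ h3).1
        rwa [show y * (y⁻¹ * b * y) * y⁻¹ = b by group] at h4
      rw [le_antisymm hle (le_inf hVR₂ hVR₁), hV, D.xV, hR₂, card_cj, hR₁, card_cj, D.card] at h
      rw [hWcard, hR₂, hR₁]
      omega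
    have ha' : a ∈ ((R₂ ⊔ R₁ : Subgroup G) : Set G) := h21.symm ▸ mem_sup_left ha
    rw [Subgroup.coe_mul_of_left_le_normalizer_right R₂ R₁ hn21] at ha'
    obtain ⟨r, hr, b, hb, rfl⟩ := Set.mem_mul.1 ha'
    exact ⟨b⁻¹, inv_mem hb, by rwa [mul_inv_cancel_right]⟩
  have helem₁ : ∀ b ∈ R₁, b * b = 1 := fun b hb => by
    have h := D.elem _ (mem_cj.1 hb)
    rw [show y⁻¹ * b * y * (y⁻¹ * b * y) = y⁻¹ * (b * b) * y⁻¹⁻¹ by group] at h
    exact conj_eq_one_iff.1 h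
  have helem₂ : ∀ b ∈ R₂, b * b = 1 := fun b hb => by
    have h := helem₁ _ (mem_cj.1 hb)
    rw [show y⁻¹ * b * y * (y⁻¹ * b * y) = y⁻¹ * (b * b) * y⁻¹⁻¹ by group] at h
    exact conj_eq_one_iff.1 h
  have hab₂ : ∀ r ∈ R₂, ∀ s ∈ R₂, r * s = s * r := fun r hr s hs => by
    have h := helem₂ _ (mul_mem hr hs)
    calc r * s = (r * s)⁻¹ := (inv_eq_of_mul_eq_one_right h).symm
      _ = s⁻¹ * r⁻¹ := by group
      _ = s * r := by rw [inv_eq_of_mul_eq_one_right (helem₂ r hr),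
            inv_eq_of_mul_eq_one_right (helem₂ s hs)]
  have hone : ∀ a ∈ R, ∀ b ∈ R₁, a * b ∈ R₂ → a * b * a⁻¹ * b⁻¹ = 1 := fun a ha b hb hab => by
    rw [inv_eq_of_mul_eq_one_right (D.elem a ha), inv_eq_of_mul_eq_one_right (helem₁ b hb)]
    rw [mul_assoc]
    exact helem₂ _ hab
  obtain ⟨a₁, ha₁, ha₁V⟩ : ∃ a ∈ R, a ∉ V := by
    by_contra hall
    push Not at hall
    have := card_le_of_le (hall : R ≤ V)
    rw [D.card, hV, D.xV] at this
    omega
  set E := V ⊔ zpowers a₁ with hE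
  have hVa : V ≤ normalizer (zpowers a₁ : Set G) := by
    intro v hv
    have hc : Commute v a₁ := hRab v (hVR hv) a₁ ha₁
    refine mem_normalizer_iff.2 fun r => ⟨fun hr => ?_, fun hr => ?_⟩
    · obtain ⟨i, rfl⟩ := mem_zpowers_iff.1 hr
      rw [(hc.zpow_right i).eq, mul_inv_cancel_right]
      exact zpow_mem (mem_zpowers a₁) i
    · obtain ⟨i, hi⟩ := mem_zpowers_iff.1 hr
      refine mem_zpowers_iff.2 ⟨i, ?_⟩
      have : v * a₁ ^ i * v⁻¹ = v * r * v⁻¹ := by rw [(hc.zpow_right i).eq, mul_inv_cancel_right, hi]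
      exact mul_left_cancel (mul_right_cancel this)
  have hEcard : Nat.card E ≤ 8 := by
    have h := hsup hVa
    have h2 : Nat.card (zpowers a₁) ≤ 2 := by
      rw [Nat.card_zpowers]
      exact Nat.le_of_dvd (by norm_num) (orderOf_dvd_of_pow_eq_one (by rw [sq]; exact D.elem a₁ ha₁))
    have hpos : 0 < Nat.card ↥(V ⊓ zpowers a₁) := Nat.card_pos
    rw [← hE, hV, D.xV] at h
    rw [← hV] at h
    calc Nat.card E ≤ Nat.card E * Nat.card ↥(V ⊓ zpowers a₁) := Nat.le_mul_of_pos_right _ hpos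
      _ = 4 * Nat.card (zpowers a₁) := h
      _ ≤ 8 := by omega
  obtain ⟨a₂, ha₂, ha₂E⟩ : ∃ a ∈ R, a ∉ E := by
    by_contra hall
    push Not at hall
    have := card_le_of_le (hall : R ≤ E)
    rw [D.card] at this
    omega
  obtain ⟨b₁, hb₁, hab₁⟩ := hlink a₁ ha₁
  obtain ⟨b₂, hb₂, hab₂'⟩ := hlink a₂ ha₂
  set c := a₁ * b₂ * a₁⁻¹ * b₂⁻¹ with hc
  have hcV' : c ∈ V := hcV a₁ ha₁ b₂ hb₂
  -- bilinearity
  have hmulR : ∀ a ∈ R, ∀ a' ∈ R, ∀ b ∈ R₁,
      a * a' * b * (a * a')⁻¹ * b⁻¹ = (a' * b * a'⁻¹ * b⁻¹) * (a * b * a⁻¹ * b⁻¹) := by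
    intro a ha a' ha' b hb
    have h := hVc _ (hcV a' ha' b hb) a (mem_sup_left ha)
    calc a * a' * b * (a * a')⁻¹ * b⁻¹ = a * (a' * b * a'⁻¹ * b⁻¹) * (b * a⁻¹ * b⁻¹) := by group
      _ = (a' * b * a'⁻¹ * b⁻¹) * a * (b * a⁻¹ * b⁻¹) := by rw [h]
      _ = _ := by group
  have hmulR₁ : ∀ a ∈ R, ∀ b ∈ R₁, ∀ b' ∈ R₁,
      a * (b * b') * a⁻¹ * (b * b')⁻¹ = (a * b * a⁻¹ * b⁻¹) * (a * b' * a⁻¹ * b'⁻¹) :=
    fun a ha b hb b' hb' => comm_mul fun d hd => hd ▸ hVc _ (hcV a ha b' hb') b (mem_sup_right hb)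
  have hvone : ∀ v ∈ V, ∀ w ∈ W, v * w * v⁻¹ * w⁻¹ = 1 := fun v hv w hw => by
    rw [hVc v hv w hw]; group
  set Dc := zpowers c with hDc
  have hab₁' : ∀ b ∈ R₁, ∀ b' ∈ R₁, b * b' = b' * b := fun b hb b' hb' => by
    have h := hRab _ (mem_cj.1 hb) _ (mem_cj.1 hb')
    calc b * b' = y * (y⁻¹ * b * y * (y⁻¹ * b' * y)) * y⁻¹ := by group
      _ = y * (y⁻¹ * b' * y * (y⁻¹ * b * y)) * y⁻¹ := by rw [h]
      _ = b' * b := by group
  -- linked pairs
  have hsym : ∀ a ∈ R, ∀ b ∈ R₁, ∀ a' ∈ R, ∀ b' ∈ R₁, a * b ∈ R₂ → a' * b' ∈ R₂ →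
      a' * b * a'⁻¹ * b⁻¹ = a * b' * a⁻¹ * b'⁻¹ := by
    intro a ha b hb a' ha' b' hb' h h'
    have key : ∀ p ∈ R, ∀ q ∈ R₁, ∀ p' ∈ R, ∀ q' ∈ R₁,
        p * q * (p' * q') = (p' * q * p'⁻¹ * q⁻¹)⁻¹ * (p * p' * (q * q')) := by
      intro p hp q hq p' hp' q' hq'
      have e := hVc _ (inv_mem (hcV p' hp' q hq)) p (mem_sup_left hp)
      calc p * q * (p' * q') = p * (p' * q * p'⁻¹ * q⁻¹)⁻¹ * (p' * (q * q')) := by group
        _ = (p' * q * p'⁻¹ * q⁻¹)⁻¹ * p * (p' * (q * q')) := by rw [e]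
        _ = _ := by group
    have hcomm := hab₂ _ h _ h'
    rw [key a ha b hb a' ha' b' hb', key a' ha' b' hb' a ha b hb, hRab a' ha' a ha,
      hab₁' b' hb' b hb] at hcomm
    exact inv_injective (mul_right_cancel hcomm)
  -- a subgroup containing `V`, `a₁`, `a₂` contains `R`
  have hgen : ∀ S : Subgroup G, V ≤ S → a₁ ∈ S → a₂ ∈ S → R ≤ S := by
    intro S h1 h2 h3
    have hVE : V ≤ E := le_sup_left
    have ha₁E : a₁ ∈ E := mem_sup_right (mem_zpowers a₁)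
    have hER : E ≤ R := sup_le hVR (zpowers_le.2 ha₁)
    set T := E ⊔ zpowers a₂ with hT
    have hTR : T ≤ R := sup_le hER (zpowers_le.2 ha₂)
    have hTS : T ≤ S := sup_le (sup_le h1 (zpowers_le.2 h2)) (zpowers_le.2 h3)
    have l1 : Nat.card V < Nat.card E := by
      by_contra hle
      push Not at hle
      exact ha₁V ((Subgroup.eq_of_le_of_card_ge hVE hle).symm ▸ ha₁E)
    have l2 : Nat.card E < Nat.card T := by
      by_contra hle
      push Not at hle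
      exact ha₂E ((Subgroup.eq_of_le_of_card_ge le_sup_left hle).symm ▸
        mem_sup_right (mem_zpowers a₂))
    have d1 := card_dvd_of_le hER
    have d2 := card_dvd_of_le hTR
    rw [D.card] at d1 d2
    rw [hV, D.xV] at l1
    obtain ⟨i, hi, hi'⟩ := (Nat.dvd_prime_pow (m := 4) Nat.prime_two).1 (show _ ∣ 2 ^ 4 from d1)
    obtain ⟨j, hj, hj'⟩ := (Nat.dvd_prime_pow (m := 4) Nat.prime_two).1 (show _ ∣ 2 ^ 4 from d2)
    rw [hi'] at l1 l2
    rw [hj'] at l2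
    have hj4 : j = 4 := by
      interval_cases i <;> interval_cases j <;> omega
    have := Subgroup.eq_of_le_of_card_ge hTR (by rw [hj', hj4, D.card]; norm_num)
    exact this ▸ hTS
  -- all commutators lie in `⟨c⟩`
  have hsub : ∀ b ∈ R₁, a₁ * b * a₁⁻¹ * b⁻¹ ∈ Dc → a₂ * b * a₂⁻¹ * b⁻¹ ∈ Dc →
      ∀ a ∈ R, a * b * a⁻¹ * b⁻¹ ∈ Dc := by
    intro b hb h1 h2
    let S : Subgroup G :=
      { carrier := {a | a ∈ R ∧ a * b * a⁻¹ * b⁻¹ ∈ Dc}
        one_mem' := ⟨one_mem _, by simp [one_mem]⟩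
        mul_mem' := fun {a a'} ha ha' => ⟨mul_mem ha.1 ha'.1, by
          rw [hmulR a ha.1 a' ha'.1 b hb]
          exact mul_mem ha'.2 ha.2⟩
        inv_mem' := fun {a} ha => by
          have : a⁻¹ = a := inv_eq_of_mul_eq_one_right (D.elem a ha.1)
          rw [this]
          exact ha }
    have hS := hgen S (fun v hv => ⟨hVR hv, by
      rw [hvone v hv b (mem_sup_right hb)]; exact one_mem _⟩) ⟨ha₁, h1⟩ ⟨ha₂, h2⟩
    exact fun a ha => (hS ha).2
  have h11 : a₁ * b₁ * a₁⁻¹ * b₁⁻¹ ∈ Dc := by rw [hone a₁ ha₁ b₁ hb₁ hab₁]; exact one_mem _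
  have h22 : a₂ * b₂ * a₂⁻¹ * b₂⁻¹ ∈ Dc := by rw [hone a₂ ha₂ b₂ hb₂ hab₂']; exact one_mem _
  have h12 : a₁ * b₂ * a₁⁻¹ * b₂⁻¹ ∈ Dc := hc ▸ mem_zpowers c
  have h21 : a₂ * b₁ * a₂⁻¹ * b₁⁻¹ ∈ Dc := by
    rw [hsym a₁ ha₁ b₁ hb₁ a₂ ha₂ b₂ hb₂ hab₁ hab₂']
    exact h12
  have hlink' : ∀ b ∈ R₁, ∃ a ∈ R, a * b ∈ R₂ := by
    intro b hb
    -- use a linked pair for every element of `R₁`
    have hn20 : R₂ ≤ normalizer (R : Set G) := hR₂K.trans hKR
    have h20 : R₂ ⊔ R = W := by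
      refine Subgroup.eq_of_le_of_card_ge (sup_le hR₂W le_sup_left) ?_
      have h := hsup hn20
      have hle : R₂ ⊓ R ≤ V := by
        intro d hd
        have h1 : y * d * y⁻¹ ∈ R := by
          have e := mem_cj.1 (mem_cj.1 hd.1)
          rw [show y⁻¹ * (y⁻¹ * d * y) * y = (y * y)⁻¹ * d * (y * y) by group,
            show y * y = y⁻¹ from eq_inv_of_mul_eq_one_left hy3, inv_inv] at e
          exact e
        have h2 : y * d * y⁻¹ ∈ R₁ := mem_cj.2 (by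
          rw [show y⁻¹ * (y * d * y⁻¹) * y = d by group]; exact hd.2)
        have h4 := (hyV _ (h01 ▸ ⟨h1, h2⟩ : y * d * y⁻¹ ∈ V)).2
        rwa [show y⁻¹ * (y * d * y⁻¹) * y = d by group] at h4
      rw [le_antisymm hle (le_inf hVR₂ hVR), hV, D.xV, hR₂, card_cj, hR₁, card_cj, D.card] at h
      rw [hWcard, hR₂, hR₁]
      omega
    have hb' : b ∈ ((R₂ ⊔ R : Subgroup G) : Set G) := h20.symm ▸ mem_sup_right hb
    rw [Subgroup.coe_mul_of_left_le_normalizer_right R₂ R hn20] at hb'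
    obtain ⟨r, hr, a, ha, e⟩ := Set.mem_mul.1 hb'
    -- `b = r a`, so `b a = r` and `a b` is its inverse
    have hba : b * a⁻¹ = r := by rw [← e, mul_inv_cancel_right]
    refine ⟨a, ha, ?_⟩
    have : a * b⁻¹ = r⁻¹ := by rw [← hba, mul_inv_rev, inv_inv]
    rw [inv_eq_of_mul_eq_one_right (helem₁ b hb)] at this
    exact this ▸ inv_mem hr
  have hall : ∀ a ∈ R, ∀ b ∈ R₁, a * b * a⁻¹ * b⁻¹ ∈ Dc := by
    intro a ha b hb
    obtain ⟨a', ha', hab'⟩ := hlink' b hb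
    refine hsub b hb ?_ ?_ a ha
    · rw [hsym a' ha' b hb a₁ ha₁ b₁ hb₁ hab' hab₁]
      exact hsub b₁ hb₁ h11 h21 a' ha'
    · rw [hsym a' ha' b hb a₂ ha₂ b₂ hb₂ hab' hab₂']
      exact hsub b₂ hb₂ h12 h22 a' ha'
  have hyc : y * c * y⁻¹ ∈ Dc := by
    have hA : y * a₁ * y⁻¹ ∈ R₁ := mem_cj.2 (by
      rw [show y⁻¹ * (y * a₁ * y⁻¹) * y = a₁ by group]; exact ha₁)
    have hB : y * b₂ * y⁻¹ ∈ R₂ := mem_cj.2 (by
      rw [show y⁻¹ * (y * b₂ * y⁻¹) * y = b₂ by group]; exact hb₂)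
    obtain ⟨a, ha, b, hb, e⟩ := hWmem _ (hR₂W hB)
    have hcc : y * c * y⁻¹ =
        (y * a₁ * y⁻¹) * (a * b) * (y * a₁ * y⁻¹)⁻¹ * (a * b)⁻¹ := by rw [hc, ← e]; group
    rw [hcc]
    set A := y * a₁ * y⁻¹
    have h := hab₁' b hb A⁻¹ (inv_mem hA)
    have e2 : A * (a * b) * A⁻¹ * (a * b)⁻¹ = (a * A * a⁻¹ * A⁻¹)⁻¹ := by
      calc A * (a * b) * A⁻¹ * (a * b)⁻¹ = A * a * (b * A⁻¹) * b⁻¹ * a⁻¹ := by group
        _ = A * a * (A⁻¹ * b) * b⁻¹ * a⁻¹ := by rw [h]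
        _ = (a * A * a⁻¹ * A⁻¹)⁻¹ := by group
    rw [e2]
    exact inv_mem (hall a ha A hA)
  have hc1 : c = 1 := by
    have hcc : c * c = 1 := D.elem c (hVR hcV')
    obtain ⟨i, hi⟩ := mem_powers_iff_mem_zpowers.2 hyc
    simp only at hi
    rcases Nat.even_or_odd i with ⟨k, rfl⟩ | ⟨k, rfl⟩
    · rw [← two_mul, pow_mul, sq, hcc, one_pow] at hi
      exact conj_eq_one_iff.1 hi.symm
    · rw [pow_succ, pow_mul, sq, hcc, one_pow, one_mul] at hi
      exact D.yfix c hcV' hi.symm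
  refine hne (Subgroup.eq_of_le_of_card_ge (fun b hb => ?_) (by rw [hR₁, card_cj]))
  rw [← D.self_cent]
  refine mem_centralizer_iff.2 fun a ha => ?_
  have h := hall a ha b hb
  rw [hDc, hc1, zpowers_one_eq_bot, mem_bot, mul_inv_eq_one, mul_inv_eq_iff_eq_mul] at h
  exact h

end CfsgLib.M23Nse.HeptadP
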