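import Cfsg.Agent.Lib.M23Nse.Defs
import Cfsg.Agent.Lib.M23Nse.HeptadSwap
import Cfsg.Agent.Lib.Small.Order2520

/-!
# S3595, piece B: the heptad

The normal subgroup `R` of order 16 of an involution centralizer has normalizer of order 40320,
transitive on its involutions, with simple quotient of order 2520.
-/

set_option autoImplicit false
set_option linter.style.haveILetI false
set_option linter.unusedSectionVars false

namespace CfsgLib.M23Nse.HeptadP

open Subgroup

universe u

variable {G : Type u} [Group G] [Finite G]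

/-- an involution centralizing an element of order seven -/
theorem invol_unique {u z r : G} (hu : orderOf u = 7) (hz : orderOf z = 2) (huz : Commute u z)
    (hc : Nat.card (centralizer ({u} : Set G)) = 14) (hr : orderOf r = 2) (hru : Commute r u) :
    r = z := by
  have hord : orderOf (u * z) = 14 := by
    rw [huz.orderOf_mul_eq_mul_orderOf_of_coprime (by rw [hu, hz]; norm_num), hu, hz]
  have hle : zpowers (u * z) ≤ centralizer ({u} : Set G) :=
    zpowers_le.2 (mem_centralizer_singleton_iff.2 ((Commute.refl u).mul_right huz).symm.eq)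
  have heq := Subgroup.eq_of_le_of_card_ge hle (by rw [Nat.card_zpowers, hord, hc])
  obtain ⟨i, hi⟩ := mem_powers_iff_mem_zpowers.2
    (heq ▸ mem_centralizer_singleton_iff.2 hru.eq : r ∈ zpowers (u * z))
  simp only at hi
  have h14 : 14 ∣ i + i := by
    rw [← hord, orderOf_dvd_iff_pow_eq_one, pow_add, hi, ← sq, ← hr, pow_orderOf_eq_one]
  obtain ⟨j, rfl⟩ : 7 ∣ i := by omega
  have hz2 : z ^ 2 = 1 := by rw [← hz]; exact pow_orderOf_eq_one z
  have h7 : (u * z) ^ 7 = z := by
    rw [huz.mul_pow, show u ^ 7 = 1 by rw [← hu]; exact pow_orderOf_eq_one u, one_mul,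
      show (7 : ℕ) = 2 * 3 + 1 by norm_num, pow_succ, pow_mul, hz2, one_pow, one_mul]
  rw [pow_mul, h7] at hi
  rcases Nat.even_or_odd j with ⟨k, rfl⟩ | ⟨k, rfl⟩
  · exfalso
    rw [← two_mul, pow_mul, hz2, one_pow] at hi
    rw [← hi, orderOf_one] at hr
    norm_num at hr
  · rw [← hi, pow_succ, pow_mul, hz2, one_pow, one_mul]

/-- orbit-stabilizer for conjugation -/
theorem card_orbit (K : Subgroup G) (z : G) :
    Nat.card {v : G // ∃ k ∈ K, k * z * k⁻¹ = v} * Nat.card ↥(K ⊓ centralizer ({z} : Set G)) =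
      Nat.card K := by
  classical
  let S := (centralizer ({z} : Set G)).subgroupOf K
  let f : K ⧸ S → {v : G // ∃ k ∈ K, k * z * k⁻¹ = v} :=
    fun q => Quotient.liftOn' q (fun k => ⟨(k : G) * z * (k : G)⁻¹, k, k.2, rfl⟩) (fun a b h => by
      rw [QuotientGroup.leftRel_apply, mem_subgroupOf, mem_centralizer_singleton_iff] at h
      refine Subtype.ext ?_
      show (a : G) * z * (a : G)⁻¹ = (b : G) * z * (b : G)⁻¹
      simp only [Subgroup.coe_mul, Subgroup.coe_inv] at h
      calc (a : G) * z * (a : G)⁻¹ = (a : G) * (z * ((a : G)⁻¹ * b)) * (b : G)⁻¹ := by group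
        _ = (a : G) * ((a : G)⁻¹ * b * z) * (b : G)⁻¹ := by rw [h]
        _ = (b : G) * z * (b : G)⁻¹ := by group)
  have hf : Function.Bijective f := by
    refine ⟨fun p q => ?_, fun ⟨v, k, hk, hv⟩ => ⟨QuotientGroup.mk ⟨k, hk⟩, Subtype.ext hv⟩⟩
    induction p using QuotientGroup.induction_on with
    | _ a =>
      induction q using QuotientGroup.induction_on with
      | _ b =>
        intro h
        rw [QuotientGroup.eq, mem_subgroupOf, mem_centralizer_singleton_iff]
        have h' : (a : G) * z * (a : G)⁻¹ = (b : G) * z * (b : G)⁻¹ := congrArg Subtype.val h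
        simp only [Subgroup.coe_mul, Subgroup.coe_inv]
        calc (a : G)⁻¹ * b * z = (a : G)⁻¹ * ((b : G) * z * (b : G)⁻¹) * b := by group
          _ = (a : G)⁻¹ * ((a : G) * z * (a : G)⁻¹) * b := by rw [h']
          _ = z * ((a : G)⁻¹ * b) := by group
  rw [← Nat.card_congr (Equiv.ofBijective f hf), inf_comm,
    ← Nat.card_congr (subgroupOfEquivOfLe (inf_le_right : centralizer ({z} : Set G) ⊓ K ≤ K)).toEquiv,
    inf_subgroupOf_right, ← index_eq_card, mul_comm]
  exact S.card_mul_index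

/-- The subgroup of order sixteen seen from `G`. -/
structure Pre (z : G) (R : Subgroup G) : Prop where
  ord : orderOf z = 2
  cardC : Nat.card (centralizer ({z} : Set G)) = 2688
  zR : z ∈ R
  card : Nat.card R = 16
  elem : ∀ a ∈ R, a * a = 1
  self : centralizer (R : Set G) = R
  CN : centralizer ({z} : Set G) ≤ normalizer (R : Set G)
  quot : ∀ K : Subgroup G, R ≤ K → K ≤ centralizer ({z} : Set G) →
    centralizer ({z} : Set G) ≤ normalizer (K : Set G) → K = R ∨ K = centralizer ({z} : Set G)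
  orb : ∀ a ∈ R, a ≠ 1 → a ≠ z → ∀ b ∈ R, b ≠ 1 → b ≠ z →
    ∃ g ∈ centralizer ({z} : Set G), g * a * g⁻¹ = b ∨ g * (a * z) * g⁻¹ = b
  trans : ∀ b ∈ R, b ≠ 1 → ∃ m ∈ normalizer (R : Set G), m * z * m⁻¹ = b

variable {z : G} {R : Subgroup G}

/-- the centralizer of a conjugate -/
theorem mem_cent_conj {m z g : G} :
    g ∈ centralizer ({m * z * m⁻¹} : Set G) ↔ m⁻¹ * g * m ∈ centralizer ({z} : Set G) := by
  rw [mem_centralizer_singleton_iff, mem_centralizer_singleton_iff]
  constructor
  · intro h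
    calc m⁻¹ * g * m * z = m⁻¹ * (g * (m * z * m⁻¹)) * m := by group
      _ = m⁻¹ * (m * z * m⁻¹ * g) * m := by rw [h]
      _ = z * (m⁻¹ * g * m) := by group
  · intro h
    calc g * (m * z * m⁻¹) = m * (m⁻¹ * g * m * z) * m⁻¹ := by group
      _ = m * (z * (m⁻¹ * g * m)) * m⁻¹ := by rw [h]
      _ = m * z * m⁻¹ * g := by group

/-- A subgroup of the normalizer of `R` normalized by it, above `R`. -/
theorem Pre.normal_card (D : Pre z R) (N : Subgroup G) (hRN : R ≤ N)
    (hNM : N ≤ normalizer (R : Set G)) (hMN : normalizer (R : Set G) ≤ normalizer (N : Set G))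
    (hne : N ≠ R) : Nat.card N = 240 ∨ Nat.card N = 40320 := by
  classical
  set O : Set G := {v | ∃ n ∈ N, n * z * n⁻¹ = v} with hO
  set C := centralizer ({z} : Set G) with hC
  have hzz : z * z = 1 := D.elem z D.zR
  have hz1 : z ≠ 1 := fun h => by
    have := D.ord
    rw [h, orderOf_one] at this
    norm_num at this
  set T : Set G := {v | v ∈ R ∧ v ≠ 1} with hT
  have hTfin : T.Finite := Set.toFinite _
  have hTcard : T.ncard = 15 := by
    have h : T = (R : Set G) \ {1} := by ext v; simp [hT]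
    rw [h, Set.ncard_sdiff (by simp), ← Nat.card_coe_set_eq, Set.ncard_singleton]
    rw [show Nat.card ↥((R : Set G)) = Nat.card R from rfl, D.card]
  have hOT : O ⊆ T := by
    rintro v ⟨n, hn, rfl⟩
    exact ⟨(mem_normalizer_iff.1 (hNM hn) z).1 D.zR, fun h => hz1 (conj_eq_one_iff.1 h)⟩
  have hOconj : ∀ g ∈ C, ∀ v ∈ O, g * v * g⁻¹ ∈ O := by
    rintro g hg v ⟨n, hn, rfl⟩
    refine ⟨g * n * g⁻¹, (mem_normalizer_iff.1 (hMN (D.CN hg)) n).1 hn, ?_⟩
    have h := mem_centralizer_singleton_iff.1 hg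
    calc g * n * g⁻¹ * z * (g * n * g⁻¹)⁻¹ = g * n * g⁻¹ * (z * g) * n⁻¹ * g⁻¹ := by group
      _ = g * n * g⁻¹ * (g * z) * n⁻¹ * g⁻¹ := by rw [h]
      _ = _ := by group
  have hK : N ⊓ C = R ∨ N ⊓ C = C := by
    refine D.quot (N ⊓ C) (le_inf hRN ?_) inf_le_right fun g hg => ?_
    · intro a ha
      rw [hC, mem_centralizer_singleton_iff]
      have h : a ∈ centralizer (R : Set G) := D.self.symm ▸ ha
      exact (mem_centralizer_iff.1 h z D.zR).symm
    · refine mem_normalizer_iff.2 fun a => ?_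
      rw [mem_inf, mem_inf, mem_normalizer_iff.1 (hMN (D.CN hg)),
        mem_normalizer_iff.1 (le_normalizer hg : g ∈ normalizer (C : Set G))]
  have hmoved : ∃ b ∈ O, b ≠ z := by
    by_contra hall
    push Not at hall
    have hNC : N ≤ C := fun n hn => mem_centralizer_singleton_iff.2
      (mul_inv_eq_iff_eq_mul.1 (hall _ ⟨n, hn, rfl⟩))
    rw [inf_eq_left.2 hNC] at hK
    have hNeq := hK.resolve_left hne
    -- the centralizer of `z` would centralize `R`
    have hle : C ≤ centralizer (R : Set G) := by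
      intro c hc
      refine mem_centralizer_iff.2 fun v hv => ?_
      by_cases hv1 : v = 1
      · rw [hv1, one_mul, mul_one]
      obtain ⟨m, hm, rfl⟩ := D.trans v hv hv1
      refine (mem_centralizer_singleton_iff.1 (mem_cent_conj.2 ?_)).symm
      have h := (mem_normalizer_iff.1 (inv_mem (hMN hm)) c).1 (hNeq.ge hc)
      rw [inv_inv] at h
      exact hNeq.le h
    have := card_le_of_le hle
    rw [D.self, D.card, hC, D.cardC] at this
    omega
  have hOfin : O.Finite := hTfin.subset hOT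
  have hzO : z ∈ O := ⟨1, one_mem _, by group⟩
  have h8 : 8 ≤ O.ncard := by
    obtain ⟨b₀, hb₀, hb₀z⟩ := hmoved
    have hsub : T \ {z} ⊆ (O \ {z}) ∪ (· * z) '' (O \ {z}) := by
      rintro b ⟨⟨hb, hb1⟩, hbz : b ∉ ({z} : Set G)⟩
      rw [Set.mem_singleton_iff] at hbz
      obtain ⟨g, hg, h | h⟩ := D.orb b₀ (hOT hb₀).1 (hOT hb₀).2 hb₀z b hb hb1 hbz
      · exact Or.inl ⟨h ▸ hOconj g hg b₀ hb₀, hbz⟩
      · refine Or.inr ⟨b * z, ⟨?_, ?_⟩, by show b * z * z = b; rw [mul_assoc, hzz, mul_one]⟩
        · have he : g * b₀ * g⁻¹ = b * z := by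
            have hc := mem_centralizer_singleton_iff.1 hg
            rw [← h]
            calc g * b₀ * g⁻¹ = g * b₀ * g⁻¹ * (z * z) := by rw [hzz, mul_one]
              _ = g * b₀ * g⁻¹ * (z * g) * g⁻¹ * z := by group
              _ = g * b₀ * g⁻¹ * (g * z) * g⁻¹ * z := by rw [hc]
              _ = g * (b₀ * z) * g⁻¹ * z := by group
          exact he ▸ hOconj g hg b₀ hb₀
        · exact fun h' => hb1 (mul_eq_right.1 (h' : b * z = z))
    have h1 : (T \ {z}).ncard ≤ (O \ {z}).ncard + (O \ {z}).ncard :=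
      (Set.ncard_le_ncard hsub ((hOfin.diff).union ((hOfin.diff).image _))).trans
        ((Set.ncard_union_le _ _).trans (Nat.add_le_add_left (Set.ncard_image_le hOfin.diff) _))
    rw [Set.ncard_sdiff_singleton_of_mem (hOT hzO), hTcard,
      Set.ncard_sdiff_singleton_of_mem hzO] at h1
    omega
  have hfull : O = T := by
    refine Set.Subset.antisymm hOT fun b hb => ?_
    by_contra hbO
    obtain ⟨m, hm, hmb⟩ := D.trans b hb.1 hb.2
    set O' := (fun v => m * v * m⁻¹) '' O with hO'
    have hdisj : Disjoint O O' := by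
      rw [Set.disjoint_left]
      rintro v ⟨n', hn', hv'⟩ ⟨w, ⟨n, hn, rfl⟩, hv⟩
      refine hbO ⟨(m * n * m⁻¹)⁻¹ * n',
        mul_mem (inv_mem ((mem_normalizer_iff.1 (hMN hm) n).1 hn)) hn', ?_⟩
      have e : m * (n * z * n⁻¹) * m⁻¹ = n' * z * n'⁻¹ := hv.trans hv'.symm
      calc (m * n * m⁻¹)⁻¹ * n' * z * ((m * n * m⁻¹)⁻¹ * n')⁻¹
          = (m * n * m⁻¹)⁻¹ * (n' * z * n'⁻¹) * (m * n * m⁻¹) := by group
        _ = (m * n * m⁻¹)⁻¹ * (m * (n * z * n⁻¹) * m⁻¹) * (m * n * m⁻¹) := by rw [e]
        _ = m * z * m⁻¹ := by group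
        _ = b := hmb
    have hO'T : O' ⊆ T := by
      rintro v ⟨w, hw, rfl⟩
      exact ⟨(mem_normalizer_iff.1 hm w).1 (hOT hw).1,
        fun h => (hOT hw).2 (conj_eq_one_iff.1 h)⟩
    have hcard' : O'.ncard = O.ncard := Set.ncard_image_of_injective _ fun v w h =>
      mul_left_cancel (mul_right_cancel h)
    have h := Set.ncard_le_ncard (Set.union_subset hOT hO'T) hTfin
    rw [Set.ncard_union_eq hdisj hOfin (hTfin.subset hO'T), hcard', hTcard] at h
    omega
  have h := card_orbit N z
  rw [show Nat.card {v : G // ∃ k ∈ N, k * z * k⁻¹ = v} = O.ncard from Nat.card_coe_set_eq O,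
    hfull, hTcard, ← hC] at h
  rcases hK with e | e
  · rw [e, D.card] at h
    exact Or.inl h.symm
  · rw [e, hC, D.cardC] at h
    exact Or.inr h.symm

theorem Pre.card_normalizer (D : Pre z R) : Nat.card (normalizer (R : Set G)) = 40320 := by
  have h := card_orbit (normalizer (R : Set G)) z
  rw [inf_eq_right.2 D.CN, D.cardC] at h
  have hT : {v : G | ∃ k ∈ normalizer (R : Set G), k * z * k⁻¹ = v} = (R : Set G) \ {1} := by
    ext v
    refine ⟨?_, fun hv => D.trans v hv.1 hv.2⟩
    rintro ⟨k, hk, rfl⟩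
    refine ⟨(mem_normalizer_iff.1 hk z).1 D.zR, fun h => ?_⟩
    have h1 : z = 1 := conj_eq_one_iff.1 h
    have := D.ord
    rw [h1, orderOf_one] at this
    norm_num at this
  rw [show Nat.card {v : G // ∃ k ∈ normalizer (R : Set G), k * z * k⁻¹ = v} =
      Set.ncard {v : G | ∃ k ∈ normalizer (R : Set G), k * z * k⁻¹ = v} from Nat.card_coe_set_eq _,
    hT, Set.ncard_sdiff (by simp), ← Nat.card_coe_set_eq, Set.ncard_singleton,
    show Nat.card ↥((R : Set G)) = Nat.card R from rfl, D.card] at h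
  omega

/-- the quotient is simple of order 2520 -/
theorem Pre.simple (D : Pre z R) :
    IsSimpleGroup (normalizer (R : Set G) ⧸ R.subgroupOf (normalizer (R : Set G))) ∧
      Nat.card (normalizer (R : Set G) ⧸ R.subgroupOf (normalizer (R : Set G))) = 2520 := by
  classical
  set M := normalizer (R : Set G) with hM
  set R' := R.subgroupOf M with hR'
  haveI : R'.Normal := Subgroup.normal_in_normalizer
  have hR'card : Nat.card R' = 16 := by
    rw [hR', Nat.card_congr (subgroupOfEquivOfLe (le_normalizer : R ≤ M)).toEquiv, D.card]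
  have hQ : Nat.card (M ⧸ R') = 2520 := by
    have h := R'.card_mul_index
    have hMc : Nat.card M = 40320 := D.card_normalizer
    rw [hR'card, hMc] at h
    rw [← index_eq_card]
    omega
  refine ⟨?_, hQ⟩
  -- orders of normal subgroups of the quotient
  have key : ∀ K : Subgroup (M ⧸ R'), K.Normal → K ≠ ⊥ → Nat.card K = 15 ∨ Nat.card K = 2520 := by
    intro K hK hK1
    set N := (K.comap (QuotientGroup.mk' R')).map M.subtype with hN
    have hsurj := QuotientGroup.mk'_surjective R'
    have hcard : Nat.card N = 16 * Nat.card K := by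
      rw [hN, card_map_of_injective M.subtype_injective]
      have h1 := (K.comap (QuotientGroup.mk' R')).card_mul_index
      have hMc : Nat.card M = 40320 := D.card_normalizer
      rw [index_comap_of_surjective _ hsurj, hMc] at h1
      have h2 := K.card_mul_index
      rw [hQ] at h2
      have hpos : 0 < K.index := Nat.pos_of_ne_zero Subgroup.index_ne_zero_of_finite
      nlinarith
    have hle : R ≤ N := fun a ha => ⟨⟨a, le_normalizer ha⟩, by
      show QuotientGroup.mk' R' _ ∈ K
      rw [QuotientGroup.mk'_apply, (QuotientGroup.eq_one_iff _).2 (show _ ∈ R' from ha)]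
      exact one_mem _, rfl⟩
    haveI : (K.comap (QuotientGroup.mk' R')).Normal := hK.comap _
    have hMN : M ≤ normalizer (N : Set G) := by
      have key2 : ∀ g : M, ∀ a ∈ N, (g : G) * a * (g : G)⁻¹ ∈ N := by
        rintro g _ ⟨a, ha, rfl⟩
        exact ⟨g * a * g⁻¹, Subgroup.Normal.conj_mem inferInstance a ha g, rfl⟩
      intro g hg
      refine mem_normalizer_iff.2 fun a => ⟨key2 ⟨g, hg⟩ a, fun h => ?_⟩
      have := key2 ⟨g, hg⟩⁻¹ _ h
      simpa [mul_assoc] using this
    have hne : N ≠ R := fun h => by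
      rw [h, D.card] at hcard
      exact hK1 (card_eq_one.1 (by omega))
    rcases D.normal_card N hle (map_subtype_le _) hMN hne with h | h <;> omega
  haveI : Nontrivial (M ⧸ R') := Finite.one_lt_card_iff_nontrivial.1 (by rw [hQ]; norm_num)
  refine ⟨fun K hK => or_iff_not_imp_left.2 fun hK1 => ?_⟩
  rcases key K hK hK1 with h | h
  · exfalso
    haveI := hK
    haveI : Fact (Nat.Prime 5) := ⟨by norm_num⟩
    let P : Sylow 5 K := default
    have hP : Nat.card (P : Subgroup K) = 5 := by
      rw [P.card_eq_multiplicity, h, show (15 : ℕ) = 5 * 3 by norm_num,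
        Nat.factorization_mul (by norm_num) (by norm_num)]
      simp [Nat.factorization_eq_zero_of_not_dvd (show ¬ 5 ∣ 3 by norm_num),
        (show Nat.Prime 5 by norm_num).factorization_self]
    haveI : Subsingleton (Sylow 5 K) := by
      have h1 := card_sylow_modEq_one 5 K
      have h2 := P.card_dvd_index
      have h3 := (P : Subgroup K).card_mul_index
      rw [hP, h] at h3
      rw [show (P : Subgroup K).index = 3 by omega] at h2
      have h4 := Nat.le_of_dvd (by norm_num) h2
      rw [Nat.ModEq] at h1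
      have h5 : Nat.card (Sylow 5 K) = 1 := by omega
      exact (Nat.card_eq_one_iff_unique.1 h5).1
    haveI := P.characteristic_of_normal P.normal_of_subsingleton
    have hc : Nat.card ((P : Subgroup K).map K.subtype) = 5 := by
      rw [card_map_of_injective K.subtype_injective, hP]
    rcases key _ (inferInstance : ((P : Subgroup K).map K.subtype).Normal) (fun e => by
      rw [e, card_bot] at hc; norm_num at hc) with h' | h' <;> rw [hc] at h' <;> omega
  · exact eq_top_of_card_eq K (by rw [h, hQ])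

/-- An element of order three of the normalizer with a three-cycle as image has no fixed point. -/
theorem Pre.no_fixed (D : Pre z R)
    (hfour : ∀ t ∈ centralizer ({z} : Set G), orderOf t = 3 →
      Nat.card ↥(R ⊓ centralizer ({t} : Set G)) = 4)
    (h180 : ∀ t : G, orderOf t = 3 → Nat.card (centralizer ({t} : Set G)) = 180)
    (π : normalizer (R : Set G) →* alternatingGroup (Fin 7)) (hs : Function.Surjective π)
    (hk : π.ker = R.subgroupOf (normalizer (R : Set G))) {t : normalizer (R : Set G)}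
    (ht : orderOf (t : G) = 3) (hc : Equiv.Perm.IsThreeCycle ((π t : Equiv.Perm (Fin 7))))
    {a : G} (ha : a ∈ R) (hat : Commute (t : G) a) : a = 1 := by
  classical
  by_contra ha1
  -- four fixed points
  have hcardF : Nat.card ↥(R ⊓ centralizer ({(t : G)} : Set G)) = 4 := by
    obtain ⟨m, hm, hma⟩ := D.trans a ha ha1
    subst hma
    set t' := m⁻¹ * t * m with ht'
    have ht'C : t' ∈ centralizer ({z} : Set G) :=
      mem_cent_conj.1 (mem_centralizer_singleton_iff.2 hat.eq)
    have ht'o : orderOf t' = 3 := by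
      rw [ht', show m⁻¹ * (t : G) * m = MulAut.conj m⁻¹ t by simp, MulEquiv.orderOf_eq, ht]
    rw [← hfour t' ht'C ht'o]
    have hmap : (R ⊓ centralizer ({(t : G)} : Set G)) =
        (R ⊓ centralizer ({t'} : Set G)).map (MulAut.conj m).toMonoidHom := by
      ext r
      rw [mem_map_equiv, MulAut.conj_symm_apply, mem_inf, mem_inf]
      have h1 : r ∈ R ↔ m⁻¹ * r * m ∈ R := by
        have := mem_normalizer_iff.1 (inv_mem hm) r
        rwa [inv_inv] at this
      rw [h1, mem_centralizer_singleton_iff, mem_centralizer_singleton_iff, ht']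
      refine and_congr_right fun _ => ⟨fun h => ?_, fun h => ?_⟩
      · calc m⁻¹ * r * m * (m⁻¹ * t * m) = m⁻¹ * (r * t) * m := by group
          _ = m⁻¹ * (t * r) * m := by rw [h]
          _ = _ := by group
      · calc r * (t : G) = m * (m⁻¹ * r * m * (m⁻¹ * t * m)) * m⁻¹ := by group
          _ = m * (m⁻¹ * t * m * (m⁻¹ * r * m)) * m⁻¹ := by rw [h]
          _ = _ := by group
    rw [hmap, card_map_of_injective (MulAut.conj m).injective]
  -- an involution commuting with the three-cycle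
  obtain ⟨g₀, hg₀⟩ := isConj_iff.1 ((Equiv.Perm.isConj_iff_cycleType_eq).2
    ((Equiv.Perm.isThreeCycle_swap_mul_swap_same (α := Fin 7) (a := 0) (b := 1) (c := 2)
      (by decide) (by decide) (by decide)).cycleType.trans hc.cycleType.symm))
  let ι₀ : Equiv.Perm (Fin 7) := Equiv.swap 3 4 * Equiv.swap 5 6
  let ι : alternatingGroup (Fin 7) := ⟨g₀ * ι₀ * g₀⁻¹, by
    rw [Equiv.Perm.mem_alternatingGroup, map_mul, map_mul, map_inv, mul_comm (Equiv.Perm.sign g₀),
      mul_inv_cancel_right]
    decide⟩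
  have hιc : ι * π t = π t * ι := by
    refine Subtype.ext ?_
    show g₀ * ι₀ * g₀⁻¹ * (π t : Equiv.Perm (Fin 7)) = (π t : Equiv.Perm (Fin 7)) * (g₀ * ι₀ * g₀⁻¹)
    rw [← hg₀]
    set σ₀ := Equiv.swap (0 : Fin 7) 1 * Equiv.swap 0 2
    have e : ι₀ * σ₀ = σ₀ * ι₀ := by decide
    calc g₀ * ι₀ * g₀⁻¹ * (g₀ * σ₀ * g₀⁻¹) = g₀ * (ι₀ * σ₀) * g₀⁻¹ := by group
      _ = g₀ * (σ₀ * ι₀) * g₀⁻¹ := by rw [e]
      _ = _ := by group
  have hι2 : orderOf ι = 2 := by
    have : Fact (Nat.Prime 2) := ⟨Nat.prime_two⟩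
    refine orderOf_eq_prime (Subtype.ext ?_) (fun h => ?_)
    · show (g₀ * ι₀ * g₀⁻¹) ^ 2 = 1
      rw [conj_pow, show ι₀ ^ 2 = 1 by decide, mul_one, mul_inv_cancel]
    · have h' : g₀ * ι₀ * g₀⁻¹ = 1 := congrArg Subtype.val h
      exact absurd (conj_eq_one_iff.1 h') (by decide)
  -- a commuting lift
  obtain ⟨g, hg⟩ := hs ι
  have hker : ∀ k : normalizer (R : Set G), π k = 1 ↔ (k : G) ∈ R := fun k => by
    rw [← MonoidHom.mem_ker, hk, mem_subgroupOf]
  set r' := (g : G) * t * (g : G)⁻¹ * (t : G)⁻¹ with hr'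
  have hr'R : r' ∈ R := by
    refine (hker (g * t * g⁻¹ * t⁻¹)).1 ?_
    rw [map_mul, map_mul, map_mul, map_inv, map_inv, hg, hιc]
    group
  set r := (t : G) * r' * (t : G)⁻¹ with hr
  have hrR : r ∈ R := (mem_normalizer_iff.1 t.2 r').1 hr'R
  have hri : r⁻¹ = r := inv_eq_of_mul_eq_one_right (D.elem r hrR)
  have hcomm : Commute (r⁻¹ * g) (t : G) := by
    have h3 : (r' * (t : G)) * (r' * t) * (r' * t) = 1 := by
      rw [hr', inv_mul_cancel_right, ← pow_three']
      rw [conj_pow, show (t : G) ^ 3 = 1 by rw [← ht, pow_orderOf_eq_one], mul_one, mul_inv_cancel]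
    have ht3 : (t : G) * t * t = 1 := by rw [← pow_three', ← ht, pow_orderOf_eq_one]
    set q := (t : G) * r * (t : G)⁻¹ with hq
    have h1 : r' * r * q = 1 := by
      calc r' * r * q = (r' * (t : G)) * (r' * t) * (r' * t) * ((t : G) * t * t)⁻¹ := by
            rw [hq, hr]; group
        _ = 1 := by rw [h3, ht3]; group
    have h2 : r * q = r' := by
      have h4 : r * q = r'⁻¹ := eq_inv_of_mul_eq_one_right (by rw [← mul_assoc]; exact h1)
      rw [h4]
      exact inv_eq_of_mul_eq_one_right (D.elem r' hr'R)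
    have e : r * (t : G) * r⁻¹ = (g : G) * t * (g : G)⁻¹ := by
      calc r * (t : G) * r⁻¹ = r * ((t : G) * r * (t : G)⁻¹) * t := by rw [hri]; group
        _ = r' * t := by rw [← hq, h2]
        _ = _ := by rw [hr']; group
    calc r⁻¹ * (g : G) * t = r⁻¹ * ((g : G) * t * (g : G)⁻¹) * g := by group
      _ = r⁻¹ * (r * t * r⁻¹) * g := by rw [e]
      _ = (t : G) * (r⁻¹ * g) := by group
  -- eight divides the order of the centralizer
  set K := centralizer ({t} : Set (normalizer (R : Set G))) with hKdef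
  let g' : normalizer (R : Set G) := ⟨r, le_normalizer hrR⟩⁻¹ * g
  have hg'K : g' ∈ K := mem_centralizer_singleton_iff.2 (Subtype.ext hcomm.eq)
  have hπg' : π g' = ι := by
    rw [map_mul, map_inv, (hker ⟨r, le_normalizer hrR⟩).2 hrR, inv_one, one_mul, hg]
  have h2 : 2 ∣ Nat.card (π.domRestrict K).range := by
    rw [← hι2, ← hπg']
    exact Subgroup.orderOf_dvd_natCard _ ⟨⟨g', hg'K⟩, rfl⟩
  have hkc : Nat.card (π.domRestrict K).ker = 4 := by
    rw [← hcardF]
    refine Nat.card_congr
      { toFun := fun k => ⟨((k.1 : normalizer (R : Set G)) : G), (hker _).1 k.2,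
          mem_centralizer_singleton_iff.2
          (congrArg Subtype.val (mem_centralizer_singleton_iff.1 k.1.2))⟩
        invFun := fun k => ⟨⟨⟨(k : G), le_normalizer k.2.1⟩, mem_centralizer_singleton_iff.2
          (Subtype.ext (mem_centralizer_singleton_iff.1 k.2.2))⟩, (hker _).2 k.2.1⟩
        left_inv := fun k => rfl
        right_inv := fun k => rfl }
  have h8 : 8 ∣ Nat.card K := by
    have h := (π.domRestrict K).ker.card_mul_index
    rw [hkc, Subgroup.index_ker] at h
    obtain ⟨c, hc'⟩ := h2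
    rw [hc'] at h
    exact ⟨c, by omega⟩
  have hdvd : Nat.card K ∣ Nat.card (centralizer ({(t : G)} : Set G)) := by
    rw [← card_map_of_injective (K := K) (normalizer (R : Set G)).subtype_injective]
    refine card_dvd_of_le ?_
    rintro _ ⟨k, hk', rfl⟩
    exact mem_centralizer_singleton_iff.2 (congrArg Subtype.val (mem_centralizer_singleton_iff.1 hk'))
  have := h8.trans hdvd
  rw [h180 _ ht] at this
  norm_num at this

end CfsgLib.M23Nse.HeptadP

namespace CfsgLib.M23Nse

open Subgroup HeptadP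

universe u

/-- Piece B: the subgroup of order sixteen. -/
theorem heptad : StmtHeptad.{u} := by
  intro G _ _ F
  classical
  haveI : Fact (Nat.Prime 2) := ⟨Nat.prime_two⟩
  haveI : Fact (Nat.Prime 3) := ⟨by norm_num⟩
  haveI : Fact (Nat.Prime 7) := ⟨by norm_num⟩
  obtain ⟨z, hz⟩ := exists_prime_orderOf_dvd_card' (G := G) 2 (by rw [F.card]; norm_num)
  set C := centralizer ({z} : Set G) with hC
  have hzC : z ∈ C := mem_centralizer_singleton_iff.2 rfl
  have hcomm : ∀ c ∈ C, Commute c z := fun c hc => mem_centralizer_singleton_iff.1 hc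
  have hu14 : ∀ u : G, orderOf u = 7 → Commute u z →
      centralizer ({u} : Set G) ≤ C ∧ normalizer (zpowers u : Set G) ≤ C := by
    intro u hu huz
    refine ⟨fun g hg => mem_centralizer_singleton_iff.2 ?_, fun n hn => mem_centralizer_singleton_iff.2 ?_⟩
    · have hgu : Commute g u := mem_centralizer_singleton_iff.1 hg
      refine mul_inv_eq_iff_eq_mul.1 (invol_unique hu hz huz (F.cent7 u hu) ?_ ?_)
      · rw [show g * z * g⁻¹ = MulAut.conj g z from rfl, MulEquiv.orderOf_eq, hz]
      · exact ((hgu.mul_left huz.symm).mul_left hgu.inv_left)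
    · refine mul_inv_eq_iff_eq_mul.1 (invol_unique hu hz huz (F.cent7 u hu) ?_ ?_)
      · rw [show n * z * n⁻¹ = MulAut.conj n z from rfl, MulEquiv.orderOf_eq, hz]
      · obtain ⟨i, hi⟩ := mem_zpowers_iff.1 ((mem_normalizer_iff.1 (inv_mem hn) u).1 (mem_zpowers u))
        rw [inv_inv] at hi
        have h : Commute z (n⁻¹ * u * n) := hi ▸ huz.symm.zpow_right i
        calc n * z * n⁻¹ * u = n * (z * (n⁻¹ * u * n)) * n⁻¹ := by group
          _ = n * (n⁻¹ * u * n * z) * n⁻¹ := by rw [h.eq]
          _ = u * (n * z * n⁻¹) := by group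
  have hcent3C : ∀ x : C, orderOf x = 3 → Nat.card (centralizer ({x} : Set C)) = 12 := by
    intro x hx
    have hx' : orderOf (x : G) = 3 := by rw [Subgroup.orderOf_coe, hx]
    have hxz : Commute (x : G) z := hcomm x x.2
    have hK : Nat.card (centralizer ({x} : Set C)) =
        Nat.card ↥(centralizer ({(x : G)} : Set G) ⊓ C) :=
      Nat.card_congr
        { toFun := fun c => ⟨(c.1 : G), mem_centralizer_singleton_iff.2
            (congrArg Subtype.val (mem_centralizer_singleton_iff.1 c.2)), c.1.2⟩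
          invFun := fun c => ⟨⟨c.1, c.2.2⟩, mem_centralizer_singleton_iff.2
            (Subtype.ext (mem_centralizer_singleton_iff.1 c.2.1))⟩
          left_inv := fun _ => rfl
          right_inv := fun _ => rfl }
    have h1 := card_dvd_of_le (inf_le_left :
      centralizer ({(x : G)} : Set G) ⊓ C ≤ centralizer ({(x : G)} : Set G))
    have h2 := card_dvd_of_le (inf_le_right : centralizer ({(x : G)} : Set G) ⊓ C ≤ C)
    rw [F.cent3 _ hx'] at h1
    rw [show Nat.card C = 2688 from F.cent2 z hz] at h2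
    have h3 := card_orbit (centralizer ({(x : G)} : Set G)) z
    rw [← hC, F.cent3 _ hx'] at h3
    have h4 : Nat.card {v : G // ∃ k ∈ centralizer ({(x : G)} : Set G), k * z * k⁻¹ = v} ≤ 15 := by
      rw [← F.invol3 _ hx']
      refine Nat.card_le_card_of_injective (fun v => ⟨v.1, ?_⟩) (fun a b h => Subtype.ext
        (congrArg Subtype.val h :))
      obtain ⟨k, hk, hv⟩ := v.2
      rw [← hv]
      refine ⟨?_, by rw [show k * z * k⁻¹ = MulAut.conj k z from rfl, MulEquiv.orderOf_eq, hz]⟩
      have hkx : Commute (x : G) k := (mem_centralizer_singleton_iff.1 hk).symm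
      exact (hkx.mul_right hxz).mul_right hkx.inv_right
    rw [hK]
    have h5 := Nat.dvd_gcd h1 h2
    rw [show Nat.gcd 180 2688 = 12 by norm_num] at h5
    have h6 := Nat.le_of_dvd (by norm_num) h5
    have h7 := Nat.mul_le_mul_right (Nat.card ↥(centralizer ({(x : G)} : Set G) ⊓ C)) h4
    omega
  have core : Core C (⟨z, hzC⟩ : C) := by
    refine ⟨by rw [hC]; exact F.cent2 z hz, by rw [Subgroup.orderOf_mk, hz],
      fun c => Subtype.ext (hcomm c c.2).eq, fun u hu => ?_, fun u hu => ?_, hcent3C⟩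
    · have hu' : orderOf (u : G) = 7 := by rw [Subgroup.orderOf_coe, hu]
      have hle := (hu14 u hu' (hcomm u u.2)).1
      rw [← F.cent7 _ hu']
      exact Nat.card_congr
        { toFun := fun c => ⟨(c.1 : G), mem_centralizer_singleton_iff.2
            (congrArg Subtype.val (mem_centralizer_singleton_iff.1 c.2))⟩
          invFun := fun c => ⟨⟨c.1, hle c.2⟩, mem_centralizer_singleton_iff.2
            (Subtype.ext (mem_centralizer_singleton_iff.1 c.2))⟩
          left_inv := fun _ => rfl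
          right_inv := fun _ => rfl }
    · have hu' : orderOf (u : G) = 7 := by rw [Subgroup.orderOf_coe, hu]
      have hle := (hu14 u hu' (hcomm u u.2)).2
      let P : Sylow 7 G := Sylow.ofCard (zpowers (u : G)) (by
        rw [Nat.card_zpowers, hu', F.card, show (10200960 : ℕ) = 7 * 1457280 by norm_num,
          Nat.factorization_mul (by norm_num) (by norm_num)]
        simp [Nat.factorization_eq_zero_of_not_dvd (show ¬ 7 ∣ 1457280 by norm_num),
          (show Nat.Prime 7 by norm_num).factorization_self])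
      rw [← F.norm7 P]
      have hiff : ∀ c : C, c ∈ normalizer (zpowers u : Set C) ↔
          (c : G) ∈ normalizer (zpowers (u : G) : Set G) := by
        have hmem : ∀ a : C, a ∈ zpowers u ↔ (a : G) ∈ zpowers (u : G) := fun a => by
          rw [mem_zpowers_iff, mem_zpowers_iff]
          simp [Subtype.ext_iff]
        intro c
        rw [mem_normalizer_iff, mem_normalizer_iff]
        constructor
        · intro h a
          constructor
          · intro ha
            have haC : a ∈ C := zpowers_le.2 u.2 ha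
            exact (hmem _).1 ((h ⟨a, haC⟩).1 ((hmem _).2 ha))
          · intro ha
            have haC : (c : G) * a * (c : G)⁻¹ ∈ C := zpowers_le.2 u.2 ha
            have : a ∈ C := by
              have h2 := C.mul_mem (C.mul_mem (C.inv_mem c.2) haC) c.2
              rwa [show (c : G)⁻¹ * ((c : G) * a * (c : G)⁻¹) * c = a by group] at h2
            exact (hmem _).1 ((h ⟨a, this⟩).2 ((hmem _).2 ha))
        · intro h a
          rw [hmem, hmem]
          exact h a
      exact Nat.card_congr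
        { toFun := fun c => ⟨(c.1 : G), (hiff c.1).1 c.2⟩
          invFun := fun c => ⟨⟨c.1, hle c.2⟩, (hiff _).2 c.2⟩
          left_inv := fun _ => rfl
          right_inv := fun _ => rfl }
  obtain ⟨R', hR'n, hzR', hR'card, hR'elem, hR'self, hR'quot, hR'four, hR'orb⟩ := exists_R core
  set R := R'.map C.subtype with hRdef
  have hRC : R ≤ C := map_subtype_le R'
  have hzR : z ∈ R := ⟨_, hzR', rfl⟩
  have hRcard : Nat.card R = 16 := by rw [hRdef, card_map_of_injective C.subtype_injective, hR'card]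
  have helem : ∀ a ∈ R, a * a = 1 := by
    rintro _ ⟨a, ha, rfl⟩
    exact congrArg Subtype.val (hR'elem a ha)
  have hRab : ∀ a ∈ R, ∀ b ∈ R, Commute a b := fun a ha b hb => by
    calc a * b = (a * b)⁻¹ := (inv_eq_of_mul_eq_one_right (helem _ (mul_mem ha hb))).symm
      _ = b⁻¹ * a⁻¹ := by group
      _ = b * a := by
        rw [inv_eq_of_mul_eq_one_right (helem a ha), inv_eq_of_mul_eq_one_right (helem b hb)]
  have hself : centralizer (R : Set G) = R := by
    refine le_antisymm (fun g hg => ?_) fun a ha => mem_centralizer_iff.2 fun b hb => hRab b hb a ha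
    have hgC : g ∈ C := mem_centralizer_singleton_iff.2 (mem_centralizer_iff.1 hg z hzR).symm
    have h : (⟨g, hgC⟩ : C) ∈ centralizer (R' : Set C) := mem_centralizer_iff.2 fun b hb =>
      Subtype.ext (mem_centralizer_iff.1 hg _ ⟨b, hb, rfl⟩)
    rw [hR'self] at h
    exact ⟨_, h, rfl⟩
  have hCN : C ≤ normalizer (R : Set G) := by
    intro c hc
    refine mem_normalizer_iff.2 fun a => ⟨?_, fun h => ?_⟩
    · rintro ⟨b, hb, rfl⟩
      exact ⟨⟨c, hc⟩ * b * ⟨c, hc⟩⁻¹, hR'n.conj_mem b hb _, rfl⟩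
    · obtain ⟨b, hb, e⟩ := h
      refine ⟨⟨c, hc⟩⁻¹ * b * ⟨c, hc⟩⁻¹⁻¹, hR'n.conj_mem b hb _, ?_⟩
      show c⁻¹ * (b : G) * c⁻¹⁻¹ = a
      rw [show (b : G) = c * a * c⁻¹ from e]
      group
  have hfour : ∀ t ∈ C, orderOf t = 3 →
      Nat.card ↥(R ⊓ centralizer ({t} : Set G)) = 4 := by
    intro t ht ho
    rw [← hR'four ⟨t, ht⟩ (by rw [Subgroup.orderOf_mk, ho])]
    exact Nat.card_congr
      { toFun := fun c => ⟨⟨c.1, hRC c.2.1⟩,
          (mem_map_iff_mem (K := R') C.subtype_injective (x := ⟨c.1, hRC c.2.1⟩)).1 c.2.1,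
          mem_centralizer_singleton_iff.2 (Subtype.ext (mem_centralizer_singleton_iff.1 c.2.2))⟩
        invFun := fun c => ⟨(c.1 : G), ⟨c.1, c.2.1, rfl⟩, mem_centralizer_singleton_iff.2
          (congrArg Subtype.val (mem_centralizer_singleton_iff.1 c.2.2))⟩
        left_inv := fun _ => rfl
        right_inv := fun _ => rfl }
  have horb : ∀ a ∈ R, a ≠ 1 → a ≠ z → ∀ b ∈ R, b ≠ 1 → b ≠ z →
      ∃ g ∈ C, g * a * g⁻¹ = b ∨ g * (a * z) * g⁻¹ = b := by
    rintro _ ⟨a, ha, rfl⟩ h1 h2 _ ⟨b, hb, rfl⟩ h3 h4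
    obtain ⟨g, h⟩ := hR'orb a ha (fun e => h1 (e ▸ rfl)) (fun e => h2 (e ▸ rfl)) b hb
      (fun e => h3 (e ▸ rfl)) (fun e => h4 (e ▸ rfl))
    exact ⟨g, g.2, h.imp (congrArg Subtype.val) (congrArg Subtype.val)⟩
  -- an element moving `z`
  obtain ⟨x₀, hx₀⟩ := exists_prime_orderOf_dvd_card' (G := C) 3 (by rw [hC, F.cent2 z hz]; norm_num)
  set x : G := (x₀ : G) with hxdef
  have hx : orderOf x = 3 := by rw [hxdef, Subgroup.orderOf_coe, hx₀]
  set V := R ⊓ centralizer ({x} : Set G) with hVdef
  have hV4 : Nat.card V = 4 := hfour x x₀.2 hx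
  obtain ⟨y, hy, hxy, hyV, hyfix⟩ := F.cycle3 x hx V hV4 fun v hv =>
    (mem_centralizer_singleton_iff.1 hv.2).symm
  have hzV : z ∈ V := ⟨hzR, mem_centralizer_singleton_iff.2 (hcomm x x₀.2).symm.eq⟩
  have two : ∀ W : Subgroup G, IsPGroup 2 W → Nat.card W ≤ 128 := by
    intro W hW
    obtain ⟨k, hk⟩ := IsPGroup.iff_card.1 hW
    rw [hk]
    by_contra hlt
    push Not at hlt
    have h8 : 8 ≤ k := by
      by_contra h8
      push Not at h8
      have := Nat.pow_le_pow_right (by norm_num : 0 < 2) (show k ≤ 7 by omega)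
      omega
    have h := (pow_dvd_pow 2 h8).trans (hk ▸ card_subgroup_dvd_card W)
    rw [F.card] at h
    norm_num at h
  have hyR : y ∈ normalizer (R : Set G) := swap (R := R) (x := x) (y := y)
    ⟨hRcard, helem, hself, fun k hk => hCN (mem_centralizer_singleton_iff.2
        (mem_centralizer_iff.1 hk z hzV).symm), two, hx, hCN x₀.2, hV4, hy, hxy, hyV, hyfix⟩
  have hz1 : z ≠ 1 := fun h => by rw [h, orderOf_one] at hz; norm_num at hz
  set z₁ := y * z * y⁻¹ with hz₁
  set z₂ := y * z₁ * y⁻¹ with hz₂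
  have hz₁V : z₁ ∈ V := hyV z hzV
  have hz₂V : z₂ ∈ V := hyV z₁ hz₁V
  have hz₁1 : z₁ ≠ 1 := fun h => hz1 (conj_eq_one_iff.1 h)
  have hz₁z : z₁ ≠ z := fun h => hz1 (hyfix z hzV h)
  have hz₂1 : z₂ ≠ 1 := fun h => hz₁1 (conj_eq_one_iff.1 h)
  have hy3 : y * y * y = 1 := by rw [← pow_three', ← hy, pow_orderOf_eq_one]
  have hz₂z : z₂ ≠ z := by
    intro h
    refine hz₁z ?_
    calc z₁ = y * z₂ * y⁻¹ := by rw [h]
      _ = y * y * y * z * (y * y * y)⁻¹ := by rw [hz₂, hz₁]; group
      _ = z := by rw [hy3]; group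
  have hz₂eq : z₂ = z₁ * z := by
    by_contra hne
    have hzz := helem z hzR
    have h5 : ({1, z, z₁, z₁ * z, z₂} : Finset G).card = 5 := by
      have a1 : z₁ * z ≠ 1 := fun h => hz₁z (by
        rw [← mul_one z₁, ← hzz, ← mul_assoc, h, one_mul])
      have a2 : z₁ * z ≠ z := fun h => hz₁1 (mul_eq_right.1 h)
      have a3 : z₁ * z ≠ z₁ := fun h => hz1 (mul_eq_left.1 h)
      have a4 : z₁ ≠ z₂ := fun h => hz₁1 (hyfix z₁ hz₁V h.symm)
      rw [Finset.card_insert_of_notMem (by simp [hz1.symm, hz₁1.symm, a1.symm, hz₂1.symm]),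
        Finset.card_insert_of_notMem (by simp [hz₁z.symm, a2.symm, hz₂z.symm]),
        Finset.card_insert_of_notMem (by simp [a3.symm, a4]),
        Finset.card_insert_of_notMem (by simp [Ne.symm hne]), Finset.card_singleton]
    have hsub : (({1, z, z₁, z₁ * z, z₂} : Finset G) : Set G) ⊆ (V : Set G) := by
      intro v hv
      simp only [Finset.coe_insert, Finset.coe_singleton, Set.mem_insert_iff,
        Set.mem_singleton_iff] at hv
      rcases hv with rfl | rfl | rfl | rfl | rfl
      exacts [one_mem _, hzV, hz₁V, mul_mem hz₁V hzV, hz₂V]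
    have := Set.ncard_le_ncard hsub (Set.toFinite _)
    rw [Set.ncard_coe_finset, h5, ← Nat.card_coe_set_eq] at this
    have h4 : Nat.card ↥((V : Set G)) = 4 := hV4
    omega
  have htrans : ∀ b ∈ R, b ≠ 1 → ∃ m ∈ normalizer (R : Set G), m * z * m⁻¹ = b := by
    intro b hb hb1
    by_cases hbz : b = z
    · exact ⟨1, one_mem _, by rw [hbz]; group⟩
    obtain ⟨g, hg, h | h⟩ := horb z₁ hz₁V.1 hz₁1 hz₁z b hb hb1 hbz
    · exact ⟨g * y, mul_mem (hCN hg) hyR, by rw [← h, hz₁]; group⟩
    · exact ⟨g * y * y, mul_mem (mul_mem (hCN hg) hyR) hyR, by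
        rw [← h, ← hz₂eq, hz₂, hz₁]; group⟩
  have hquot : ∀ K : Subgroup G, R ≤ K → K ≤ C → C ≤ normalizer (K : Set G) → K = R ∨ K = C := by
    intro K h1 h2 h3
    haveI : (K.subgroupOf C).Normal := (normal_subgroupOf_iff_le_normalizer h2).2 h3
    have hle : R' ≤ K.subgroupOf C := fun r hr => mem_subgroupOf.2 (h1 ⟨r, hr, rfl⟩)
    rcases hR'quot _ inferInstance hle with h | h
    · left
      rw [← map_subgroupOf_eq_of_le h2, h]
    · exact Or.inr (le_antisymm h2 (subgroupOf_eq_top.1 h))
  have D : Pre z R := ⟨hz, F.cent2 z hz, hzR, hRcard, helem, hself, hCN, hquot, horb, htrans⟩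
  obtain ⟨hsimple, hQcard⟩ := D.simple
  haveI := hsimple
  obtain ⟨e⟩ := CfsgLib.Small.O2520.equiv_alternating_seven hQcard
  set π := e.toMonoidHom.comp (QuotientGroup.mk' (R.subgroupOf (normalizer (R : Set G)))) with hπ
  have hπs : Function.Surjective π := e.surjective.comp (QuotientGroup.mk'_surjective _)
  have hπk : π.ker = R.subgroupOf (normalizer (R : Set G)) := by
    rw [hπ, MonoidHom.ker_comp_of_injective _ _ e.injective, QuotientGroup.ker_mk']
  have hcent_le : ∀ a ∈ R, a ≠ 1 → centralizer ({a} : Set G) ≤ normalizer (R : Set G) := by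
    intro a ha ha1
    obtain ⟨m, hm, rfl⟩ := htrans a ha ha1
    intro g hg
    have h := mul_mem (mul_mem hm (hCN (mem_cent_conj.1 hg))) (inv_mem hm)
    rwa [show m * (m⁻¹ * g * m) * m⁻¹ = g by group] at h
  have hmeet : ∀ g : G, g ∉ normalizer (R : Set G) → ∀ a ∈ R, g * a * g⁻¹ ∈ R → a = 1 := by
    intro g hg a ha hga
    by_contra ha1
    obtain ⟨m, hm, hma⟩ := htrans a ha ha1
    obtain ⟨m', hm', hmb⟩ := htrans _ hga fun h => ha1 (conj_eq_one_iff.1 h)
    have hC' : m'⁻¹ * g * m ∈ C := by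
      rw [hC, mem_centralizer_singleton_iff]
      calc m'⁻¹ * g * m * z = m'⁻¹ * (g * (m * z * m⁻¹) * g⁻¹) * g * m := by group
        _ = m'⁻¹ * (m' * z * m'⁻¹) * g * m := by rw [hma, hmb]
        _ = z * (m'⁻¹ * g * m) := by group
    have h := mul_mem (mul_mem hm' (hCN hC')) (inv_mem hm)
    rw [show m' * (m'⁻¹ * g * m) * m⁻¹ = g by group] at h
    exact hg h
  refine ⟨{
    R := R, card_R := hRcard, elem := helem, self_cent := hself, card_N := D.card_normalizer
    trans := fun a ha ha1 b hb hb1 => ?_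
    cent_le := hcent_le, meet := hmeet, not_le := fun g hg hle => ?_
    π := π, π_surj := hπs, π_ker := hπk, fpf3 := fun w hw a ha hwa => ?_ }⟩
  · obtain ⟨m, hm, hma⟩ := htrans a ha ha1
    obtain ⟨m', hm', hmb⟩ := htrans b hb hb1
    refine ⟨m' * m⁻¹, mul_mem hm' (inv_mem hm), ?_⟩
    rw [← hma, ← hmb]
    group
  · set Rg := R.map (MulAut.conj g).toMonoidHom with hRg
    have hRgc : Nat.card Rg = 16 := by
      rw [hRg, card_map_of_injective (MulAut.conj g).injective, hRcard]
    have hinf : R ⊓ Rg = ⊥ := by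
      refine (eq_bot_iff).2 ?_
      rintro a ⟨ha, b, hb, hab⟩
      have hab' : g * b * g⁻¹ = a := hab
      have hb1 := hmeet g hg b hb (hab'.symm ▸ ha)
      rw [mem_bot, ← hab', hb1]
      group
    have hp : IsPGroup 2 ↥(R ⊔ Rg) :=
      (IsPGroup.of_card (n := 4) (by rw [hRcard]; norm_num)).to_sup_of_normal_right'
        (IsPGroup.of_card (n := 4) (by rw [hRgc]; norm_num)) hle
    have h128 := two _ hp
    haveI := Subgroup.normal_subgroupOf_of_le_normalizer hle
    haveI := Subgroup.normal_subgroupOf_sup_of_le_normalizer hle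
    have e1 := Nat.card_congr (QuotientGroup.quotientInfEquivProdNormalizerQuotient R Rg hle).toEquiv
    have h1 := (Rg.subgroupOf R).card_mul_index
    have h2 := (Rg.subgroupOf (R ⊔ Rg)).card_mul_index
    rw [Nat.card_congr (subgroupOfEquivOfLe (le_sup_right : Rg ≤ R ⊔ Rg)).toEquiv, hRgc] at h2
    rw [← inf_subgroupOf_left, Nat.card_congr (subgroupOfEquivOfLe (inf_le_left : R ⊓ Rg ≤ R)).toEquiv,
      inf_subgroupOf_left, hinf, card_bot, hRcard, one_mul, index_eq_card, e1, ← index_eq_card] at h1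
    rw [h1] at h2
    omega
  · have h3 : 3 ∣ orderOf (w : G) := by
      rw [← hw.orderOf, Subgroup.orderOf_coe, Subgroup.orderOf_coe]
      exact orderOf_map_dvd π w
    have hmem := F.orders (w : G)
    obtain ⟨k, hk1, hk3⟩ : ∃ k : ℕ, k % 3 = 1 ∧ orderOf ((w : G) ^ k) = 3 := by
      simp only [List.mem_cons, List.not_mem_nil, or_false] at hmem
      rcases hmem with h | h | h | h | h | h | h | h | h | h | h | h
      all_goals first
        | (exfalso; rw [h] at h3; omega)
        | (refine ⟨1, rfl, ?_⟩; rw [orderOf_pow, h]; norm_num; done)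
        | (refine ⟨4, rfl, ?_⟩; rw [orderOf_pow, h]; norm_num; done)
        | (refine ⟨10, rfl, ?_⟩; rw [orderOf_pow, h]; norm_num; done)
    have hπk' : (π (w ^ k) : Equiv.Perm (Fin 7)) = (π w : Equiv.Perm (Fin 7)) := by
      rw [map_pow, SubmonoidClass.coe_pow, ← pow_mod_orderOf, hw.orderOf, hk1, pow_one]
    exact D.no_fixed hfour F.cent3 π hπs hπk (t := w ^ k) (by rw [SubmonoidClass.coe_pow]; exact hk3)
      (hπk' ▸ hw) ha (by rw [SubmonoidClass.coe_pow]; exact hwa.pow_left k)

end CfsgLib.M23Nse
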