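import Cfsg.Agent.Lib.M23Nse.LocalBase
import Cfsg.Agent.Lib.Coprime.Basic

/-!
# The local facts at two, three, five and seven, and simplicity
-/

set_option autoImplicit false
set_option linter.unusedSectionVars false
set_option linter.style.haveILetI false

namespace CfsgLib.M23Nse

namespace Local

open Subgroup

universe u

variable {G : Type u} [Group G] [Finite G] (hc : Counts G)

include hc

/-- The four groups centralising an element of order three are permuted. -/
theorem cycle_three {x : G} (hx : orderOf x = 3) (V : Subgroup G) (hV : Nat.card V = 4)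
    (hVx : ∀ v ∈ V, Commute x v) :
    ∃ y : G, orderOf y = 3 ∧ Commute x y ∧ (∀ v ∈ V, y * v * y⁻¹ ∈ V) ∧
      ∀ v ∈ V, y * v * y⁻¹ = v → v = 1 := by
  classical
  haveI := Fintype.ofFinite G
  haveI : Fact (Nat.Prime 2) := ⟨Nat.prime_two⟩
  haveI : Fact (Nat.Prime 3) := ⟨Nat.prime_three⟩
  set C := centralizer ({x} : Set G) with hC
  have hCc : Nat.card C = 180 := cent_three hc hx
  -- two-groups commuting with `x` have exponent two
  have hexp : ∀ Q : Subgroup G, Nat.card Q = 4 → (∀ v ∈ Q, Commute x v) →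
      ∀ v ∈ Q, v ≠ 1 → orderOf v = 2 := by
    intro Q hQ hQx v hv hv1
    obtain ⟨k, hk, he⟩ := (Nat.dvd_prime_pow Nat.prime_two).1
      (show orderOf v ∣ 2 ^ 2 by norm_num; exact hQ ▸ orderOf_dvd_natCard _ hv)
    interval_cases k
    · exact absurd (orderOf_eq_one_iff.1 he) hv1
    · rw [he, pow_one]
    · exact absurd (orderOf_mul_coprime (hQx v hv) hx he (by norm_num))
        (no_order hc (by decide) _)
  -- such a group and `x` give the centralizer in `C` of each of its involutions
  have hmeet : ∀ Q : Subgroup G, Nat.card Q = 4 → (∀ v ∈ Q, Commute x v) →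
      ∀ v ∈ Q, v ≠ 1 → Q ⊔ zpowers x = C ⊓ centralizer ({v} : Set G) := by
    intro Q hQ hQx v hv hv1
    have hv2 := hexp Q hQ hQx v hv hv1
    have hQC : Q ≤ C ⊓ centralizer ({v} : Set G) := fun w hw => by
      refine ⟨mem_centralizer_singleton_iff.2 (hQx w hw).symm.eq,
        mem_centralizer_singleton_iff.2 ?_⟩
      by_cases hw1 : w = 1
      · rw [hw1, one_mul, mul_one]
      by_cases hwv1 : w * v = 1
      · rw [eq_inv_of_mul_eq_one_left hwv1, inv_mul_cancel, mul_inv_cancel]
      have sq2 : ∀ a : G, orderOf a = 2 → a⁻¹ = a := fun a ha =>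
        inv_eq_of_mul_eq_one_right (by rw [← sq, ← ha, pow_orderOf_eq_one])
      calc w * v = (w * v)⁻¹ := (sq2 _ (hexp Q hQ hQx _ (mul_mem hw hv) hwv1)).symm
        _ = v⁻¹ * w⁻¹ := mul_inv_rev w v
        _ = v * w := by rw [sq2 v hv2, sq2 w (hexp Q hQ hQx w hw hw1)]
    have hle : Q ⊔ zpowers x ≤ C ⊓ centralizer ({v} : Set G) :=
      sup_le hQC (zpowers_le.2 ⟨mem_centralizer_singleton_iff.2 rfl,
        mem_centralizer_singleton_iff.2 (hQx v hv).eq⟩)
    refine eq_of_le_of_card_ge hle ?_
    have h12 : 12 ∣ Nat.card (Q ⊔ zpowers x : Subgroup G) :=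
      Nat.Coprime.mul_dvd_of_dvd_of_dvd (show Nat.Coprime 4 3 by norm_num)
        (hQ ▸ card_dvd_of_le le_sup_left) (card_zp hx ▸ card_dvd_of_le le_sup_right)
    have h12' : Nat.card (C ⊓ centralizer ({v} : Set G) : Subgroup G) ∣ 12 := by
      have := Nat.dvd_gcd (hCc ▸ card_dvd_of_le (inf_le_left : C ⊓ centralizer ({v} : Set G) ≤ C))
        (cent_two hc hv2 ▸ card_dvd_of_le
          (inf_le_right : C ⊓ centralizer ({v} : Set G) ≤ centralizer ({v} : Set G)))
      exact this.trans (by decide)
    exact Nat.le_of_dvd Nat.card_pos (h12'.trans h12)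
  -- distinct four groups in `C` meet trivially
  have huniq : ∀ Q : Subgroup G, Nat.card Q = 4 → (∀ v ∈ Q, Commute x v) → ∀ v ∈ Q, v ≠ 1 →
      ∀ w : G, w ∈ C ⊓ centralizer ({v} : Set G) → orderOf w ∣ 2 → w ∈ Q := by
    intro Q hQ hQx v hv hv1 w hw hw2
    rw [← hmeet Q hQ hQx v hv hv1] at hw
    have hnorm : zpowers x ≤ normalizer (Q : Set G) := zpowers_le.2 (mem_normalizer_iff.2 fun a =>
      ⟨fun ha => by rwa [(hQx a ha).eq, mul_inv_cancel_right], fun ha => by
        have e := hQx _ ha
        rwa [show x * a * x⁻¹ = a by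
          calc x * a * x⁻¹ = x⁻¹ * (x * (x * a * x⁻¹)) := by group
            _ = x⁻¹ * (x * a * x⁻¹ * x) := by rw [e.eq]
            _ = a := by group] at ha⟩)
    rw [← SetLike.mem_coe, coe_mul_of_right_le_normalizer_left Q (zpowers x) hnorm] at hw
    obtain ⟨q, hq, r, hr, rfl⟩ := Set.mem_mul.1 hw
    obtain ⟨i, rfl⟩ := mem_zpowers_iff.1 hr
    have hqr : Commute q (x ^ i) := (hQx q hq).symm.zpow_right i
    have h2 : (q * x ^ i) ^ 2 = 1 := orderOf_dvd_iff_pow_eq_one.1 hw2
    have hq2 : q ^ 2 = 1 := by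
      by_cases hq1 : q = 1
      · rw [hq1, one_pow]
      · rw [← hexp Q hQ hQx q hq hq1, pow_orderOf_eq_one]
    rw [hqr.mul_pow, hq2, one_mul] at h2
    have hx3 : (x ^ i) ^ 3 = 1 := by
      rw [← zpow_natCast, ← zpow_mul, mul_comm, zpow_mul, zpow_natCast, ← hx, pow_orderOf_eq_one,
        one_zpow]
    have : x ^ i = 1 := by rwa [pow_succ, h2, one_mul] at hx3
    rw [this, mul_one]
    exact hq
  -- the five four groups
  set W := (normalizer (V : Set G)) ⊓ C with hW
  have hVC : V ≤ C := fun v hv => mem_centralizer_singleton_iff.2 (hVx v hv).symm.eq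
  have hidx : W.relIndex C ≤ 5 := by
    let I : Type u := {v : G // Commute x v ∧ orderOf v = 2}
    let Q : C ⧸ W.subgroupOf C → Subgroup G :=
      fun q => V.map (MulAut.conj (q.out : G)).toMonoidHom
    have hQ4 : ∀ q, Nat.card (Q q) = 4 := fun q => by
      simp only [Q]
      rw [card_map_of_injective (MulAut.conj (q.out : G)).injective, hV]
    have hQx : ∀ q, ∀ v ∈ Q q, Commute x v := by
      rintro q _ ⟨v, hv, rfl⟩
      have hqx : (MulAut.conj (q.out : G)) x = x := by
        rw [MulAut.conj_apply, (comm_of_mem q.out.2).eq, mul_inv_cancel_right]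
      have := (hVx v hv).map (MulAut.conj (q.out : G)).toMonoidHom
      rwa [show (MulAut.conj (q.out : G)).toMonoidHom x = x from hqx] at this
    let S := Σ q : C ⧸ W.subgroupOf C, {v : G // v ∈ Q q ∧ v ≠ 1}
    let f : S → I := fun s => ⟨s.2.1, hQx s.1 _ s.2.2.1,
      hexp _ (hQ4 s.1) (hQx s.1) _ s.2.2.1 s.2.2.2⟩
    have hf : Function.Injective f := by
      rintro ⟨p, v, hv, hv1⟩ ⟨q, w, hw, hw1⟩ e
      obtain rfl : v = w := congrArg Subtype.val e
      have heq : Q p = Q q := by
        refine eq_of_le_of_card_ge (fun a ha => ?_) (by rw [hQ4, hQ4])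
        refine huniq _ (hQ4 q) (hQx q) v hw hv1 a ?_ ?_
        · rw [← hmeet _ (hQ4 p) (hQx p) v hv hv1]
          exact mem_sup_left ha
        · by_cases ha1 : a = 1
          · rw [ha1, orderOf_one]; norm_num
          · rw [hexp _ (hQ4 p) (hQx p) a ha ha1]
      have hpq : p = q := by
        rw [← QuotientGroup.out_eq' p, ← QuotientGroup.out_eq' q]
        refine QuotientGroup.eq.2 (show ((p.out⁻¹ * q.out : C) : G) ∈ W from ⟨?_, (p.out⁻¹ * q.out).2⟩)
        show _ ∈ normalizer (V : Set G)
        rw [mem_normalizer_iff_map_conj_eq]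
        have e2 := congrArg (Subgroup.map (MulAut.conj (p.out : G)⁻¹).toMonoidHom) heq
        simp only [Q, map_map] at e2
        rw [show (MulAut.conj (p.out : G)⁻¹).toMonoidHom.comp (MulAut.conj (p.out : G)).toMonoidHom =
          MonoidHom.id G from MonoidHom.ext fun a => by simp [mul_assoc], map_id] at e2
        refine Eq.trans ?_ e2.symm
        refine congrArg (fun g => V.map g) (MonoidHom.ext fun a => ?_)
        simp [mul_assoc]
      subst hpq
      rfl
    have h3 : ∀ q, Nat.card {v : G // v ∈ Q q ∧ v ≠ 1} = 3 := fun q => by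
      have e : Nat.card {v : G // v ∈ Q q ∧ v ≠ 1} = ((Q q : Set G) \ {1}).ncard := by
        rw [← Nat.card_coe_set_eq]
        exact Nat.card_congr (Equiv.subtypeEquivRight fun v => by simp)
      rw [e, Set.ncard_sdiff (Set.singleton_subset_iff.2 (one_mem _)), Set.ncard_singleton]
      show Nat.card (Q q) - 1 = 3
      rw [hQ4]
    have h := Nat.card_le_card_of_injective f hf
    rw [invol_three hc hx, Nat.card_sigma, Finset.sum_congr rfl fun q _ => h3 q, Finset.sum_const,
      Finset.card_univ, ← Nat.card_eq_fintype_card, smul_eq_mul] at h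
    rw [relIndex, index_eq_card]
    omega
  have hWc : 36 ≤ Nat.card W := by
    have h := (W.subgroupOf C).card_mul_index
    rw [Nat.card_congr (subgroupOfEquivOfLe (inf_le_right : W ≤ C)).toEquiv, hCc] at h
    have h' := Nat.mul_le_mul_left (Nat.card W) (show (W.subgroupOf C).index ≤ 5 from hidx)
    rw [h] at h'
    omega
  -- an element of order three moving `V`
  have h9 : 9 ∣ Nat.card W := by
    have h180 : Nat.card W ∣ 180 := hCc ▸ card_dvd_of_le inf_le_right
    have h4 : 4 ∣ Nat.card W := hV ▸ card_dvd_of_le (le_inf le_normalizer hVC)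
    have : ∀ d ∈ Nat.divisors 180, 36 ≤ d → 4 ∣ d → 9 ∣ d ∨ d = 60 := by decide +kernel
    rcases this _ (Nat.mem_divisors.2 ⟨h180, by norm_num⟩) hWc h4 with h | h
    · exact h
    exfalso
    -- order 60 would contain an element of order five centralising an involution
    haveI : Fact (Nat.Prime 5) := ⟨by norm_num⟩
    obtain ⟨u, huW, hu⟩ := exists_order 5 (H := W) (by rw [h]; norm_num)
    obtain ⟨a, haV, ha1⟩ : ∃ a ∈ V, a ≠ 1 := by
      obtain ⟨a, haV, ha⟩ := exists_order 2 (H := V) (by rw [hV]; norm_num)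
      exact ⟨a, haV, fun e => by rw [e, orderOf_one] at ha; omega⟩
    let σ : zpowers u → {v : G // v ∈ V ∧ v ≠ 1} := fun g =>
      ⟨(g : G) * a * (g : G)⁻¹, (mem_normalizer_iff.1
        (zpowers_le.2 huW.1 g.2) a).1 haV, fun e => ha1 (conj_eq_one_iff.1 e)⟩
    have hσ : Function.Injective σ := by
      intro g k e
      have e' : (g : G) * a * (g : G)⁻¹ = (k : G) * a * (k : G)⁻¹ := congrArg Subtype.val e
      have hm : (g : G)⁻¹ * k ∈ zpowers u ⊓ centralizer ({a} : Set G) := by
        have hz : (g : G)⁻¹ * k ∈ zpowers u := mul_mem (inv_mem g.2) k.2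
        refine ⟨hz, mem_centralizer_singleton_iff.2 ?_⟩
        calc (g : G)⁻¹ * k * a = (g : G)⁻¹ * ((k : G) * a * (k : G)⁻¹) * k := by group
          _ = _ := by rw [← e']; group
      have h1 : Nat.card (zpowers u ⊓ centralizer ({a} : Set G) : Subgroup G) = 1 := by
        refine Nat.eq_one_of_dvd_coprimes (show Nat.Coprime 5 2688 by norm_num)
          (card_zp hu ▸ card_dvd_of_le inf_le_left) ?_
        rw [← cent_two hc (hexp V hV hVx a haV ha1)]
        exact card_dvd_of_le inf_le_right
      rw [card_eq_one, eq_bot_iff_forall] at h1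
      exact Subtype.ext (inv_mul_eq_one.1 (h1 _ hm))
    have hle := Nat.card_le_card_of_injective σ hσ
    have h3 : Nat.card {v : G // v ∈ V ∧ v ≠ 1} ≤ 4 := by
      rw [← hV]
      exact Nat.card_le_card_of_injective (fun v => (⟨v.1, v.2.1⟩ : V))
        fun p q e => Subtype.ext (congrArg (fun t : V => (t : G)) e)
    rw [card_zp hu] at hle
    omega
  obtain ⟨T, hT⟩ := Sylow.exists_subgroup_card_pow_prime 3 (G := W) (n := 2) h9
  set T' := T.map W.subtype with hT'
  have hTc : Nat.card T' = 9 := by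
    rw [hT', card_map_of_injective W.subtype_injective, hT]; norm_num
  obtain ⟨a, haV, ha⟩ := exists_order 2 (H := V) (by rw [hV]; norm_num)
  have ha1 : a ≠ 1 := fun e => by rw [e, orderOf_one] at ha; omega
  have h12 : Nat.card (V ⊔ zpowers x : Subgroup G) ∣ 12 := by
    rw [hmeet V hV hVx a haV ha1]
    have := Nat.dvd_gcd (hCc ▸ card_dvd_of_le (inf_le_left : C ⊓ centralizer ({a} : Set G) ≤ C))
      (cent_two hc ha ▸ card_dvd_of_le
        (inf_le_right : C ⊓ centralizer ({a} : Set G) ≤ centralizer ({a} : Set G)))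
    exact this.trans (by decide)
  obtain ⟨y, hyT, hy⟩ : ∃ y ∈ T', y ∉ V ⊔ zpowers x := by
    by_contra hno
    push Not at hno
    have := (card_dvd_of_le (show T' ≤ V ⊔ zpowers x from hno)).trans h12
    rw [hTc] at this
    norm_num at this
  have hyW : y ∈ W := map_subtype_le T hyT
  have hfix : ∀ v ∈ V, y * v * y⁻¹ = v → v = 1 := by
    intro v hv e
    by_contra hv1
    refine hy ?_
    rw [hmeet V hV hVx v hv hv1]
    exact ⟨hyW.2, mem_centralizer_singleton_iff.2 (mul_inv_eq_iff_eq_mul.1 e)⟩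
  refine ⟨y, ?_, (comm_of_mem hyW.2).symm, fun v hv => (mem_normalizer_iff.1 hyW.1 v).1 hv, hfix⟩
  obtain ⟨k, hk, he⟩ := (Nat.dvd_prime_pow Nat.prime_three).1
    (show orderOf y ∣ 3 ^ 2 by norm_num; exact hTc ▸ orderOf_dvd_natCard _ hyT)
  interval_cases k
  · exact absurd (one_mem _) (orderOf_eq_one_iff.1 he ▸ hy)
  · rw [he, pow_one]
  · exact absurd he (no_order hc (by decide) y)

theorem frattini {N : Subgroup G} [N.Normal] {q : ℕ} [Fact q.Prime] (hq : ¬ q ^ 2 ∣ 10200960)
    (hd : q ∣ Nat.card N) : ∃ u ∈ N, orderOf u = q ∧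
      Nat.card G ∣ Nat.card (normalizer (zpowers u : Set G)) * Nat.card N := by
  obtain ⟨u, huN, hu⟩ := exists_order q hd
  let P : Sylow q G := (IsPGroup.of_card (n := 1) (by rw [card_zp hu, pow_one]) :
    IsPGroup q (zpowers u)).toSylow (by
      intro h
      refine hq ?_
      rw [← card_G hc, ← card_mul_index (zpowers u), card_zp hu, sq]
      exact Nat.mul_dvd_mul_left _ h)
  have hsup := P.normalizer_sup_eq_top' (zpowers_le.2 huN)
  refine ⟨u, huN, hu, ?_⟩
  rw [← card_top (G := G), ← hsup]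
  exact CfsgLib.Coprime.card_sup_dvd (normalizer_eq_top N ▸ le_top)

/-- A self-centralising subgroup of prime order acts freely on a normal subgroup. -/
theorem mod_one {N : Subgroup G} [N.Normal] {q : ℕ} [Fact q.Prime] {u : G} (hu : orderOf u = q)
    (hcu : Nat.card (centralizer ({u} : Set G)) = q) (hN : ¬ q ∣ Nat.card N) :
    Nat.card N % q = 1 := by
  have hNn : zpowers u ≤ normalizer (N : Set G) := normalizer_eq_top N ▸ le_top
  have hco : Nat.Coprime q (Nat.card N) := (Nat.Prime.coprime_iff_not_dvd Fact.out).2 hN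
  have hdis : zpowers u ⊓ N = ⊥ := card_eq_one.1 (Nat.eq_one_of_dvd_coprimes hco
    (card_zp hu ▸ card_dvd_of_le inf_le_left) (card_dvd_of_le inf_le_right))
  set H := zpowers u ⊔ N with hH
  have hHc : Nat.card H = q * Nat.card N := by
    have := CfsgLib.Coprime.card_sup_mul_card_inf hNn
    rw [hdis, card_bot, mul_one, card_zp hu] at this
    exact this
  let P : Sylow q H := (IsPGroup.of_card (n := 1) (by
    rw [Nat.card_congr (subgroupOfEquivOfLe (le_sup_left : zpowers u ≤ H)).toEquiv, card_zp hu,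
      pow_one]) : IsPGroup q ((zpowers u).subgroupOf H)).toSylow (by
      intro h
      have h' := card_mul_index ((zpowers u).subgroupOf H)
      rw [Nat.card_congr (subgroupOfEquivOfLe (le_sup_left : zpowers u ≤ H)).toEquiv, card_zp hu,
        hHc] at h'
      rw [Nat.eq_of_mul_eq_mul_left (Fact.out : q.Prime).pos h'] at h
      exact hN h)
  have hN' : normalizer (P : Set H) = (zpowers u).subgroupOf H := by
    refine le_antisymm ?_ le_normalizer
    intro g hg
    have hgW : (g : G) ∈ normalizer (zpowers u : Set G) := by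
      have h' : g ∈ (normalizer (zpowers u : Set G)).subgroupOf H := by
        rw [subgroupOf_normalizer_eq le_sup_left]; exact hg
      exact h'
    obtain ⟨a, ha, n, hn, e⟩ : ∃ a ∈ zpowers u, ∃ n ∈ N, a * n = (g : G) := by
      have hgH : (g : G) ∈ ((zpowers u ⊔ N : Subgroup G) : Set G) := g.2
      rw [coe_mul_of_left_le_normalizer_right (zpowers u) N hNn] at hgH
      exact Set.mem_mul.1 hgH
    show (g : G) ∈ zpowers u
    have hnW : n ∈ normalizer (zpowers u : Set G) := by
      rw [show n = a⁻¹ * g by rw [← e]; group]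
      exact mul_mem (inv_mem (le_normalizer ha)) hgW
    have hcz : n * u * n⁻¹ * u⁻¹ ∈ zpowers u := mul_mem ((mem_normalizer_iff.1 hnW u).1
      (mem_zpowers u)) (inv_mem (mem_zpowers u))
    have hcm : n * u * n⁻¹ * u⁻¹ ∈ zpowers u ⊓ N := ⟨hcz, by
        rw [show n * u * n⁻¹ * u⁻¹ = n * (u * n⁻¹ * u⁻¹) by group]
        exact mul_mem hn (‹N.Normal›.conj_mem _ (inv_mem hn) u)⟩
    rw [hdis, mem_bot, mul_inv_eq_one, mul_inv_eq_iff_eq_mul] at hcm
    have hn1 : n = 1 := orderOf_eq_one_iff.1 (Nat.eq_one_of_dvd_coprimes hco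
      (hcu ▸ orderOf_dvd_natCard _ (mem_centralizer_singleton_iff.2 hcm))
      (orderOf_dvd_natCard _ hn))
    rw [← e, hn1, mul_one]
    exact ha
  have hm := card_sylow_modEq_one q H
  rw [P.card_eq_index_normalizer, hN'] at hm
  have h' := card_mul_index ((zpowers u).subgroupOf H)
  rw [Nat.card_congr (subgroupOfEquivOfLe (le_sup_left : zpowers u ≤ H)).toEquiv, card_zp hu,
    hHc] at h'
  rw [Nat.eq_of_mul_eq_mul_left (Fact.out : q.Prime).pos h'] at hm
  rw [hm, Nat.one_mod_eq_one]
  exact (Fact.out : q.Prime).ne_one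

theorem norm_eleven_not {u : G} (hu : orderOf u = 11) :
    ¬ 23 ∣ Nat.card (normalizer (zpowers u : Set G)) := by
  haveI : Fact (Nat.Prime 23) := ⟨by norm_num⟩
  intro hd
  obtain ⟨g, hg, hg23⟩ := exists_order 23 hd
  -- it cannot move eleven points
  set Z := zpowers g
  let σ : Z → zpowers u := fun k =>
    ⟨(k : G) * u * (k : G)⁻¹, (mem_normalizer_iff.1 (zpowers_le.2 hg k.2) u).1 (mem_zpowers u)⟩
  have hσ : Function.Injective σ := by
    intro a b e
    have e' : (a : G) * u * (a : G)⁻¹ = (b : G) * u * (b : G)⁻¹ := congrArg Subtype.val e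
    have hm : (a : G)⁻¹ * b ∈ Z ⊓ centralizer ({u} : Set G) := by
      have hz : (a : G)⁻¹ * b ∈ Z := mul_mem (inv_mem a.2) b.2
      refine ⟨hz, mem_centralizer_singleton_iff.2 ?_⟩
      calc (a : G)⁻¹ * b * u = (a : G)⁻¹ * ((b : G) * u * (b : G)⁻¹) * b := by group
        _ = _ := by rw [← e']; group
    have h1 : Nat.card (Z ⊓ centralizer ({u} : Set G) : Subgroup G) = 1 :=
      Nat.eq_one_of_dvd_coprimes (show Nat.Coprime 23 11 by norm_num)
        (card_zp hg23 ▸ card_dvd_of_le inf_le_left) (hc.cent11 u hu ▸ card_dvd_of_le inf_le_right)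
    rw [card_eq_one, eq_bot_iff_forall] at h1
    exact Subtype.ext (inv_mul_eq_one.1 (h1 _ hm))
  have := Nat.card_le_card_of_injective σ hσ
  rw [card_zp hg23, card_zp hu] at this
  omega

theorem small_normal {N : Subgroup G} [N.Normal] (h23 : ¬ 23 ∣ Nat.card N) : N = ⊥ := by
  haveI : Fact (Nat.Prime 5) := ⟨by norm_num⟩
  haveI : Fact (Nat.Prime 7) := ⟨by norm_num⟩
  haveI : Fact (Nat.Prime 11) := ⟨by norm_num⟩
  haveI : Fact (Nat.Prime 23) := ⟨by norm_num⟩
  have key : ∀ (q : ℕ) (_ : Fact q.Prime), ¬ q ^ 2 ∣ 10200960 →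
      (∀ u : G, orderOf u = q → ¬ 23 ∣ Nat.card (normalizer (zpowers u : Set G))) →
      ¬ q ∣ Nat.card N := by
    intro q _ hq hW hd
    obtain ⟨u, -, hu, hdv⟩ := frattini hc hq hd
    have : 23 ∣ Nat.card (normalizer (zpowers u : Set G)) * Nat.card N :=
      (by rw [card_G hc]; norm_num : 23 ∣ Nat.card G).trans hdv
    rcases (Fact.out : Nat.Prime 23).dvd_mul.1 this with h | h
    · exact hW u hu h
    · exact h23 h
  have h5 := key 5 inferInstance (by norm_num) fun u hu h => by
    rw [norm_five hc hu] at h; norm_num at h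
  have h7 := key 7 inferInstance (by norm_num) fun u hu h => by
    rw [norm_seven hc hu] at h; norm_num at h
  have h11 := key 11 inferInstance (by norm_num) fun u hu => norm_eleven_not hc hu
  have hd : Nat.card N ∣ 1152 := by
    have h1 : Nat.card N ∣ 1152 * (5 * 7 * 11 * 23) := by
      rw [show 1152 * (5 * 7 * 11 * 23) = 10200960 by norm_num, ← card_G hc]
      exact card_subgroup_dvd_card N
    refine Nat.Coprime.dvd_of_dvd_mul_right ?_ h1
    exact Nat.Coprime.mul_right (Nat.Coprime.mul_right (Nat.Coprime.mul_right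
      ((Fact.out : Nat.Prime 5).coprime_iff_not_dvd.2 h5).symm
      ((Fact.out : Nat.Prime 7).coprime_iff_not_dvd.2 h7).symm)
      ((Fact.out : Nat.Prime 11).coprime_iff_not_dvd.2 h11).symm)
      ((Fact.out : Nat.Prime 23).coprime_iff_not_dvd.2 h23).symm
  obtain ⟨a, ha⟩ := exists_prime_orderOf_dvd_card' (G := G) 23 (by rw [card_G hc]; norm_num)
  obtain ⟨b, hb⟩ := exists_prime_orderOf_dvd_card' (G := G) 11 (by rw [card_G hc]; norm_num)
  have m1 := mod_one hc (N := N) ha (hc.cent23 a ha) h23
  have m2 := mod_one hc (N := N) hb (hc.cent11 b hb) h11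
  have : ∀ d ∈ Nat.divisors 1152, d % 23 = 1 → d % 11 = 1 → d = 1 := by decide +kernel
  exact card_eq_one.1 (this _ (Nat.mem_divisors.2 ⟨hd, by norm_num⟩) m1 m2)

theorem simple : IsSimpleGroup G := by
  haveI : Nontrivial G := Finite.one_lt_card_iff_nontrivial.1 (by rw [card_G hc]; norm_num)
  refine ⟨fun N hN => ?_⟩
  haveI := hN
  by_cases h23 : 23 ∣ Nat.card N
  swap
  · exact Or.inl (small_normal hc h23)
  right
  by_contra htop
  haveI : Fact (Nat.Prime 23) := ⟨by norm_num⟩
  obtain ⟨u, huN, hu, hdv⟩ := frattini hc (by norm_num) h23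
  have hW : Nat.card (normalizer (zpowers u : Set G)) = 253 := by
    let P : Sylow 23 G := (IsPGroup.of_card (n := 1) (by rw [card_zp hu, pow_one]) :
      IsPGroup 23 (zpowers u)).toSylow (by
        intro h
        have := Nat.mul_dvd_mul_left (Nat.card (zpowers u)) h
        rw [card_mul_index, card_zp hu, card_G hc] at this
        norm_num at this)
    exact hc.norm23 P
  rw [hW, ← card_mul_index N, mul_comm 253] at hdv
  have hidx : N.index ∣ 253 := Nat.dvd_of_mul_dvd_mul_left Nat.card_pos hdv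
  have h11 : N.index = 11 := by
    have h1 : N.index ≠ 1 := fun h => htop (index_eq_one.1 h)
    have h2 : ¬ 23 ∣ N.index := fun h => by
      have := Nat.mul_dvd_mul h23 h
      rw [card_mul_index, card_G hc] at this
      norm_num at this
    have : ∀ d ∈ Nat.divisors 253, d ≠ 1 → ¬ 23 ∣ d → d = 11 := by decide +kernel
    exact this _ (Nat.mem_divisors.2 ⟨hidx, by norm_num⟩) h1 h2
  have hNc : Nat.card N = 927360 := by
    have := card_mul_index N
    rw [h11, card_G hc] at this
    omega
  let S : Sylow 23 N := (IsPGroup.of_card (n := 1) (by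
    rw [Nat.card_congr (subgroupOfEquivOfLe (zpowers_le.2 huN)).toEquiv, card_zp hu, pow_one]) :
      IsPGroup 23 ((zpowers u).subgroupOf N)).toSylow (by
        intro h
        have := Nat.mul_dvd_mul_left (Nat.card ((zpowers u).subgroupOf N)) h
        rw [card_mul_index, Nat.card_congr (subgroupOfEquivOfLe (zpowers_le.2 huN)).toEquiv,
          card_zp hu, hNc] at this
        norm_num at this)
  have hS : normalizer (S : Set N) ≤ centralizer (S : Set N) := by
    intro g hg
    have hgW : (g : G) ∈ normalizer (zpowers u : Set G) := by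
      have h' : g ∈ (normalizer (zpowers u : Set G)).subgroupOf N := by
        rw [subgroupOf_normalizer_eq (zpowers_le.2 huN)]; exact hg
      exact h'
    have hgu : (g : G) ∈ zpowers u := by
      set I := normalizer (zpowers u : Set G) ⊓ N
      have hle : zpowers u ≤ I := le_inf le_normalizer (zpowers_le.2 huN)
      have hI : Nat.card I ∣ 23 := by
        have := Nat.dvd_gcd (hW ▸ card_dvd_of_le (inf_le_left : I ≤ normalizer (zpowers u : Set G)))
          (hNc ▸ card_dvd_of_le (inf_le_right : I ≤ N))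
        exact this.trans (by decide +kernel)
      rw [eq_of_le_of_card_ge hle (by rw [card_zp hu]; exact Nat.le_of_dvd (by norm_num) hI)]
      exact ⟨hgW, g.2⟩
    refine mem_centralizer_iff.2 fun v hv => Subtype.ext ?_
    show (v : G) * (g : G) = (g : G) * (v : G)
    obtain ⟨i, hi⟩ := mem_zpowers_iff.1 hgu
    obtain ⟨j, hj⟩ := mem_zpowers_iff.1 (show (v : G) ∈ zpowers u from hv)
    rw [← hi, ← hj, ← zpow_add, ← zpow_add, add_comm]
  obtain ⟨K, hK, hKn⟩ : ∃ K : Subgroup N, IsComplement' K (S : Subgroup N) ∧ K.Normal :=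
    ⟨_, MonoidHom.ker_transferSylow_isComplement' S hS, inferInstance⟩
  have hKc : Nat.card K = 40320 := by
    have := hK.card_mul
    rw [show Nat.card (S : Subgroup N) = 23 from (Nat.card_congr
      (subgroupOfEquivOfLe (zpowers_le.2 huN)).toEquiv).trans (card_zp hu), hNc] at this
    omega
  have hKi : K.index = 23 := by
    have := card_mul_index K
    rw [hKc, hNc] at this
    omega
  have hmem : ∀ v : N, Nat.Coprime (orderOf v) 23 → v ∈ K := by
    intro v hv
    rw [← QuotientGroup.eq_one_iff, ← orderOf_eq_one_iff]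
    refine Nat.eq_one_of_dvd_coprimes hv (orderOf_map_dvd (QuotientGroup.mk' K) v) ?_
    rw [← hKi, index_eq_card]
    exact orderOf_dvd_natCard _
  haveI : (K.map N.subtype).Normal := ⟨by
    rintro _ ⟨v, hv, rfl⟩ g
    refine ⟨⟨g * v * g⁻¹, hN.conj_mem _ v.2 g⟩, hmem _ ?_, rfl⟩
    rw [← orderOf_coe]
    show Nat.Coprime (orderOf (g * (v : G) * g⁻¹)) 23
    rw [← MulAut.conj_apply, MulEquiv.orderOf_eq, orderOf_coe]
    exact Nat.Coprime.coprime_dvd_left (orderOf_dvd_natCard _ hv) (by rw [hKc]; norm_num)⟩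
  have hbot := small_normal hc (N := K.map N.subtype) (by
    rw [card_map_of_injective N.subtype_injective, hKc]; norm_num)
  have := congrArg (fun H : Subgroup G => Nat.card H) hbot
  rw [card_map_of_injective N.subtype_injective, hKc, card_bot] at this
  omega

theorem not_abelian : ¬ ∀ a b : G, a * b = b * a := by
  intro h
  haveI : Fact (Nat.Prime 23) := ⟨by norm_num⟩
  obtain ⟨u, hu⟩ := exists_prime_orderOf_dvd_card' (G := G) 23 (by rw [card_G hc]; norm_num)
  have htop : centralizer ({u} : Set G) = ⊤ :=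
    eq_top_iff.2 fun g _ => mem_centralizer_singleton_iff.2 (h g u)
  have := hc.cent23 u hu
  rw [htop, card_top, card_G hc] at this
  omega

end Local

universe v

open Local in
/-- From the counts to the facts. -/
theorem facts : StmtFacts.{v} := fun _ _ _ hc =>
  { card := card_G hc
    simple := simple hc
    nab := not_abelian hc
    orders := hc.orders
    conj2 := fun _ _ => conj_two hc
    cent2 := fun _ => cent_two hc
    conj3 := fun _ _ => conj_three hc
    cent3 := fun _ => cent_three hc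
    invol3 := fun _ => invol_three hc
    cycle3 := fun _ hx V hV hVx => cycle_three hc hx V hV hVx
    cent5 := hc.cent5
    norm5 := hc.norm5
    cent7 := hc.cent7
    norm7 := hc.norm7 }

end CfsgLib.M23Nse
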