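import Cfsg.Agent.Lib.M23Nse.Defs

/-!
# The orbit of length 112 of a point stabiliser

Section C, first part, of `tools/S3595_plan.md`: among the pairs of different conjugates of the
subgroup of order 16 exactly one orbit has a stabiliser of order divisible by five; this
stabiliser has order 360 and fixes one label at either end, which gives the relation on flags.
-/

set_option autoImplicit false
set_option linter.style.haveILetI false

namespace CfsgLib.M23Nse.NearProof

open Subgroup MulAction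

attribute [-instance] MulAction.mulLeftCosetsCompSubtypeVal

universe u

section General

variable {G : Type u} [Group G] [Finite G]

theorem ncard_orbit_mul {α : Type*} [MulAction G α] (H : Subgroup G) (a : α) :
    (orbit H a).ncard * Nat.card (H ⊓ stabilizer G a : Subgroup G) = Nat.card H := by
  have h1 : stabilizer H a = (H ⊓ stabilizer G a).subgroupOf H := by
    ext x
    simp [mem_subgroupOf, Subgroup.smul_def]
  have h2 := (stabilizer H a).index_mul_card
  rw [index_stabilizer, h1,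
    Nat.card_congr (subgroupOfEquivOfLe (inf_le_left : H ⊓ stabilizer G a ≤ H)).toEquiv] at h2
  exact h2

theorem zpowers_normalized {u g : G} (h : g * u * g⁻¹ ∈ zpowers u) :
    g ∈ normalizer (zpowers u : Set G) := by
  rw [Subgroup.mem_normalizer_iff_map_conj_eq]
  refine eq_of_le_of_card_ge ?_ (le_of_eq (card_map_of_injective (MulAut.conj g).injective).symm)
  rw [MonoidHom.map_zpowers, zpowers_le]
  exact h

/-- A cyclic subgroup of prime order as a Sylow subgroup, and the count of its conjugates. -/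
theorem sylow_count (H : Subgroup G) {p : ℕ} [Fact p.Prime] {x : G} (hx : x ∈ H)
    (hxp : orderOf x = p) (hp2 : ¬ p ^ 2 ∣ Nat.card G) :
    ∃ t : ℕ, t % p = 1 ∧
      t * Nat.card (normalizer (zpowers x : Set G) ⊓ H : Subgroup G) = Nat.card H := by
  have hp := (Fact.out : p.Prime)
  let y : H := ⟨x, hx⟩
  have hy : orderOf y = p := by rw [Subgroup.orderOf_mk]; exact hxp
  have hf : (Nat.card H).factorization p = 1 := by
    have h0 : Nat.card H ≠ 0 := Nat.card_pos.ne'
    have h1 : 1 ≤ (Nat.card H).factorization p :=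
      (hp.pow_dvd_iff_le_factorization h0).1 (by rw [pow_one, ← hy]; exact orderOf_dvd_natCard y)
    have h2 : ¬ 2 ≤ (Nat.card H).factorization p := fun h =>
      hp2 (((hp.pow_dvd_iff_le_factorization h0).2 h).trans (Subgroup.card_subgroup_dvd_card H))
    omega
  let P : Sylow p H := Sylow.ofCard (zpowers y) (by rw [Nat.card_zpowers, hy, hf, pow_one])
  refine ⟨Nat.card (Sylow p H), ?_, ?_⟩
  · have := card_sylow_modEq_one p H
    rw [Nat.ModEq, Nat.mod_eq_of_lt hp.one_lt] at this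
    exact this
  · have h1 : (zpowers y) = (zpowers x).subgroupOf H := by
      ext z
      simp only [mem_subgroupOf, mem_zpowers_iff, Subtype.ext_iff, SubgroupClass.coe_zpow, y]
    have h2 : normalizer (((P : Subgroup H)) : Set H) =
        (normalizer (zpowers x : Set G) ⊓ H).subgroupOf H := by
      rw [show (P : Subgroup H) = zpowers y from rfl, h1,
        ← subgroupOf_normalizer_eq (zpowers_le.2 hx)]
      ext z
      simp [mem_subgroupOf]
    have h3 := (normalizer (((P : Subgroup H)) : Set H)).index_mul_card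
    have h4 := Sylow.card_eq_index_normalizer P
    change Nat.card (Sylow p H) = (normalizer (((P : Subgroup H)) : Set H)).index at h4
    rw [← h4, h2, Nat.card_congr
      (subgroupOfEquivOfLe (inf_le_right : normalizer (zpowers x : Set G) ⊓ H ≤ H)).toEquiv] at h3
    exact h3

/-- Subgroups of prime order in a subgroup are conjugate in it. -/
theorem sylow_conj (H : Subgroup G) {p : ℕ} [Fact p.Prime] {x x' : G} (hx : x ∈ H) (hx' : x' ∈ H)
    (hxp : orderOf x = p) (hxp' : orderOf x' = p) (hp2 : ¬ p ^ 2 ∣ Nat.card G) :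
    ∃ n ∈ H, n * x * n⁻¹ ∈ zpowers x' := by
  have hp := (Fact.out : p.Prime)
  have hsyl : ∀ z : H, orderOf z = p → ∃ P : Sylow p H, (P : Subgroup H) = zpowers z := by
    intro z hz
    have h0 : Nat.card H ≠ 0 := Nat.card_pos.ne'
    have h1 : 1 ≤ (Nat.card H).factorization p :=
      (hp.pow_dvd_iff_le_factorization h0).1 (by rw [pow_one, ← hz]; exact orderOf_dvd_natCard z)
    have h2 : ¬ 2 ≤ (Nat.card H).factorization p := fun h =>
      hp2 (((hp.pow_dvd_iff_le_factorization h0).2 h).trans (Subgroup.card_subgroup_dvd_card H))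
    exact ⟨Sylow.ofCard (zpowers z)
      (by rw [Nat.card_zpowers, hz, show (Nat.card H).factorization p = 1 by omega, pow_one]), rfl⟩
  obtain ⟨P, hP⟩ := hsyl ⟨x, hx⟩ (by rw [Subgroup.orderOf_mk]; exact hxp)
  obtain ⟨P', hP'⟩ := hsyl ⟨x', hx'⟩ (by rw [Subgroup.orderOf_mk]; exact hxp')
  obtain ⟨n, hn⟩ := exists_smul_eq H P P'
  refine ⟨n, n.2, ?_⟩
  have hm : n * ⟨x, hx⟩ * n⁻¹ ∈ zpowers (⟨x', hx'⟩ : H) := by
    rw [← hP', ← hn, Sylow.smul_def, Sylow.pointwise_smul_def,
      Subgroup.mem_pointwise_smul_iff_inv_smul_mem, hP]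
    rw [← map_inv, MulAut.smul_def, MulAut.conj_apply, inv_inv,
      show n⁻¹ * (n * ⟨x, hx⟩ * n⁻¹) * n = (⟨x, hx⟩ : H) by group]
    exact mem_zpowers _
  obtain ⟨k, hk⟩ := mem_zpowers_iff.1 hm
  exact mem_zpowers_iff.2 ⟨k, by simpa using congrArg Subtype.val hk⟩

/-- The stabiliser of a pair is moved by conjugation. -/
theorem card_pair_smul {α : Type*} [MulAction G α] (g : G) (a b : α) :
    Nat.card (stabilizer G (g • a) ⊓ stabilizer G (g • b) : Subgroup G) =
      Nat.card (stabilizer G a ⊓ stabilizer G b : Subgroup G) := by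
  rw [stabilizer_smul_eq_stabilizer_map_conj, stabilizer_smul_eq_stabilizer_map_conj,
    ← Subgroup.map_inf _ _ _ (MulAut.conj g).injective]
  exact card_map_of_injective (MulAut.conj g).injective

end General

/-! ## Subgroups of order 360 of the alternating group of degree seven -/

theorem card_other : ∀ i j : Fin 7, i ≠ j → Fintype.card {a : Fin 7 // a ≠ i ∧ a ≠ j} = 5 := by
  decide

theorem card_two_fixed {i j : Fin 7} (hij : i ≠ j) (S : Subgroup (alternatingGroup (Fin 7)))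
    (hi : ∀ s ∈ S, (s : Equiv.Perm (Fin 7)) i = i)
    (hj : ∀ s ∈ S, (s : Equiv.Perm (Fin 7)) j = j) : Nat.card S ≤ 120 := by
  let p : Fin 7 → Prop := fun a => a ≠ i ∧ a ≠ j
  let φ : S → {f : Equiv.Perm (Fin 7) // ∀ a, ¬ p a → f a = a} := fun s =>
    ⟨((s : alternatingGroup (Fin 7)) : Equiv.Perm (Fin 7)), fun a ha => by
      rcases not_and_or.1 ha with h | h <;> rw [not_not.1 h]
      · exact hi _ s.2
      · exact hj _ s.2⟩
  have hφ : Function.Injective φ := fun a b e => by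
    have h1 := congrArg Subtype.val e
    exact Subtype.ext (Subtype.ext h1)
  refine (Nat.card_le_card_of_injective φ hφ).trans (le_of_eq ?_)
  rw [← Nat.card_congr (Equiv.Perm.subtypeEquivSubtypePerm p), Nat.card_perm,
    Nat.card_eq_fintype_card, show Fintype.card {a : Fin 7 // p a} = 5 from card_other i j hij]
  rfl

theorem exists_fixed_label (S : Subgroup (alternatingGroup (Fin 7))) (hS : Nat.card S = 360) :
    ∃ i : Fin 7, (∀ s ∈ S, (s : Equiv.Perm (Fin 7)) i = i) ∧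
      ∀ j, (∀ s ∈ S, (s : Equiv.Perm (Fin 7)) j = j) → j = i := by
  haveI : Fact (Nat.Prime 5) := ⟨by norm_num⟩
  suffices h : ∃ i : Fin 7, ∀ s ∈ S, (s : Equiv.Perm (Fin 7)) i = i by
    obtain ⟨i, hi⟩ := h
    refine ⟨i, hi, fun j hj => ?_⟩
    by_contra hne
    have := card_two_fixed hne S hj hi
    omega
  obtain ⟨x, hx⟩ := exists_prime_orderOf_dvd_card' (G := S) 5 (by rw [hS]; norm_num)
  set σ : Equiv.Perm (Fin 7) := ((x : alternatingGroup (Fin 7)) : Equiv.Perm (Fin 7)) with hσ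
  have hσ5 : orderOf σ = 5 := by rw [hσ, Subgroup.orderOf_coe, Subgroup.orderOf_coe, hx]
  have hcyc : σ.IsCycle := Equiv.Perm.isCycle_of_prime_order (by rw [hσ5]; norm_num)
    (by rw [hσ5]; exact lt_of_le_of_lt (Finset.card_le_univ _) (by simp))
  have hsupp : σ.support.card = 5 := by rw [← hcyc.orderOf, hσ5]
  have hc2 : σ.supportᶜ.card = 2 := by
    rw [Finset.card_compl, hsupp]; rfl
  obtain ⟨b, b', hbb, hcompl⟩ := Finset.card_eq_two.1 hc2
  by_cases hb : ∀ s ∈ S, (s : Equiv.Perm (Fin 7)) b = b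
  · exact ⟨b, hb⟩
  by_cases hmove : ∃ s ∈ S, (s : Equiv.Perm (Fin 7)) b ∈ σ.support
  · -- the orbit of `b` has six points, so `b'` is fixed
    obtain ⟨s₀, hs₀, hm⟩ := hmove
    have hmem : ∀ a ∈ σ.support, a ∈ orbit S b := by
      intro a ha
      obtain ⟨k, hk⟩ := hcyc.sameCycle (Equiv.Perm.mem_support.1 hm) (Equiv.Perm.mem_support.1 ha)
      refine ⟨x ^ k * ⟨s₀, hs₀⟩, ?_⟩
      show (((x ^ k * ⟨s₀, hs₀⟩ : S) : alternatingGroup (Fin 7)) : Equiv.Perm (Fin 7)) b = a
      simp only [Subgroup.coe_mul, SubgroupClass.coe_zpow, Equiv.Perm.mul_apply, ← hσ]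
      exact hk
    have hb' : b' ∉ orbit S b := by
      intro hb'
      have huniv : orbit S b = Set.univ := Set.eq_univ_of_forall fun a => by
        by_cases ha : a ∈ σ.support
        · exact hmem a ha
        · have : a ∈ σ.supportᶜ := Finset.mem_compl.2 ha
          rw [hcompl, Finset.mem_insert, Finset.mem_singleton] at this
          rcases this with rfl | rfl
          · exact mem_orbit_self a
          · exact hb'
      have h7 := (stabilizer S b).index_mul_card
      rw [index_stabilizer, huniv, Set.ncard_univ, Nat.card_eq_fintype_card, Fintype.card_fin,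
        hS] at h7
      omega
    refine ⟨b', fun s hs => ?_⟩
    by_contra hne
    apply hb'
    have hss : (s : Equiv.Perm (Fin 7)) b' ∈ orbit S b := by
      by_cases ha : (s : Equiv.Perm (Fin 7)) b' ∈ σ.support
      · exact hmem _ ha
      · have : (s : Equiv.Perm (Fin 7)) b' ∈ σ.supportᶜ := Finset.mem_compl.2 ha
        rw [hcompl, Finset.mem_insert, Finset.mem_singleton] at this
        rcases this with h | h
        · rw [h]; exact mem_orbit_self b
        · exact absurd h hne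
    obtain ⟨t, ht⟩ := hss
    refine ⟨(⟨s, hs⟩ : S)⁻¹ * t, ?_⟩
    show ((⟨s, hs⟩ : S)⁻¹ * t) • b = b'
    rw [mul_smul]
    exact inv_smul_eq_iff.2 ht
  · -- the orbit of `b` is `{b, b'}`
    exfalso
    have horb : orbit S b = {b, b'} := by
      refine Set.Subset.antisymm ?_ ?_
      · rintro _ ⟨s, rfl⟩
        have : ((s : alternatingGroup (Fin 7)) : Equiv.Perm (Fin 7)) b ∈ σ.supportᶜ :=
          Finset.mem_compl.2 fun h => hmove ⟨_, s.2, h⟩
        rw [hcompl, Finset.mem_insert, Finset.mem_singleton] at this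
        exact this
      · intro a ha
        rcases ha with rfl | rfl
        · exact mem_orbit_self a
        · push_neg at hb
          obtain ⟨s, hs, hne⟩ := hb
          have : (s : Equiv.Perm (Fin 7)) b ∈ σ.supportᶜ :=
            Finset.mem_compl.2 fun h => hmove ⟨s, hs, h⟩
          rw [hcompl, Finset.mem_insert, Finset.mem_singleton] at this
          exact ⟨⟨s, hs⟩, this.resolve_left hne⟩
    have h2 := ncard_orbit_mul S b
    rw [horb, Set.ncard_pair hbb, hS] at h2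
    have h3 := card_two_fixed hbb (S ⊓ stabilizer _ b) (fun s hs => hs.2) fun s hs => by
      have hsb : (s : Equiv.Perm (Fin 7)) b = b := hs.2
      obtain ⟨t, ht⟩ := horb.symm ▸ (Set.mem_insert_of_mem _ rfl : b' ∈ ({b, b'} : Set (Fin 7)))
      have hin : (s : Equiv.Perm (Fin 7)) b' ∈ orbit S b := ⟨⟨s, hs.1⟩ * t, by
        show (⟨s, hs.1⟩ * t : S) • b = _
        rw [mul_smul]
        show (s : Equiv.Perm (Fin 7)) (t • b) = _
        rw [show t • b = b' from ht]⟩
      rw [horb] at hin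
      rcases hin with h | h
      · exact absurd ((s : Equiv.Perm (Fin 7)).injective (h.trans hsb.symm)) hbb.symm
      · exact h
    omega

/-! ## The points, the flags and the orbit -/

variable {G : Type u} [Group G] [Finite G] (h : Heptad G)

/-- the base point -/
def o : h.Pt := QuotientGroup.mk (1 : G)

/-- the base flag -/
def fl : h.Flag := QuotientGroup.mk (1 : G)

theorem pt_smul (g : G) (f : h.Flag) : h.pt (g • f) = g • h.pt f := by
  obtain ⟨x, rfl⟩ := QuotientGroup.mk_surjective f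
  rfl

theorem stab_o : stabilizer G (o h) = h.N := stabilizer_quotient h.N

theorem mem_stab_o {x : G} : x • o h = o h ↔ x ∈ h.N := by
  rw [← mem_stabilizer_iff]
  exact SetLike.ext_iff.1 (stab_o h) x

theorem stab_fl : stabilizer G (fl h) = h.A := stabilizer_quotient h.A

theorem exists_smul_o (P : h.Pt) : ∃ g : G, g • o h = P := exists_smul_eq G _ P

theorem pt_fl : h.pt (fl h) = o h := rfl

theorem R_le_N : h.R ≤ h.N := le_normalizer

theorem card_N' : Nat.card h.N = 40320 := h.card_N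

theorem card_Pt (F : Facts G) : Nat.card h.Pt = 253 := by
  have := h.N.index_mul_card
  rw [F.card, card_N' h] at this
  show h.N.index = 253
  omega

/-- the label map -/
def lab (x : h.N) (i : Fin 7) : Fin 7 := (h.π x : Equiv.Perm (Fin 7)) i

theorem fix_flag {x n : G} (hx : x ∈ h.N) (hn : n ∈ h.N) :
    x • n • fl h = n • fl h ↔ lab h ⟨x, hx⟩ (lab h ⟨n, hn⟩ 0) = lab h ⟨n, hn⟩ 0 := by
  rw [show x • n • fl h = n • fl h ↔ (n⁻¹ * x * n) • fl h = fl h by
    rw [mul_smul, mul_smul, inv_smul_eq_iff], ← mem_stabilizer_iff, stab_fl]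
  let x' : normalizer (h.R : Set G) := ⟨x, hx⟩
  let n' : normalizer (h.R : Set G) := ⟨n, hn⟩
  have hmem : n⁻¹ * x * n ∈ h.A ↔ lab h (n'⁻¹ * x' * n') 0 = 0 := by
    constructor
    · rintro ⟨y, hy, hye⟩
      rw [show n'⁻¹ * x' * n' = y from Subtype.ext hye.symm]
      exact hy
    · exact fun hy => ⟨n'⁻¹ * x' * n', hy, rfl⟩
  rw [hmem]
  show (h.π (n'⁻¹ * x' * n') : Equiv.Perm (Fin 7)) 0 = 0 ↔
    (h.π x' : Equiv.Perm (Fin 7)) ((h.π n' : Equiv.Perm (Fin 7)) 0) =
      (h.π n' : Equiv.Perm (Fin 7)) 0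
  simp only [map_mul, map_inv, Subgroup.coe_mul, Subgroup.coe_inv, Equiv.Perm.mul_apply,
    Equiv.Perm.inv_eq_iff_eq]

theorem exists_lab (i : Fin 7) : ∃ n : h.N, lab h n 0 = i := by
  haveI := alternatingGroup.isPretransitive_of_three_le_card (α := Fin 7) (by simp)
  obtain ⟨s, hs⟩ := exists_smul_eq (alternatingGroup (Fin 7)) (0 : Fin 7) i
  obtain ⟨n, rfl⟩ := h.π_surj s
  exact ⟨n, hs⟩

theorem over_o {f : h.Flag} (hf : h.pt f = o h) : ∃ n ∈ h.N, n • fl h = f := by
  obtain ⟨g, rfl⟩ := exists_smul_eq G (fl h) f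
  rw [pt_smul, pt_fl] at hf
  exact ⟨g, (mem_stab_o h).1 hf, rfl⟩

theorem flag_ext {n m : G} (hn : n ∈ h.N) (hm : m ∈ h.N)
    (e : lab h ⟨n, hn⟩ 0 = lab h ⟨m, hm⟩ 0) : n • fl h = m • fl h := by
  rw [← inv_smul_eq_iff, ← mul_smul, ← mem_stabilizer_iff, stab_fl]
  let m' : normalizer (h.R : Set G) := ⟨m, hm⟩
  let n' : normalizer (h.R : Set G) := ⟨n, hn⟩
  refine ⟨m'⁻¹ * n', ?_, rfl⟩
  show (h.π (m'⁻¹ * n') : Equiv.Perm (Fin 7)) 0 = 0
  simp only [map_mul, map_inv, Subgroup.coe_mul, Subgroup.coe_inv, Equiv.Perm.mul_apply,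
    Equiv.Perm.inv_eq_iff_eq]
  exact e

theorem card_A : Nat.card h.A = 5760 := by
  haveI := alternatingGroup.isPretransitive_of_three_le_card (α := Fin 7) (by simp)
  have hst := (stabilizer (alternatingGroup (Fin 7)) (0 : Fin 7))
  have hi : ((stabilizer (alternatingGroup (Fin 7)) (0 : Fin 7)).comap h.π).index = 7 := by
    rw [index_comap_of_surjective _ h.π_surj, index_stabilizer, orbit_eq_univ, Set.ncard_univ,
      Nat.card_eq_fintype_card, Fintype.card_fin]
  have h2 := ((stabilizer (alternatingGroup (Fin 7)) (0 : Fin 7)).comap h.π).index_mul_card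
  rw [hi, h.card_N] at h2
  rw [Heptad.A, card_map_of_injective (subtype_injective _)]
  omega

theorem mem_ker_o {x : G} : x ∈ h.ker (o h) ↔ x ∈ h.R := by
  constructor
  · intro hx
    obtain ⟨hxo, hxf⟩ := hx
    have hxN : x ∈ h.N := (mem_stab_o h).1 hxo
    have h1 : h.π ⟨x, hxN⟩ = 1 := by
      refine Subtype.ext (Equiv.ext fun i => ?_)
      obtain ⟨n, hn⟩ := exists_lab h i
      have := (fix_flag h hxN n.2).1 ((Subgroup.mem_iInf.1 hxf) ⟨(n : G) • fl h, by
        rw [pt_smul, pt_fl]; exact (mem_stab_o h).2 n.2⟩)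
      rw [Subtype.coe_eta, hn] at this
      simp only [lab] at this
      exact this
    have h2 : (⟨x, hxN⟩ : h.N) ∈ h.π.ker := h1
    rw [h.π_ker] at h2
    exact h2
  · intro hx
    have hxN : x ∈ h.N := R_le_N h hx
    have h1 : h.π ⟨x, hxN⟩ = 1 := by
      rw [← MonoidHom.mem_ker, h.π_ker]
      exact hx
    refine ⟨(mem_stab_o h).2 hxN, Subgroup.mem_iInf.2 fun ⟨f, hf⟩ => ?_⟩
    obtain ⟨n, hn, rfl⟩ := over_o h hf
    refine (fix_flag h hxN hn).2 ?_
    show (h.π ⟨x, hxN⟩ : Equiv.Perm (Fin 7)) _ = _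
    erw [h1]
    rfl

theorem conj_mem_ker (g : G) {P : h.Pt} {x : G} (hx : x ∈ h.ker P) :
    g * x * g⁻¹ ∈ h.ker (g • P) := by
  obtain ⟨hxP, hxf⟩ := Subgroup.mem_inf.1 hx
  rw [mem_stabilizer_iff] at hxP
  refine ⟨?_, Subgroup.mem_iInf.2 fun ⟨f, hf⟩ => ?_⟩
  · show (g * x * g⁻¹) • g • P = g • P
    rw [mul_smul, mul_smul, inv_smul_smul, hxP]
  · have := (Subgroup.mem_iInf.1 hxf) ⟨g⁻¹ • f, by rw [pt_smul, hf, inv_smul_smul]⟩
    rw [mem_stabilizer_iff] at this ⊢
    rw [mul_smul, mul_smul, this, smul_inv_smul]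

/-- the pair stabiliser with the base point -/
abbrev st (Q : h.Pt) : Subgroup G := stabilizer G (o h) ⊓ stabilizer G Q

theorem fix_eq_o (F : Facts G) {u : G} {Q : h.Pt} (hu : u ∈ st h Q) (h7 : orderOf u = 7) :
    Q = o h := by
  haveI : Fact (Nat.Prime 7) := ⟨by norm_num⟩
  have hp2 : ¬ 7 ^ 2 ∣ Nat.card G := by rw [F.card]; norm_num
  have huN : u ∈ h.N := (mem_stab_o h).1 hu.1
  obtain ⟨t, ht, htc⟩ := sylow_count h.N huN h7 hp2
  let P : Sylow 7 G := Sylow.ofCard (zpowers u) (by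
    rw [Nat.card_zpowers, h7, F.card]
    rw [show (10200960 : ℕ) = 7 * 1457280 by norm_num, Nat.factorization_mul (by norm_num)
      (by norm_num), Nat.Prime.factorization (by norm_num)]
    simp [Nat.factorization_eq_zero_of_not_dvd (show ¬ 7 ∣ 1457280 by norm_num)])
  have hT : Nat.card (normalizer (zpowers u : Set G)) = 42 := F.norm7 P
  have hle : normalizer (zpowers u : Set G) ≤ h.N := by
    have hd : Nat.card (normalizer (zpowers u : Set G) ⊓ h.N : Subgroup G) = 42 := by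
      have hdvd : Nat.card (normalizer (zpowers u : Set G) ⊓ h.N : Subgroup G) ∣ 42 :=
        hT ▸ Subgroup.card_dvd_of_le inf_le_left
      rw [card_N' h] at htc
      generalize Nat.card (normalizer (zpowers u : Set G) ⊓ h.N : Subgroup G) = d at hdvd htc
      have hd42 : d ≤ 42 := Nat.le_of_dvd (by norm_num) hdvd
      interval_cases d <;> omega
    rw [← inf_eq_left]
    exact eq_of_le_of_card_ge inf_le_left (by rw [hd, hT])
  obtain ⟨g, rfl⟩ := exists_smul_o h Q
  have hgu : g⁻¹ * u * g ∈ h.N := by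
    rw [← mem_stab_o, mul_smul, mul_smul, inv_smul_eq_iff]
    exact hu.2
  obtain ⟨n, hn, hnu⟩ := sylow_conj h.N hgu huN
    (by rw [show g⁻¹ * u * g = MulAut.conj g⁻¹ u by simp, MulEquiv.orderOf_eq, h7]) h7 hp2
  have hm : n * g⁻¹ ∈ h.N := hle (zpowers_normalized (by
    rw [show n * g⁻¹ * u * (n * g⁻¹)⁻¹ = n * (g⁻¹ * u * g) * n⁻¹ by group]; exact hnu))
  refine (mem_stab_o h).2 ?_
  have := inv_mem (mul_mem (inv_mem hn) hm)
  simpa using this

theorem not_order_ten (F : Facts G) {u r : G} (hu : orderOf u = 5) (hr : r ∈ h.R)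
    (hc : Commute u r) : r = 1 := by
  by_contra h1
  have hr2 : orderOf r = 2 := orderOf_eq_prime (by rw [sq]; exact h.elem r hr) h1
  have := F.orders (u * r)
  rw [hc.orderOf_mul_eq_mul_orderOf_of_coprime (by rw [hu, hr2]; norm_num), hu, hr2] at this
  simp at this

theorem zpowers_sylow_five (F : Facts G) {u : G} (h5 : orderOf u = 5) :
    Nat.card (normalizer (zpowers u : Set G)) = 60 := by
  haveI : Fact (Nat.Prime 5) := ⟨by norm_num⟩
  let P : Sylow 5 G := Sylow.ofCard (zpowers u) (by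
    rw [Nat.card_zpowers, h5, F.card]
    rw [show (10200960 : ℕ) = 5 * 2040192 by norm_num, Nat.factorization_mul (by norm_num)
      (by norm_num), Nat.Prime.factorization (by norm_num)]
    simp [Nat.factorization_eq_zero_of_not_dvd (show ¬ 5 ∣ 2040192 by norm_num)])
  exact F.norm5 P

theorem not_dvd_five_sq (F : Facts G) : ¬ 5 ^ 2 ∣ Nat.card G := by rw [F.card]; norm_num

theorem card_D (F : Facts G) {u : G} (hu : u ∈ h.N) (h5 : orderOf u = 5) :
    Nat.card (normalizer (zpowers u : Set G) ⊓ h.N : Subgroup G) = 20 := by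
  haveI : Fact (Nat.Prime 5) := ⟨by norm_num⟩
  obtain ⟨t, ht, htc⟩ := sylow_count h.N hu h5 (not_dvd_five_sq F)
  have hdvd : Nat.card (normalizer (zpowers u : Set G) ⊓ h.N : Subgroup G) ∣ 60 :=
    zpowers_sylow_five F h5 ▸ Subgroup.card_dvd_of_le inf_le_left
  rw [card_N' h] at htc
  generalize Nat.card (normalizer (zpowers u : Set G) ⊓ h.N : Subgroup G) = d at hdvd htc
  have hd60 : d ≤ 60 := Nat.le_of_dvd (by norm_num) hdvd
  interval_cases d <;> omega

/-- The subgroup of order twenty moves each of the other two fixed points. -/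
theorem D_moves (F : Facts G) {u : G} (hu : u ∈ h.N) (h5 : orderOf u = 5) :
    ∃ t ∈ normalizer (zpowers u : Set G), ∃ d ∈ normalizer (zpowers u : Set G) ⊓ h.N,
      t⁻¹ * d * t ∉ h.N := by
  haveI : Fact (Nat.Prime 3) := ⟨by norm_num⟩
  by_contra hcon
  push_neg at hcon
  set T := normalizer (zpowers u : Set G) with hT
  set D := T ⊓ h.N with hD
  have hD20 : Nat.card D = 20 := card_D h F hu h5
  -- elements centralising `u`
  set C := centralizer ({u} : Set G) with hC
  have hC15 : Nat.card C = 15 := F.cent5 u h5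
  have huC : u ∈ C := mem_centralizer_singleton_iff.2 rfl
  have hCT : C ≤ T := fun c hc => zpowers_normalized (by
    rw [mem_centralizer_singleton_iff.1 hc, mul_inv_cancel_right]; exact mem_zpowers u)
  have hCD : C ⊓ h.N = zpowers u := by
    refine (eq_of_le_of_card_ge (zpowers_le.2 (Subgroup.mem_inf.2 ⟨huC, hu⟩)) ?_).symm
    rw [Nat.card_zpowers, h5]
    have h1 : Nat.card (C ⊓ h.N : Subgroup G) ∣ 15 := hC15 ▸ Subgroup.card_dvd_of_le inf_le_left
    have h2 : Nat.card (C ⊓ h.N : Subgroup G) ∣ 20 :=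
      hD20 ▸ Subgroup.card_dvd_of_le (show C ⊓ h.N ≤ D from inf_le_inf_right _ hCT)
    exact Nat.le_of_dvd (by norm_num) (show Nat.card (C ⊓ h.N : Subgroup G) ∣ 5 from
      Nat.dvd_gcd h1 h2)
  obtain ⟨x, hx⟩ := exists_prime_orderOf_dvd_card' (G := C) 3 (by rw [hC15]; norm_num)
  have hx3 : orderOf (x : G) = 3 := by rw [Subgroup.orderOf_coe, hx]
  have hxu : Commute (x : G) u := mem_centralizer_singleton_iff.1 x.2
  -- an element inducing an automorphism of order four
  obtain ⟨d, hd, hd2⟩ : ∃ d ∈ D, ¬ Commute (d * d) u := by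
    by_contra hall
    push_neg at hall
    by_cases h0 : ∀ d ∈ D, Commute d u
    · have : Nat.card D ≤ 5 := by
        rw [← h5, ← Nat.card_zpowers, ← hCD]
        exact card_le_of_le fun d hd => ⟨mem_centralizer_singleton_iff.2 (h0 d hd), hd.2⟩
      omega
    · push_neg at h0
      obtain ⟨d₀, hd₀, hn0⟩ := h0
      have hcases : ∀ d ∈ D, d * u * d⁻¹ = u ∨ d * u * d⁻¹ = u⁻¹ := by
        intro d hd
        have hmem : d * u * d⁻¹ ∈ zpowers u :=
          ((Subgroup.mem_normalizer_iff.1 hd.1) u).1 (mem_zpowers u)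
        obtain ⟨k, hk⟩ := mem_zpowers_iff.1 hmem
        have hk' : u ^ k = u ^ ((k % 5).toNat) := by
          rw [← zpow_mod_orderOf, h5, ← zpow_natCast, Int.toNat_of_nonneg (Int.emod_nonneg _ (by norm_num))]
          norm_num
        have hdd : d * d * u * (d * d)⁻¹ = u := by
          rw [(hall d hd).eq, mul_inv_cancel_right]
        have h2 : u ^ ((k % 5).toNat * (k % 5).toNat) = u ^ 1 := by
          rw [pow_one, pow_mul, ← hk', hk, conj_pow, ← hk', hk]
          rw [show d * (d * u * d⁻¹) * d⁻¹ = d * d * u * (d * d)⁻¹ by group, hdd]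
        rw [pow_eq_pow_iff_modEq, h5] at h2
        have h5' : (k % 5).toNat < 5 := by
          have := Int.emod_lt_of_pos k (show (0 : ℤ) < 5 by norm_num); omega
        rw [← hk, hk']
        revert h2
        generalize (k % 5).toNat = m at h5' ⊢
        interval_cases m <;> intro h2
        · simp [Nat.ModEq] at h2
        · exact Or.inl (pow_one u)
        · simp [Nat.ModEq] at h2
        · simp [Nat.ModEq] at h2
        · refine Or.inr (eq_inv_of_mul_eq_one_left ?_)
          rw [← pow_succ, show 4 + 1 = orderOf u by rw [h5]]; exact pow_orderOf_eq_one u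
      have hsub : (D : Set G) ⊆ (zpowers u : Set G) ∪ (fun z => d₀ * z) '' (zpowers u : Set G) := by
        intro d hd
        rcases hcases d hd with h1 | h1
        · exact Or.inl (hCD.le ⟨mem_centralizer_singleton_iff.2 (eq_mul_inv_iff_mul_eq.1 h1.symm).symm, hd.2⟩)
        · refine Or.inr ⟨d₀⁻¹ * d, hCD.le (Subgroup.mem_inf.2 ⟨?_,
            mul_mem (inv_mem (Subgroup.mem_inf.1 hd₀).2) (Subgroup.mem_inf.1 hd).2⟩), by simp⟩
          rw [mem_centralizer_singleton_iff]
          have h0 : d₀ * u * d₀⁻¹ = u⁻¹ := (hcases d₀ hd₀).resolve_left fun e =>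
            hn0 (eq_mul_inv_iff_mul_eq.1 e.symm).symm
          have h0' : d₀⁻¹ * u⁻¹ * d₀ = u := by rw [← h0]; group
          have : d₀⁻¹ * d * u * (d₀⁻¹ * d)⁻¹ = u := by
            rw [show d₀⁻¹ * d * u * (d₀⁻¹ * d)⁻¹ = d₀⁻¹ * (d * u * d⁻¹) * d₀ by group, h1, h0']
          exact (eq_mul_inv_iff_mul_eq.1 this.symm).symm
      have h3 := Set.ncard_le_ncard hsub
      have h4 := h3.trans (Set.ncard_union_le _ _)
      have h5z : (zpowers u : Set G).ncard = 5 := by
        rw [← Nat.card_coe_set_eq]; exact (Nat.card_zpowers u).trans h5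
      have h6 := Set.ncard_image_le (f := fun z => d₀ * z) (Set.toFinite (zpowers u : Set G))
      have h7 : (D : Set G).ncard = 20 := by rw [← Nat.card_coe_set_eq]; exact hD20
      omega
  -- it commutes with `x`
  have hxT : (x : G) ∈ T := hCT x.2
  have hconjC : d * (x : G) * d⁻¹ ∈ zpowers (x : G) := by
    have hC' : d * (x : G) * d⁻¹ ∈ C := by
      rw [mem_centralizer_singleton_iff]
      obtain ⟨k, hk⟩ := mem_zpowers_iff.1
        (((Subgroup.mem_normalizer_iff.1 (inv_mem hd.1)) u).1 (mem_zpowers u))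
      rw [inv_inv] at hk
      have hc : Commute (x : G) (d⁻¹ * u * d) := by rw [← hk]; exact hxu.zpow_right k
      have := congrArg (fun z => d * z * d⁻¹) hc.eq
      simp only [mul_assoc, mul_inv_cancel_left] at this ⊢
      simpa [mul_assoc] using this
    have hg : orderOf ((x : G) * u) = 15 := by
      rw [hxu.orderOf_mul_eq_mul_orderOf_of_coprime (by rw [hx3, h5]; norm_num), hx3, h5]
    have hgC : zpowers ((x : G) * u) = C :=
      eq_of_le_of_card_ge (zpowers_le.2 (mul_mem x.2 huC))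
        (by rw [hC15, Nat.card_zpowers, hg])
    obtain ⟨k, hk⟩ := mem_zpowers_iff.1 (hgC.symm.le hC')
    have hk3 : ((x : G) * u) ^ (k * 3) = 1 := by
      rw [_root_.zpow_mul, hk, show (3 : ℤ) = ((3 : ℕ) : ℤ) from rfl, zpow_natCast, conj_pow,
        ← hx3, pow_orderOf_eq_one, mul_one, mul_inv_cancel]
    rw [← orderOf_dvd_iff_zpow_eq_one, hg] at hk3
    obtain ⟨j, rfl⟩ : (5 : ℤ) ∣ k := by omega
    rw [_root_.zpow_mul, show (5 : ℤ) = ((5 : ℕ) : ℤ) from rfl, zpow_natCast, hxu.mul_pow,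
      show u ^ 5 = 1 by rw [← h5, pow_orderOf_eq_one], mul_one] at hk
    rw [← hk]
    exact zpow_mem (pow_mem (mem_zpowers _) 5) j
  have hcomm : (x : G) * d * (x : G)⁻¹ * d⁻¹ = 1 := by
    set c := (x : G) * d * (x : G)⁻¹ * d⁻¹ with hc
    have h1 : (x : G) * d * (x : G)⁻¹ ∈ h.N := by
      have := hcon (x : G)⁻¹ (inv_mem hxT) d hd
      rwa [inv_inv] at this
    have hc1 : c ∈ zpowers (x : G) := by
      rw [hc, show (x : G) * d * (x : G)⁻¹ * d⁻¹ = x * (d * (x : G) * d⁻¹)⁻¹ by group]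
      exact mul_mem (mem_zpowers _) (inv_mem hconjC)
    have hc2 : c ∈ zpowers u :=
      hCD.le (Subgroup.mem_inf.2 ⟨zpowers_le.2 x.2 hc1, mul_mem h1 (inv_mem (Subgroup.mem_inf.1 hd).2)⟩)
    have h3 := orderOf_dvd_of_mem_zpowers hc1
    have h4 := orderOf_dvd_of_mem_zpowers hc2
    rw [hx3] at h3
    rw [h5] at h4
    have h5' : orderOf c ∣ 1 := (Nat.dvd_gcd h3 h4).trans (by norm_num)
    exact orderOf_eq_one_iff.1 (Nat.dvd_one.1 h5')
  have hxd : Commute (x : G) d := commutatorElement_eq_one_iff_commute.1 hcomm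
  have hd20 : orderOf d ∣ 20 := hD20 ▸ Subgroup.orderOf_dvd_natCard D hd
  have hd4 : orderOf d = 4 := by
    have h1 := F.orders d
    have h2 : ¬ orderOf d ∣ 2 := fun h2 => hd2 (by
      rw [← sq, orderOf_dvd_iff_pow_eq_one.1 h2]; exact Commute.one_left u)
    have h3 : orderOf d ≠ 5 := by
      intro h3
      have : d ∈ zpowers u := by
        by_contra hne
        have hzd : Nat.card (zpowers u ⊔ zpowers d : Subgroup G) ∣ 20 :=
          hD20 ▸ Subgroup.card_dvd_of_le (sup_le (zpowers_le.2 ⟨zpowers_normalized (by simp), hu⟩)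
            (zpowers_le.2 hd))
        obtain ⟨t, ht, htc⟩ := @sylow_count G _ _ D 5 ⟨by norm_num⟩ d hd h3 (not_dvd_five_sq F)
        obtain ⟨n, hn, hnu⟩ := @sylow_conj G _ _ D 5 ⟨by norm_num⟩ u d
          ⟨zpowers_normalized (by simp), hu⟩ hd h5 h3 (not_dvd_five_sq F)
        have h' : n * u * n⁻¹ ∈ zpowers u :=
          ((Subgroup.mem_normalizer_iff.1 hn.1) u).1 (mem_zpowers u)
        have hord : orderOf (n * u * n⁻¹) = 5 := by
          rw [show n * u * n⁻¹ = MulAut.conj n u by simp, MulEquiv.orderOf_eq, h5]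
        have e1 : zpowers (n * u * n⁻¹) = zpowers d := eq_of_le_of_card_ge (zpowers_le.2 hnu)
          (by rw [Nat.card_zpowers, Nat.card_zpowers, hord, h3])
        have e2 : zpowers (n * u * n⁻¹) = zpowers u := eq_of_le_of_card_ge (zpowers_le.2 h')
          (by rw [Nat.card_zpowers, Nat.card_zpowers, hord, h5])
        exact hne (e2.symm.trans e1 ▸ mem_zpowers d)
      obtain ⟨k, hk⟩ := mem_zpowers_iff.1 this
      exact hd2 (by rw [← hk]; exact ((Commute.refl u).zpow_left k).mul_left ((Commute.refl u).zpow_left k))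
    simp only [List.mem_cons, List.mem_singleton, List.not_mem_nil, or_false] at h1
    rcases h1 with e | e | e | e | e | e | e | e | e | e | e | e <;> rw [e] at hd20 h2 h3 ⊢ <;>
      first | rfl | omega
  have := F.orders ((x : G) * d)
  rw [hxd.orderOf_mul_eq_mul_orderOf_of_coprime (by rw [hx3, hd4]; norm_num), hx3, hd4] at this
  simp at this

/-- The three fixed points of an element of order five, and the swap. -/
theorem five_fixed (F : Facts G) {u : G} (hu : u ∈ h.N) (h5 : orderOf u = 5) :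
    (∃ Q, Q ≠ o h ∧ u ∈ st h Q) ∧
    (∀ Q Q', Q ≠ o h → Q' ≠ o h → u ∈ st h Q → u ∈ st h Q' →
      ∃ d ∈ normalizer (zpowers u : Set G) ⊓ h.N, d • Q = Q') ∧
    ∀ Q, Q ≠ o h → u ∈ st h Q →
      Nat.card ((normalizer (zpowers u : Set G) ⊓ h.N) ⊓ stabilizer G Q : Subgroup G) = 10 := by
  haveI : Fact (Nat.Prime 5) := ⟨by norm_num⟩
  set T := normalizer (zpowers u : Set G) with hT
  set D := T ⊓ h.N with hD
  have hTo : (orbit T (o h)).ncard = 3 := by
    have := ncard_orbit_mul T (o h)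
    rw [stab_o, card_D h F hu h5, zpowers_sylow_five F h5] at this
    omega
  have huo : u • o h = o h := (mem_stab_o h).2 hu
  have hfix : ∀ Q, u ∈ st h Q → Q ∈ orbit T (o h) := by
    intro Q hQ
    obtain ⟨g, rfl⟩ := exists_smul_o h Q
    have hgu : g⁻¹ * u * g ∈ h.N := by
      rw [← mem_stab_o, mul_smul, mul_smul, inv_smul_eq_iff]
      exact hQ.2
    obtain ⟨n, hn, hnu⟩ := sylow_conj h.N hgu hu
      (by rw [show g⁻¹ * u * g = MulAut.conj g⁻¹ u by simp, MulEquiv.orderOf_eq, h5]) h5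
      (not_dvd_five_sq F)
    have hm : n * g⁻¹ ∈ T := zpowers_normalized (by
      rw [show n * g⁻¹ * u * (n * g⁻¹)⁻¹ = n * (g⁻¹ * u * g) * n⁻¹ by group]; exact hnu)
    refine ⟨⟨(n * g⁻¹)⁻¹, inv_mem hm⟩, ?_⟩
    show (n * g⁻¹)⁻¹ • o h = g • o h
    rw [mul_inv_rev, inv_inv, mul_smul, (mem_stab_o h).2 (inv_mem hn)]
  have hfix' : ∀ Q ∈ orbit T (o h), u ∈ st h Q := by
    rintro _ ⟨⟨t, ht⟩, rfl⟩
    refine ⟨huo, ?_⟩
    show u • t • o h = t • o h
    have : t⁻¹ * u * t ∈ zpowers u := by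
      simpa using ((Subgroup.mem_normalizer_iff.1 (inv_mem ht)) u).1 (mem_zpowers u)
    have h1 : (t⁻¹ * u * t) • o h = o h := (mem_stab_o h).2 (zpowers_le.2 hu this)
    rwa [mul_smul, mul_smul, inv_smul_eq_iff] at h1
  obtain ⟨t, ht, d, hd, hne⟩ := D_moves h F hu h5
  set Q₁ := t • o h with hQ₁
  have hQ₁T : Q₁ ∈ orbit T (o h) := ⟨⟨t, ht⟩, rfl⟩
  have hdQ : d • Q₁ ≠ Q₁ := fun e => hne ((mem_stab_o h).1 (by
    rw [mul_smul, mul_smul, ← hQ₁, e, inv_smul_smul]))
  have hQ₁o : Q₁ ≠ o h := fun e => hdQ (by rw [e]; exact (mem_stab_o h).2 hd.2)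
  have hdQT : d • Q₁ ∈ orbit T (o h) := ⟨⟨d * t, mul_mem hd.1 ht⟩, mul_smul d t (o h)⟩
  have hdo : d • o h = o h := (mem_stab_o h).2 hd.2
  have hdQo : d • Q₁ ≠ o h := fun e => hQ₁o (smul_left_cancel d (e.trans hdo.symm))
  have horb : ({o h, Q₁, d • Q₁} : Set h.Pt) = orbit T (o h) := by
    refine Set.eq_of_subset_of_ncard_le ?_ ?_
    · intro Q hQ
      rcases hQ with rfl | rfl | rfl
      · exact mem_orbit_self _
      · exact hQ₁T
      · exact hdQT
    · rw [hTo, Set.ncard_insert_of_notMem (by simp [hQ₁o.symm, hdQo.symm]),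
        Set.ncard_pair hdQ.symm]
  have hdD : d ∈ D := hd
  have htwo : ∀ Q, Q ≠ o h → u ∈ st h Q → Q = Q₁ ∨ Q = d • Q₁ := fun Q hQo hQ => by
    have := horb.symm.le (hfix Q hQ)
    rcases this with e | e | e
    · exact absurd e hQo
    · exact Or.inl e
    · exact Or.inr e
  have hDorb : ∀ Q, Q ≠ o h → u ∈ st h Q → orbit D Q = {Q₁, d • Q₁} := by
    intro Q hQo hQ
    refine Set.Subset.antisymm ?_ ?_
    · rintro _ ⟨⟨c, hc⟩, rfl⟩
      have hco : c • o h = o h := (mem_stab_o h).2 hc.2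
      refine htwo _ (fun e => hQo (smul_left_cancel c (e.trans hco.symm))) (hfix' _ ?_)
      obtain ⟨⟨s, hs⟩, hse⟩ := hfix Q hQ
      exact ⟨⟨c * s, mul_mem hc.1 hs⟩, (mul_smul c s (o h)).trans (congrArg (c • ·) hse)⟩
    · rcases htwo Q hQo hQ with rfl | rfl
      · rintro a (rfl | rfl)
        · exact mem_orbit_self _
        · exact ⟨⟨d, hdD⟩, rfl⟩
      · rintro a (rfl | rfl)
        · exact ⟨⟨d, hdD⟩⁻¹, inv_smul_smul (⟨d, hdD⟩ : D) Q₁⟩
        · exact mem_orbit_self _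
  refine ⟨⟨Q₁, hQ₁o, hfix' _ hQ₁T⟩, fun Q Q' hQ hQ' hu1 hu2 => ?_, fun Q hQo hQ => ?_⟩
  · have : Q' ∈ orbit D Q := by
      rw [hDorb Q hQ hu1]; exact htwo Q' hQ' hu2
    obtain ⟨c, hc⟩ := this
    exact ⟨c, c.2, hc⟩
  · have := ncard_orbit_mul D Q
    rw [hDorb Q hQo hQ, Set.ncard_pair hdQ.symm, card_D h F hu h5] at this
    omega

theorem exists_five {K : Subgroup G} (h5 : 5 ∣ Nat.card K) : ∃ u ∈ K, orderOf u = 5 := by
  haveI : Fact (Nat.Prime 5) := ⟨by norm_num⟩
  obtain ⟨u, hu⟩ := exists_prime_orderOf_dvd_card' (G := K) 5 h5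
  exact ⟨u, u.2, by rw [Subgroup.orderOf_coe, hu]⟩

/-- One orbit with stabiliser of order divisible by five. -/
theorem five_orbit (F : Facts G) {Q Q' : h.Pt} (hQ : Q ≠ o h) (hQ' : Q' ≠ o h)
    (h5 : 5 ∣ Nat.card (st h Q)) (h5' : 5 ∣ Nat.card (st h Q')) : ∃ n ∈ h.N, n • Q = Q' := by
  haveI : Fact (Nat.Prime 5) := ⟨by norm_num⟩
  obtain ⟨u, hu, hu5⟩ := exists_five h5
  obtain ⟨u', hu', hu5'⟩ := exists_five h5'
  obtain ⟨n, hn, hnu⟩ := sylow_conj h.N ((mem_stab_o h).1 hu.1) ((mem_stab_o h).1 hu'.1) hu5 hu5'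
    (not_dvd_five_sq F)
  have hno : n • o h = o h := (mem_stab_o h).2 hn
  have hord : orderOf (n * u * n⁻¹) = 5 := by
    rw [show n * u * n⁻¹ = MulAut.conj n u by simp, MulEquiv.orderOf_eq, hu5]
  have e : zpowers (n * u * n⁻¹) = zpowers u' := eq_of_le_of_card_ge (zpowers_le.2 hnu)
    (by rw [Nat.card_zpowers, Nat.card_zpowers, hord, hu5'])
  have hfix : u' ∈ st h (n • Q) := by
    refine zpowers_le.2 ?_ (e.symm ▸ mem_zpowers u')
    refine ⟨(mem_stab_o h).2 (mul_mem (mul_mem hn ((mem_stab_o h).1 hu.1)) (inv_mem hn)), ?_⟩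
    show (n * u * n⁻¹) • n • Q = n • Q
    rw [← mul_smul, show n * u * n⁻¹ * n = n * u by group, mul_smul,
      show u • Q = Q from hu.2]
  obtain ⟨-, htr, -⟩ := five_fixed h F ((mem_stab_o h).1 hu'.1) hu5'
  obtain ⟨d, hd, hdQ⟩ := htr (n • Q) Q'
    (fun e => hQ (smul_left_cancel n (e.trans hno.symm))) hQ' hfix hu'
  exact ⟨d * n, mul_mem hd.2 hn, by rw [mul_smul, hdQ]⟩

theorem ncard_orbit_N_mul (Q : h.Pt) :
    (orbit h.N Q).ncard * Nat.card (st h Q) = 40320 := by
  have := ncard_orbit_mul h.N Q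
  rwa [show h.N ⊓ stabilizer G Q = st h Q by rw [st, stab_o], card_N' h] at this

theorem ncard_orbit_N_le (F : Facts G) {Q : h.Pt} (hQ : Q ≠ o h) : (orbit h.N Q).ncard ≤ 252 := by
  have h1 : (orbit h.N Q) ⊆ {o h}ᶜ := by
    rintro _ ⟨⟨n, hn⟩, rfl⟩ e
    exact hQ (smul_left_cancel n (e.trans ((mem_stab_o h).2 hn).symm))
  refine (Set.ncard_le_ncard h1).trans ?_
  rw [Set.ncard_compl, Set.ncard_singleton, card_Pt h F]

theorem R_inf (F : Facts G) {Q : h.Pt} (hQ : Q ≠ o h) (h5 : 5 ∣ Nat.card (st h Q)) :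
    h.R ⊓ stabilizer G Q = ⊥ := by
  haveI : Fact (Nat.Prime 5) := ⟨by norm_num⟩
  obtain ⟨u, hu, hu5⟩ := exists_five h5
  have huN : u ∈ h.N := (mem_stab_o h).1 hu.1
  set W := h.R ⊓ stabilizer G Q with hW
  have hWn : ∀ w ∈ W, ∀ v ∈ st h Q, v * w * v⁻¹ ∈ W := fun w hw v hv =>
    Subgroup.mem_inf.2 ⟨((Subgroup.mem_normalizer_iff.1 ((mem_stab_o h).1 hv.1)) w).1 hw.1,
      mul_mem (mul_mem (Subgroup.mem_inf.1 hv).2 (Subgroup.mem_inf.1 hw).2) (inv_mem (Subgroup.mem_inf.1 hv).2)⟩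
  let σ : Equiv.Perm W :=
    { toFun := fun w => ⟨u * w * u⁻¹, hWn _ w.2 u hu⟩
      invFun := fun w => ⟨u⁻¹ * w * u⁻¹⁻¹, hWn _ w.2 u⁻¹ (inv_mem hu)⟩
      left_inv := fun w => Subtype.ext (by simp [mul_assoc])
      right_inv := fun w => Subtype.ext (by simp [mul_assoc]) }
  have hσ : ∀ (n : ℕ) (w : W), (((σ ^ n) w : W) : G) = u ^ n * w * (u ^ n)⁻¹ := by
    intro n
    induction n with
    | zero => simp
    | succ n ih =>
      intro w
      rw [pow_succ', Equiv.Perm.mul_apply]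
      show u * (((σ ^ n) w : W) : G) * u⁻¹ = _
      rw [ih, pow_succ']
      group
  have hσ5 : σ ^ (5 ^ 1) = 1 := Equiv.ext fun w => Subtype.ext (by
    rw [hσ, pow_one, ← hu5, pow_orderOf_eq_one]; simp)
  classical
  haveI : Fintype W := Fintype.ofFinite _
  have hfix : σ.supportᶜ = {1} := by
    ext w
    simp only [Finset.mem_compl, Equiv.Perm.notMem_support, Finset.mem_singleton]
    constructor
    · intro e
      have : u * (w : G) * u⁻¹ = w := congrArg Subtype.val e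
      exact Subtype.ext (not_order_ten h F hu5 w.2.1 (mul_inv_eq_iff_eq_mul.1 this))
    · rintro rfl
      exact Subtype.ext (by simp [σ])
  have hmod := Equiv.Perm.card_compl_support_modEq hσ5
  rw [hfix, Finset.card_singleton, ← Nat.card_eq_fintype_card] at hmod
  have hdvd : Nat.card W ∣ 16 := h.card_R ▸ Subgroup.card_dvd_of_le inf_le_left
  have hle : Nat.card W ≤ 16 := Nat.le_of_dvd (by norm_num) hdvd
  rw [← Subgroup.card_eq_one]
  by_contra h1
  have h16 : Nat.card W = 16 := by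
    unfold Nat.ModEq at hmod
    revert hdvd hmod h1
    generalize Nat.card W = c at hle ⊢
    interval_cases c <;> norm_num
  have hRle : h.R ≤ stabilizer G Q := by
    have : W = h.R := eq_of_le_of_card_ge inf_le_left (by rw [h16, h.card_R])
    exact this ▸ inf_le_right
  obtain ⟨g, rfl⟩ := exists_smul_o h Q
  refine h.not_le g (fun hg => hQ ((mem_stab_o h).2 hg)) fun r hr => ?_
  have h2 := hRle hr
  rw [stabilizer_smul_eq_stabilizer_map_conj, stab_o] at h2
  rwa [← Subgroup.map_equiv_normalizer_eq]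

/-- the image of the stabiliser of a pair in the alternating group -/
theorem card_st_dvd (F : Facts G) {Q : h.Pt} (hQ : Q ≠ o h) (h5 : 5 ∣ Nat.card (st h Q)) :
    ∃ S : Subgroup (alternatingGroup (Fin 7)), Nat.card S = Nat.card (st h Q) ∧
      (∀ x (hx : x ∈ st h Q), h.π ⟨x, (mem_stab_o h).1 hx.1⟩ ∈ S) ∧
      ∀ s ∈ S, ∃ x, ∃ hx : x ∈ st h Q, h.π ⟨x, (mem_stab_o h).1 hx.1⟩ = s := by
  let f : st h Q →* alternatingGroup (Fin 7) :=
    h.π.comp (Subgroup.inclusion (show st h Q ≤ h.N from fun x hx => (mem_stab_o h).1 hx.1))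
  have hf : Function.Injective f := by
    rw [← MonoidHom.ker_eq_bot_iff, eq_bot_iff]
    intro x hx
    have h1 : Subgroup.inclusion (show st h Q ≤ h.N from fun x hx => (mem_stab_o h).1 hx.1) x ∈
        h.π.ker := hx
    rw [h.π_ker] at h1
    have h1' : (x : G) ∈ h.R := h1
    have h2 : (x : G) ∈ h.R ⊓ stabilizer G Q := ⟨h1', x.2.2⟩
    rw [R_inf h F hQ h5, Subgroup.mem_bot] at h2
    exact Subtype.ext h2
  refine ⟨f.range, (Nat.card_congr (MonoidHom.ofInjective hf).toEquiv).symm,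
    fun x hx => ⟨⟨x, hx⟩, rfl⟩, ?_⟩
  rintro _ ⟨⟨x, hx⟩, rfl⟩
  exact ⟨x, hx, rfl⟩

theorem card_st (F : Facts G) {Q : h.Pt} (hQ : Q ≠ o h) (h5 : 5 ∣ Nat.card (st h Q)) :
    Nat.card (st h Q) = 360 := by
  haveI : Fact (Nat.Prime 5) := ⟨by norm_num⟩
  haveI : Fact (Nat.Prime 7) := ⟨by norm_num⟩
  obtain ⟨S, hS, -, -⟩ := card_st_dvd h F hQ h5
  have hdvd : Nat.card (st h Q) ∣ 2520 := by
    rw [← hS, show (2520 : ℕ) = Nat.card (alternatingGroup (Fin 7)) by
      rw [nat_card_alternatingGroup, Nat.card_eq_fintype_card, Fintype.card_fin]; rfl]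
    exact Subgroup.card_subgroup_dvd_card S
  have h7 : ¬ 7 ∣ Nat.card (st h Q) := fun h7 => by
    obtain ⟨v, hv⟩ := exists_prime_orderOf_dvd_card' (G := st h Q) 7 h7
    exact hQ (fix_eq_o h F v.2 (by rw [Subgroup.orderOf_coe, hv]))
  have horb := ncard_orbit_N_mul h Q
  have hle := ncard_orbit_N_le h F hQ
  have h160 : 160 ≤ Nat.card (st h Q) := by nlinarith
  obtain ⟨u, hu, hu5⟩ := exists_five h5
  obtain ⟨t, ht, htc⟩ := sylow_count (st h Q) hu hu5 (not_dvd_five_sq F)
  have h10 : Nat.card (normalizer (zpowers u : Set G) ⊓ st h Q : Subgroup G) = 10 := by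
    rw [← (five_fixed h F ((mem_stab_o h).1 hu.1) hu5).2.2 Q hQ hu]
    refine Nat.card_congr (MulEquiv.subgroupCongr ?_).toEquiv
    rw [st, stab_o, inf_assoc]
  rw [h10] at htc
  have hdvd' : Nat.card (st h Q) ∣ 360 := by
    have hc : Nat.Coprime (Nat.card (st h Q)) 7 := by
      rw [Nat.coprime_comm, Nat.Prime.coprime_iff_not_dvd (by norm_num)]; exact h7
    exact hc.dvd_of_dvd_mul_right (show Nat.card (st h Q) ∣ 360 * 7 from hdvd)
  obtain ⟨e, he⟩ := hdvd'
  have he2 : e ≤ 2 := by nlinarith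
  interval_cases e <;> omega

/-- The base edge: two points, one flag over each, swapped. -/
structure Base where
  Q : h.Pt
  f : h.Flag
  k : h.Flag
  w : G
  ne : Q ≠ o h
  card : Nat.card (st h Q) = 360
  pt_f : h.pt f = o h
  pt_k : h.pt k = Q
  fix_f : st h Q ≤ stabilizer G f
  fix_k : st h Q ≤ stabilizer G k
  only : ∀ a, h.pt a = o h → st h Q ≤ stabilizer G a → a = f
  swap_f : w • f = k
  swap_k : w • k = f

theorem exists_base (F : Facts G) : Nonempty (Base h) := by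
  haveI : Fact (Nat.Prime 5) := ⟨by norm_num⟩
  obtain ⟨u, hu, hu5⟩ := exists_five (K := h.N) (by rw [card_N' h]; norm_num)
  obtain ⟨⟨Q, hQ, huQ⟩, -, -⟩ := five_fixed h F hu hu5
  have h5 : 5 ∣ Nat.card (st h Q) := hu5 ▸ Subgroup.orderOf_dvd_natCard _ huQ
  have hcard := card_st h F hQ h5
  obtain ⟨S, hS, hS1, hS2⟩ := card_st_dvd h F hQ h5
  obtain ⟨i, hi, hi1⟩ := exists_fixed_label S (hS.trans hcard)
  obtain ⟨n, hn⟩ := exists_lab h i
  set f := (n : G) • fl h with hf
  have hptf : h.pt f = o h := by rw [hf, pt_smul, pt_fl]; exact (mem_stab_o h).2 n.2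
  have hfixf : st h Q ≤ stabilizer G f := fun x hx => by
    rw [mem_stabilizer_iff, hf, fix_flag h ((mem_stab_o h).1 hx.1) n.2, Subtype.coe_eta, hn]
    exact hi _ (hS1 x hx)
  have honly : ∀ a, h.pt a = o h → st h Q ≤ stabilizer G a → a = f := by
    intro a ha hfa
    obtain ⟨m, hm, rfl⟩ := over_o h ha
    refine flag_ext h hm n.2 ?_
    rw [Subtype.coe_eta, hn]
    refine hi1 _ fun s hs => ?_
    obtain ⟨x, hx, rfl⟩ := hS2 s hs
    exact (fix_flag h ((mem_stab_o h).1 hx.1) hm).1 (hfa hx)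
  obtain ⟨g, hg⟩ := exists_smul_o h Q
  set Q' := g⁻¹ • o h with hQ'
  have hQ'o : Q' ≠ o h := fun e => hQ (by
    rw [← hg]; nth_rewrite 1 [← e]; rw [smul_inv_smul])
  have h5' : 5 ∣ Nat.card (st h Q') := by
    rw [st, inf_comm, ← card_pair_smul g, smul_inv_smul, hg]
    exact h5
  obtain ⟨m, hm, hmQ⟩ := five_orbit h F hQ'o hQ h5' h5
  set w := m * g⁻¹ with hw
  have hwo : w • o h = Q := by rw [hw, mul_smul, ← hQ', hmQ]
  have hwQ : w • Q = o h := by
    rw [hw, mul_smul, ← hg, inv_smul_smul]; exact (mem_stab_o h).2 hm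
  have hnorm : ∀ x ∈ st h Q, w⁻¹ * x * w ∈ st h Q := by
    intro x hx
    refine ⟨?_, ?_⟩
    · show (w⁻¹ * x * w) • o h = o h
      rw [mul_smul, mul_smul, hwo, show x • Q = Q from hx.2, ← hwo, inv_smul_smul]
    · show (w⁻¹ * x * w) • Q = Q
      rw [mul_smul, mul_smul, hwQ, show x • o h = o h from hx.1, ← hwQ, inv_smul_smul]
  have hfixk : st h Q ≤ stabilizer G (w • f) := fun x hx => by
    have := hfixf (hnorm x hx)
    rw [mem_stabilizer_iff, mul_smul, mul_smul, inv_smul_eq_iff] at this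
    exact this
  refine ⟨⟨Q, f, w • f, w, hQ, hcard, hptf, ?_, hfixf, hfixk, honly, rfl, ?_⟩⟩
  · rw [pt_smul, hptf, hwo]
  · refine honly _ (by rw [pt_smul, pt_smul, hptf, hwo, hwQ]) fun x hx => ?_
    have := hfixk (hnorm x hx)
    rw [mem_stabilizer_iff, mul_smul, mul_smul, inv_smul_eq_iff] at this
    exact this

variable {h} (B : Base h)

/-- the relation on flags -/
def E (a c : h.Flag) : Prop := ∃ g : G, a = g • B.f ∧ c = g • B.k

theorem E_smul (g : G) {a c : h.Flag} (e : E B a c) : E B (g • a) (g • c) := by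
  obtain ⟨x, rfl, rfl⟩ := e
  exact ⟨g * x, (mul_smul g x _).symm, (mul_smul g x _).symm⟩

theorem E_symm {a c : h.Flag} (e : E B a c) : E B c a := by
  obtain ⟨x, rfl, rfl⟩ := e
  exact ⟨x * B.w, by rw [mul_smul, B.swap_f], by rw [mul_smul, B.swap_k]⟩

theorem stab_fk : stabilizer G B.f ⊓ stabilizer G B.k = st h B.Q := by
  refine le_antisymm (fun x hx => ⟨?_, ?_⟩) (le_inf B.fix_f B.fix_k)
  · show x • o h = o h
    rw [← B.pt_f, ← pt_smul, show x • B.f = B.f from hx.1]
  · show x • B.Q = B.Q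
    rw [← B.pt_k, ← pt_smul, show x • B.k = B.k from hx.2]

theorem card_stab_flag (a : h.Flag) : Nat.card (stabilizer G a) = 5760 := by
  obtain ⟨g, rfl⟩ := exists_smul_eq G (fl h) a
  rw [stabilizer_smul_eq_stabilizer_map_conj, card_map_of_injective (MulAut.conj g).injective,
    stab_fl, card_A]

theorem E_iff_orbit {c : h.Flag} : E B B.f c ↔ c ∈ orbit (stabilizer G B.f) B.k := by
  constructor
  · rintro ⟨g, hg, rfl⟩
    exact ⟨⟨g, hg.symm⟩, rfl⟩
  · rintro ⟨⟨g, hg⟩, rfl⟩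
    exact ⟨g, (show g • B.f = B.f from hg).symm, rfl⟩

theorem card_base_nbrs : {c : h.Flag | E B B.f c}.ncard = 16 := by
  have h1 := ncard_orbit_mul (stabilizer G B.f) B.k
  rw [stab_fk, B.card, card_stab_flag] at h1
  rw [show {c : h.Flag | E B B.f c} = orbit (stabilizer G B.f) B.k from
    Set.ext fun c => E_iff_orbit B]
  omega

theorem R_inf_base (F : Facts G) : h.R ⊓ stabilizer G B.Q = ⊥ :=
  R_inf h F B.ne (by rw [B.card]; norm_num)

theorem R_fix_f {r : G} (hr : r ∈ h.R) : r • B.f = B.f :=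
  (Subgroup.mem_iInf.1 ((mem_ker_o h).2 hr).2) ⟨B.f, B.pt_f⟩

theorem R_smul_inj (F : Facts G) {r r' : G} (hr : r ∈ h.R) (hr' : r' ∈ h.R)
    (e : r • B.k = r' • B.k) : r = r' := by
  have : r'⁻¹ * r ∈ h.R ⊓ stabilizer G B.Q := by
    refine Subgroup.mem_inf.2 ⟨mul_mem (inv_mem hr') hr, ?_⟩
    show (r'⁻¹ * r) • B.Q = B.Q
    rw [← B.pt_k, ← pt_smul, mul_smul, e, inv_smul_smul]
  rw [R_inf_base B F, Subgroup.mem_bot, inv_mul_eq_one] at this
  exact this.symm

theorem nbrs_eq (F : Facts G) : (fun r => r • B.k) '' (h.R : Set G) = {c | E B B.f c} := by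
  refine Set.eq_of_subset_of_ncard_le ?_ ?_
  · rintro _ ⟨r, hr, rfl⟩
    exact ⟨r, (R_fix_f B hr).symm, rfl⟩
  · rw [card_base_nbrs, Set.InjOn.ncard_image fun r hr r' hr' e => R_smul_inj B F hr hr' e,
      ← Nat.card_coe_set_eq]
    exact le_of_eq h.card_R.symm

theorem torsor_base (F : Facts G) {c : h.Flag} (e : E B B.f c) : ∃ r ∈ h.R, r • B.k = c :=
  (nbrs_eq B F).symm.le e

theorem trans_base (F : Facts G) {r r' : G} (hr : r ∈ h.R) (hr' : r' ∈ h.R) (h1 : r ≠ 1)
    (h1' : r' ≠ 1) : ∃ x ∈ st h B.Q, x • r • B.k = r' • B.k := by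
  set K := st h B.Q with hK
  have hconj : ∀ x ∈ K, x * r * x⁻¹ ∈ h.R := fun x hx =>
    ((Subgroup.mem_normalizer_iff.1 ((mem_stab_o h).1 hx.1)) r).1 hr
  have hsm : ∀ x ∈ K, x • r • B.k = (x * r * x⁻¹) • B.k := fun x hx => by
    rw [mul_smul, mul_smul, show x⁻¹ • B.k = B.k from B.fix_k (inv_mem hx)]
  have hsub : orbit K (r • B.k) ⊆ (fun r => r • B.k) '' ((h.R : Set G) \ {1}) := by
    rintro _ ⟨⟨x, hx⟩, rfl⟩
    refine ⟨x * r * x⁻¹, ⟨hconj x hx, fun e => h1 ?_⟩, (hsm x hx).symm⟩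
    have := congrArg (fun z => x⁻¹ * z * x) (Set.mem_singleton_iff.1 e)
    simpa [mul_assoc] using this
  have h15 : ((fun r => r • B.k) '' ((h.R : Set G) \ {1})).ncard ≤ 15 := by
    refine (Set.ncard_image_le).trans ?_
    rw [Set.ncard_sdiff_singleton_of_mem (one_mem h.R), ← Nat.card_coe_set_eq]
    exact le_of_eq (by rw [show Nat.card (h.R : Set G) = 16 from h.card_R])
  have hC : K ⊓ stabilizer G (r • B.k) ≤ centralizer ({r} : Set G) := by
    rintro x ⟨hx, hxr⟩
    have e : (x * r * x⁻¹) • B.k = r • B.k := (hsm x hx).symm.trans hxr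
    rw [mem_centralizer_singleton_iff]
    exact mul_inv_eq_iff_eq_mul.1 (R_smul_inj B F (hconj x hx) hr e)
  have hd1 : Nat.card (K ⊓ stabilizer G (r • B.k) : Subgroup G) ∣ 360 :=
    B.card ▸ Subgroup.card_dvd_of_le inf_le_left
  have hd2 : Nat.card (K ⊓ stabilizer G (r • B.k) : Subgroup G) ∣ 2688 :=
    F.cent2 r (orderOf_eq_prime (by rw [sq]; exact h.elem r hr) h1) ▸
      Subgroup.card_dvd_of_le hC
  have hd : Nat.card (K ⊓ stabilizer G (r • B.k) : Subgroup G) ≤ 24 :=
    Nat.le_of_dvd (by norm_num) (show _ ∣ Nat.gcd 360 2688 from Nat.dvd_gcd hd1 hd2)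
  have horb := ncard_orbit_mul K (r • B.k)
  rw [B.card] at horb
  have heq : orbit K (r • B.k) = (fun r => r • B.k) '' ((h.R : Set G) \ {1}) :=
    Set.eq_of_subset_of_ncard_le hsub (by nlinarith)
  obtain ⟨x, hx⟩ := heq.symm.le ⟨r', ⟨hr', h1'⟩, rfl⟩
  exact ⟨x, x.2, hx⟩

theorem E_pair (g : G) :
    stabilizer G (h.pt (g • B.f)) ⊓ stabilizer G (h.pt (g • B.k)) =
      (st h B.Q).map (MulAut.conj g).toMonoidHom := by
  rw [pt_smul, pt_smul, B.pt_f, B.pt_k, stabilizer_smul_eq_stabilizer_map_conj,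
    stabilizer_smul_eq_stabilizer_map_conj, Subgroup.map_inf _ _ _ (MulAut.conj g).injective]

theorem card_E {a c : h.Flag} (e : E B a c) :
    Nat.card (stabilizer G (h.pt a) ⊓ stabilizer G (h.pt c) : Subgroup G) = 360 := by
  obtain ⟨g, rfl, rfl⟩ := e
  rw [E_pair, card_map_of_injective (MulAut.conj g).injective, B.card]

/-- The pairs that are not far. -/
theorem five_edge (F : Facts G) {P Q : h.Pt} (hPQ : P ≠ Q)
    (h5 : 5 ∣ Nat.card (stabilizer G P ⊓ stabilizer G Q : Subgroup G)) :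
    ∃ a c, h.pt a = P ∧ h.pt c = Q ∧ E B a c := by
  obtain ⟨g, rfl⟩ := exists_smul_o h P
  rw [show Q = g • g⁻¹ • Q from (smul_inv_smul g Q).symm, card_pair_smul] at h5
  obtain ⟨n, hn, hnQ⟩ := five_orbit h F B.ne
    (fun e => hPQ (by rw [← e, smul_inv_smul])) (by rw [B.card]; norm_num) h5
  refine ⟨(g * n) • B.f, (g * n) • B.k, ?_, ?_, g * n, rfl, rfl⟩
  · rw [pt_smul, B.pt_f, mul_smul, (mem_stab_o h).2 hn]
  · rw [pt_smul, B.pt_k, mul_smul, hnQ, smul_inv_smul]

theorem far_iff (F : Facts G) (P Q : h.Pt) : h.Far (E B) P Q ↔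
    P ≠ Q ∧ ¬ 5 ∣ Nat.card (stabilizer G P ⊓ stabilizer G Q : Subgroup G) := by
  refine and_congr_right fun hPQ => ⟨fun hno h5 => ?_, fun hno a c ha hc e => hno ?_⟩
  · obtain ⟨a, c, ha, hc, e⟩ := five_edge B F hPQ h5
    exact hno a c ha hc e
  · rw [← ha, ← hc, card_E B e]; norm_num

theorem card_far_base (F : Facts G) : {Q | h.Far (E B) (o h) Q}.ncard = 140 := by
  have horb := ncard_orbit_N_mul h B.Q
  rw [B.card] at horb
  have heq : {Q | h.Far (E B) (o h) Q} = (insert (o h) (orbit h.N B.Q))ᶜ := by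
    ext Q
    rw [Set.mem_setOf_eq, far_iff B F, Set.mem_compl_iff, Set.mem_insert_iff, not_or, ne_comm]
    refine and_congr_right fun hQ => not_congr ⟨fun h5 => ?_, ?_⟩
    · obtain ⟨n, hn, hnQ⟩ := five_orbit h F B.ne hQ (by rw [B.card]; norm_num) h5
      exact ⟨⟨n, hn⟩, hnQ⟩
    · rintro ⟨⟨n, hn⟩, rfl⟩
      show 5 ∣ Nat.card (stabilizer G (o h) ⊓ stabilizer G (n • B.Q) : Subgroup G)
      rw [← (mem_stab_o h).2 hn, card_pair_smul,
        show (stabilizer G (o h) ⊓ stabilizer G B.Q : Subgroup G) = st h B.Q from rfl, B.card]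
      norm_num
  have hno : o h ∉ orbit h.N B.Q := by
    rintro ⟨⟨n, hn⟩, e⟩
    exact B.ne (smul_left_cancel n (e.trans ((mem_stab_o h).2 hn).symm))
  rw [heq, Set.ncard_compl, Set.ncard_insert_of_notMem hno, card_Pt h F]
  omega

/-- Piece C1a: the orbit of length 112. -/
theorem near : StmtNear.{u} := by
  intro G _ _ F h
  obtain ⟨B⟩ := exists_base h F
  refine ⟨
    { Edge := E B
      smul := fun g _ _ => E_smul B g
      symm := fun _ _ => E_symm B
      pt_ne := ?_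
      card16 := ?_
      inj := ?_
      unique := ?_
      disj := ?_
      torsor := ?_
      fix_edge := ?_
      stab_edge := fun _ _ e => card_E B e
      trans15 := ?_
      fix5 := fun P Q hf => ((far_iff B F P Q).1 hf).2
      fix7 := ?_
      card_far := ?_ }⟩
  · rintro _ _ ⟨g, rfl, rfl⟩
    rw [pt_smul, pt_smul, B.pt_f, B.pt_k]
    exact fun e => B.ne (smul_left_cancel g e).symm
  · intro a
    obtain ⟨g, rfl⟩ := exists_smul_eq G B.f a
    rw [← card_base_nbrs B, ← Nat.card_coe_set_eq]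
    refine Nat.card_congr ((MulAction.toPerm g⁻¹).subtypeEquiv fun c => ?_)
    exact ⟨fun e => by simpa using E_smul B g⁻¹ e, fun e => by simpa using E_smul B g e⟩
  · intro f k k' e e' hpt
    obtain ⟨g, rfl, rfl⟩ := e
    obtain ⟨g', hg', rfl⟩ := e'
    have hx : g⁻¹ * g' ∈ st h B.Q := by
      refine ⟨?_, ?_⟩
      · show (g⁻¹ * g') • o h = o h
        rw [← B.pt_f, ← pt_smul, mul_smul, ← hg', inv_smul_smul]
      · show (g⁻¹ * g') • B.Q = B.Q
        rw [← B.pt_k, mul_smul, ← pt_smul h g', ← hpt, pt_smul, inv_smul_smul]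
    have := B.fix_k hx
    rw [mem_stabilizer_iff, mul_smul, inv_smul_eq_iff] at this
    exact this.symm
  · intro f f' k k' e e' hf hk
    obtain ⟨g, rfl, rfl⟩ := e
    obtain ⟨g', rfl, rfl⟩ := e'
    have hx : g⁻¹ * g' ∈ st h B.Q := by
      refine ⟨?_, ?_⟩
      · show (g⁻¹ * g') • o h = o h
        rw [← B.pt_f, mul_smul, ← pt_smul h g', ← hf, pt_smul, inv_smul_smul]
      · show (g⁻¹ * g') • B.Q = B.Q
        rw [← B.pt_k, mul_smul, ← pt_smul h g', ← hk, pt_smul, inv_smul_smul]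
    have h1 := B.fix_f hx
    have h2 := B.fix_k hx
    rw [mem_stabilizer_iff, mul_smul, inv_smul_eq_iff] at h1 h2
    exact ⟨h1.symm, h2.symm⟩
  · rintro _ _ ⟨g, rfl, rfl⟩
    rw [eq_bot_iff]
    rintro x ⟨hxk, hxQ⟩
    have h1 : g⁻¹ * x * g⁻¹⁻¹ ∈ h.R := by
      rw [← mem_ker_o]
      have := conj_mem_ker h g⁻¹ hxk
      rwa [pt_smul, B.pt_f, inv_smul_smul] at this
    have h2 : g⁻¹ * x * g⁻¹⁻¹ ∈ h.R ⊓ stabilizer G B.Q := by
      refine ⟨h1, ?_⟩
      show (g⁻¹ * x * g⁻¹⁻¹) • B.Q = B.Q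
      rw [inv_inv, mul_smul, mul_smul, inv_smul_eq_iff, ← B.pt_k, ← pt_smul]
      exact hxQ
    rw [R_inf_base B F, Subgroup.mem_bot, conj_eq_one_iff] at h2
    exact Subgroup.mem_bot.2 h2
  · intro f k k' e e'
    obtain ⟨g, rfl, rfl⟩ := e
    obtain ⟨r, hr, hrk⟩ := torsor_base B F (by simpa using E_smul B g⁻¹ e' : E B B.f (g⁻¹ • k'))
    refine ⟨g * r * g⁻¹, ?_, ?_⟩
    · rw [pt_smul, B.pt_f]
      exact conj_mem_ker h g ((mem_ker_o h).2 hr)
    · rw [mul_smul, mul_smul, inv_smul_smul, hrk, smul_inv_smul]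
  · rintro _ _ ⟨g, rfl, rfl⟩ x hx
    rw [E_pair] at hx
    obtain ⟨y, hy, rfl⟩ := hx
    show (g * y * g⁻¹) • g • B.f = g • B.f
    rw [mul_smul, mul_smul, inv_smul_smul, show y • B.f = B.f from B.fix_f hy]
  · intro f k c c' efk ekc ekc' hc hc'
    obtain ⟨g, rfl, rfl⟩ := E_symm B efk
    obtain ⟨r, hr, hrk⟩ := torsor_base B F (by simpa using E_smul B g⁻¹ ekc : E B B.f (g⁻¹ • c))
    obtain ⟨r', hr', hrk'⟩ :=
      torsor_base B F (by simpa using E_smul B g⁻¹ ekc' : E B B.f (g⁻¹ • c'))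
    have h1 : r ≠ 1 := fun e => hc (by
      rw [e, one_smul] at hrk; rw [hrk, smul_inv_smul])
    have h1' : r' ≠ 1 := fun e => hc' (by
      rw [e, one_smul] at hrk'; rw [hrk', smul_inv_smul])
    obtain ⟨x, hx, hxr⟩ := trans_base B F hr hr' h1 h1'
    refine ⟨g * x * g⁻¹, ⟨?_, ?_⟩, ?_⟩
    · show (g * x * g⁻¹) • g • B.k = g • B.k
      rw [mul_smul, mul_smul, inv_smul_smul, show x • B.k = B.k from B.fix_k hx]
    · show (g * x * g⁻¹) • g • B.f = g • B.f
      rw [mul_smul, mul_smul, inv_smul_smul, show x • B.f = B.f from B.fix_f hx]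
    · rw [mul_smul, mul_smul, ← hrk, hxr, hrk', smul_inv_smul]
  · intro P Q hPQ h7
    haveI : Fact (Nat.Prime 7) := ⟨by norm_num⟩
    obtain ⟨g, rfl⟩ := exists_smul_o h P
    rw [show Q = g • g⁻¹ • Q from (smul_inv_smul g Q).symm, card_pair_smul] at h7
    obtain ⟨v, hv⟩ := exists_prime_orderOf_dvd_card' (G := st h (g⁻¹ • Q)) 7 h7
    exact hPQ (by
      rw [← fix_eq_o h F v.2 (by rw [Subgroup.orderOf_coe, hv]), smul_inv_smul])
  · intro P
    obtain ⟨g, rfl⟩ := exists_smul_o h P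
    rw [← card_far_base B F, ← Nat.card_coe_set_eq]
    refine Nat.card_congr ((MulAction.toPerm g⁻¹).subtypeEquiv fun Q => ?_)
    show h.Far (E B) (g • o h) Q ↔ h.Far (E B) (o h) (g⁻¹ • Q)
    rw [far_iff B F, far_iff B F]
    nth_rewrite 1 2 [← smul_inv_smul g Q]
    rw [(MulAction.injective g).ne_iff, card_pair_smul]

end CfsgLib.M23Nse.NearProof
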