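import Cfsg.Agent.Lib.M23Nse.Defs

/-!
# Points and labels

The seven labels of each point and the action of its stabiliser on them.
-/

set_option autoImplicit false

namespace CfsgLib.M23Nse.Heptad

open Subgroup MulAction

universe u

variable {G : Type u} [Group G] (h : Heptad G)

theorem pt_mk (g : G) : h.pt (g : h.Flag) = (g : h.Pt) := rfl

theorem pt_smul (g : G) (f : h.Flag) : h.pt (g • f) = g • h.pt f := by
  induction f using QuotientGroup.induction_on with
  | H a => rfl

/-- The stabiliser of a point acting on the seven labels of the point. -/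
structure Chart (P : h.Pt) where
  ρ : stabilizer G P →* alternatingGroup (Fin 7)
  surj : Function.Surjective ρ
  ker_eq : ρ.ker = (h.ker P).subgroupOf (stabilizer G P)
  lab : Fin 7 → h.Flag
  pt_lab : ∀ i, h.pt (lab i) = P
  inj : Function.Injective lab
  exists_lab : ∀ f, h.pt f = P → ∃ i, lab i = f
  smul_lab : ∀ (x : stabilizer G P) i, (x : G) • lab i = lab ((ρ x : Equiv.Perm (Fin 7)) i)
  fpf : ∀ x : stabilizer G P, Equiv.Perm.IsThreeCycle ((ρ x : Equiv.Perm (Fin 7))) →
    ∀ a ∈ h.ker P, Commute (x : G) a → a = 1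

theorem mem_A_iff (x : normalizer (h.R : Set G)) :
    (x : G) ∈ h.A ↔ (h.π x : Equiv.Perm (Fin 7)) 0 = 0 := by
  constructor
  · intro hx
    obtain ⟨y, hy, hyx⟩ := Subgroup.mem_map.1 hx
    obtain rfl : y = x := Subtype.ext hyx
    exact hy
  · intro hx
    exact Subgroup.mem_map.2 ⟨x, hx, rfl⟩

theorem exists_pi (i : Fin 7) :
    ∃ x : normalizer (h.R : Set G), (h.π x : Equiv.Perm (Fin 7)) 0 = i := by
  obtain ⟨σ, hσ⟩ : ∃ σ : alternatingGroup (Fin 7), (σ : Equiv.Perm (Fin 7)) 0 = i := by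
    fin_cases i
    · exact ⟨1, rfl⟩
    · exact ⟨⟨Equiv.swap 0 1 * Equiv.swap 5 6, Equiv.Perm.mem_alternatingGroup.2 (by decide)⟩,
        by decide⟩
    · exact ⟨⟨Equiv.swap 0 2 * Equiv.swap 5 6, Equiv.Perm.mem_alternatingGroup.2 (by decide)⟩,
        by decide⟩
    · exact ⟨⟨Equiv.swap 0 3 * Equiv.swap 5 6, Equiv.Perm.mem_alternatingGroup.2 (by decide)⟩,
        by decide⟩
    · exact ⟨⟨Equiv.swap 0 4 * Equiv.swap 5 6, Equiv.Perm.mem_alternatingGroup.2 (by decide)⟩,
        by decide⟩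
    · exact ⟨⟨Equiv.swap 0 5 * Equiv.swap 1 2, Equiv.Perm.mem_alternatingGroup.2 (by decide)⟩,
        by decide⟩
    · exact ⟨⟨Equiv.swap 0 6 * Equiv.swap 1 2, Equiv.Perm.mem_alternatingGroup.2 (by decide)⟩,
        by decide⟩
  obtain ⟨x, hx⟩ := h.π_surj σ
  exact ⟨x, by rw [hx]; exact hσ⟩

/-- the element of the base point stabiliser moving the first label to a given one -/
noncomputable def rep (i : Fin 7) : normalizer (h.R : Set G) := (h.exists_pi i).choose

theorem rep_spec (i : Fin 7) : (h.π (h.rep i) : Equiv.Perm (Fin 7)) 0 = i :=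
  (h.exists_pi i).choose_spec

/-- a label of the base point -/
noncomputable def lab0 (i : Fin 7) : h.Flag := ((h.rep i : G) : h.Flag)

theorem mk_eq_mk_iff (x y : normalizer (h.R : Set G)) :
    ((x : G) : h.Flag) = ((y : G) : h.Flag) ↔
      (h.π x : Equiv.Perm (Fin 7)) 0 = (h.π y : Equiv.Perm (Fin 7)) 0 := by
  rw [QuotientGroup.eq, ← Subgroup.coe_inv, ← Subgroup.coe_mul, h.mem_A_iff, map_mul, map_inv,
    Subgroup.coe_mul, Subgroup.coe_inv, Equiv.Perm.mul_apply, Equiv.Perm.inv_eq_iff_eq]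
  exact eq_comm

theorem pt_eq_base_iff (g : G) : (g : h.Pt) = ((1 : G) : h.Pt) ↔ g ∈ normalizer (h.R : Set G) := by
  rw [QuotientGroup.eq, mul_one, inv_mem_iff]
  rfl

theorem stab_base : stabilizer G ((1 : G) : h.Pt) = normalizer (h.R : Set G) := by
  ext g
  rw [mem_stabilizer_iff]
  show ((g * 1 : G) : h.Pt) = _ ↔ _
  rw [mul_one, h.pt_eq_base_iff]

theorem pt_lab0 (i : Fin 7) : h.pt (h.lab0 i) = ((1 : G) : h.Pt) :=
  (h.pt_eq_base_iff _).2 (h.rep i).2

theorem smul_lab0 (x : normalizer (h.R : Set G)) (i : Fin 7) :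
    (x : G) • h.lab0 i = h.lab0 ((h.π x : Equiv.Perm (Fin 7)) i) := by
  show (((x * h.rep i : normalizer (h.R : Set G)) : G) : h.Flag) = _
  rw [lab0, h.mk_eq_mk_iff, map_mul, Subgroup.coe_mul, Equiv.Perm.mul_apply, h.rep_spec,
    h.rep_spec]

theorem lab0_injective : Function.Injective h.lab0 := by
  intro i j e
  rwa [lab0, lab0, h.mk_eq_mk_iff, h.rep_spec, h.rep_spec] at e

theorem exists_lab0 (f : h.Flag) (hf : h.pt f = ((1 : G) : h.Pt)) : ∃ i, h.lab0 i = f := by
  induction f using QuotientGroup.induction_on with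
  | H a =>
    refine ⟨(h.π ⟨a, (h.pt_eq_base_iff a).1 hf⟩ : Equiv.Perm (Fin 7)) 0, ?_⟩
    exact (h.mk_eq_mk_iff _ ⟨a, (h.pt_eq_base_iff a).1 hf⟩).2 (h.rep_spec _)

theorem ker_base : h.ker ((1 : G) : h.Pt) = h.R := by
  ext g
  simp only [ker, Subgroup.mem_inf, Subgroup.mem_iInf, h.stab_base, mem_stabilizer_iff]
  constructor
  · rintro ⟨hg, hfix⟩
    have h1 : h.π ⟨g, hg⟩ = 1 := by
      ext i
      simp only [Subgroup.coe_one, Equiv.Perm.one_apply]
      exact congrArg Fin.val (h.lab0_injective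
        ((h.smul_lab0 ⟨g, hg⟩ i).symm.trans (hfix ⟨h.lab0 i, h.pt_lab0 i⟩)))
    have h2 : (⟨g, hg⟩ : normalizer (h.R : Set G)) ∈ h.π.ker := h1
    rwa [h.π_ker] at h2
  · intro hg
    have hgN : g ∈ normalizer (h.R : Set G) := Subgroup.le_normalizer hg
    refine ⟨hgN, fun f => ?_⟩
    obtain ⟨i, hi⟩ := h.exists_lab0 f.1 f.2
    have h1 : h.π ⟨g, hgN⟩ = 1 := by
      rw [← MonoidHom.mem_ker, h.π_ker]
      exact hg
    rw [← hi]
    have h2 := h.smul_lab0 ⟨g, hgN⟩ i
    rwa [h1, Subgroup.coe_one, Equiv.Perm.one_apply] at h2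

theorem mem_ker_smul (g x : G) (P : h.Pt) (hx : x ∈ h.ker P) :
    g * x * g⁻¹ ∈ h.ker (g • P) := by
  simp only [ker, Subgroup.mem_inf, Subgroup.mem_iInf, mem_stabilizer_iff] at hx ⊢
  refine ⟨by simp [mul_smul, hx.1], fun f => ?_⟩
  have hf : h.pt (g⁻¹ • f.1) = P := by rw [h.pt_smul, f.2, inv_smul_smul]
  rw [mul_smul, mul_smul, hx.2 ⟨_, hf⟩, smul_inv_smul]

theorem ker_smul (g : G) (P : h.Pt) :
    h.ker (g • P) = (h.ker P).map (MulAut.conj g).toMonoidHom := by
  ext x
  rw [Subgroup.mem_map]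
  constructor
  · intro hx
    have := h.mem_ker_smul g⁻¹ x (g • P) hx
    rw [inv_smul_smul] at this
    exact ⟨_, this, by simp [MulAut.conj_apply, mul_assoc]⟩
  · rintro ⟨y, hy, rfl⟩
    simpa [MulAut.conj_apply] using h.mem_ker_smul g y P hy

theorem exists_smul_base (P : h.Pt) : ∃ g : G, g • ((1 : G) : h.Pt) = P := by
  induction P using QuotientGroup.induction_on with
  | H a => exact ⟨a, by show ((a * 1 : G) : h.Pt) = _; rw [mul_one]⟩

theorem exists_smul_flag (f : h.Flag) : ∃ g : G, g • ((1 : G) : h.Flag) = f := by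
  induction f using QuotientGroup.induction_on with
  | H a => exact ⟨a, by show ((a * 1 : G) : h.Flag) = _; rw [mul_one]⟩

/-- every point has a chart -/
theorem exists_chart (P : h.Pt) : Nonempty (h.Chart P) := by
  obtain ⟨g, rfl⟩ := h.exists_smul_base P
  have hmem : ∀ x : stabilizer G (g • ((1 : G) : h.Pt)),
      g⁻¹ * x * g ∈ normalizer (h.R : Set G) := fun x => by
    rw [← h.stab_base, mem_stabilizer_iff, mul_smul, mul_smul, mem_stabilizer_iff.1 x.2,
      inv_smul_smul]
  let c : stabilizer G (g • ((1 : G) : h.Pt)) →* normalizer (h.R : Set G) :=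
    { toFun := fun x => ⟨g⁻¹ * x * g, hmem x⟩
      map_one' := by ext; simp
      map_mul' := fun x y => Subtype.ext
        (show g⁻¹ * ((x : G) * (y : G)) * g = g⁻¹ * (x : G) * g * (g⁻¹ * (y : G) * g) by group) }
  have hc : ∀ x : stabilizer G (g • ((1 : G) : h.Pt)), (x : G) * g = g * (c x : G) := fun x => by
    show (x : G) * g = g * (g⁻¹ * (x : G) * g)
    group
  refine ⟨⟨h.π.comp c, ?_, ?_, fun i => g • h.lab0 i, ?_, ?_, ?_, ?_, ?_⟩⟩
  · intro σ
    obtain ⟨y, rfl⟩ := h.π_surj σ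
    refine ⟨⟨g * y * g⁻¹, ?_⟩, ?_⟩
    · rw [mem_stabilizer_iff, mul_smul, mul_smul, inv_smul_smul]
      have : (y : G) ∈ stabilizer G ((1 : G) : h.Pt) := by rw [h.stab_base]; exact y.2
      rw [mem_stabilizer_iff.1 this]
    · refine congrArg h.π (Subtype.ext ?_)
      show g⁻¹ * (g * (y : G) * g⁻¹) * g = (y : G)
      group
  · ext x
    rw [MonoidHom.mem_ker, MonoidHom.comp_apply, ← MonoidHom.mem_ker, h.π_ker, mem_subgroupOf,
      mem_subgroupOf, h.ker_smul, h.ker_base, Subgroup.mem_map]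
    constructor
    · intro hx
      refine ⟨_, hx, ?_⟩
      show g * (g⁻¹ * (x : G) * g) * g⁻¹ = (x : G)
      group
    · rintro ⟨y, hy, hyx⟩
      have : (c x : G) = y := by
        show g⁻¹ * (x : G) * g = y
        rw [← hyx]; simp [MulAut.conj_apply, mul_assoc]
      rwa [this]
  · intro i
    rw [h.pt_smul, h.pt_lab0]
  · exact fun i j e => h.lab0_injective (MulAction.injective g e)
  · intro f hf
    obtain ⟨i, hi⟩ := h.exists_lab0 (g⁻¹ • f) (by rw [h.pt_smul, hf, inv_smul_smul])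
    exact ⟨i, by rw [hi, smul_inv_smul]⟩
  · intro x i
    rw [smul_smul, hc, mul_smul, h.smul_lab0]
    rfl
  · intro x hx a ha hxa
    rw [h.ker_smul, h.ker_base, Subgroup.mem_map] at ha
    obtain ⟨b, hb, rfl⟩ := ha
    have hb1 : b = 1 := by
      refine h.fpf3 (c x) hx b hb ?_
      have e : (x : G) * (g * b * g⁻¹) = g * b * g⁻¹ * x := by
        simpa [MulAut.conj_apply] using hxa.eq
      show g⁻¹ * (x : G) * g * b = b * (g⁻¹ * x * g)
      calc g⁻¹ * (x : G) * g * b = g⁻¹ * (x * (g * b * g⁻¹)) * g := by group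
        _ = g⁻¹ * (g * b * g⁻¹ * x) * g := by rw [e]
        _ = b * (g⁻¹ * x * g) := by group
    simp [hb1]

/-- a chart of a point -/
noncomputable def chart (P : h.Pt) : h.Chart P := (h.exists_chart P).some

theorem ker_le_stab (P : h.Pt) : h.ker P ≤ stabilizer G P := inf_le_left

theorem ker_le_stab_flag (f : h.Flag) : h.ker (h.pt f) ≤ stabilizer G f :=
  inf_le_right.trans (iInf_le (fun k : {k // h.pt k = h.pt f} => stabilizer G k.1) ⟨f, rfl⟩)

theorem stab_flag_le (f : h.Flag) : stabilizer G f ≤ stabilizer G (h.pt f) := fun g hg => by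
  rw [mem_stabilizer_iff] at hg ⊢
  rw [← h.pt_smul, hg]

theorem conj_mem_ker {P : h.Pt} {g x : G} (hg : g ∈ stabilizer G P) (hx : x ∈ h.ker P) :
    g * x * g⁻¹ ∈ h.ker P := by
  have := h.mem_ker_smul g x P hx
  rwa [mem_stabilizer_iff.1 hg] at this

theorem card_ker (P : h.Pt) : Nat.card (h.ker P) = 16 := by
  obtain ⟨g, rfl⟩ := h.exists_smul_base P
  rw [h.ker_smul, h.ker_base, Subgroup.card_map_of_injective (MulEquiv.injective _)]
  exact h.card_R

theorem sq_ker {P : h.Pt} {a : G} (ha : a ∈ h.ker P) : a * a = 1 := by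
  obtain ⟨g, rfl⟩ := h.exists_smul_base P
  rw [h.ker_smul, h.ker_base, Subgroup.mem_map] at ha
  obtain ⟨b, hb, rfl⟩ := ha
  rw [← map_mul, h.elem b hb, map_one]

theorem comm_ker {P : h.Pt} {a b : G} (ha : a ∈ h.ker P) (hb : b ∈ h.ker P) :
    a * b = b * a := by
  have ha' := h.sq_ker ha
  have hb' := h.sq_ker hb
  have hab := h.sq_ker (mul_mem ha hb)
  rw [← inv_eq_of_mul_eq_one_right hab, mul_inv_rev, inv_eq_of_mul_eq_one_right ha',
    inv_eq_of_mul_eq_one_right hb']

theorem card_fibre (P : h.Pt) : Nat.card {f : h.Flag // h.pt f = P} = 7 := by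
  let c := h.chart P
  rw [← Nat.card_congr (Equiv.ofBijective
    (fun i : Fin 7 => (⟨c.lab i, c.pt_lab i⟩ : {f : h.Flag // h.pt f = P}))
    ⟨fun i j e => c.inj (congrArg Subtype.val e), fun f => by
      obtain ⟨i, hi⟩ := c.exists_lab f.1 f.2
      exact ⟨i, Subtype.ext hi⟩⟩), Nat.card_fin]

theorem card_stab_pt (P : h.Pt) : Nat.card (stabilizer G P) = 40320 := by
  obtain ⟨g, rfl⟩ := h.exists_smul_base P
  rw [stabilizer_smul_eq_stabilizer_map_conj, Subgroup.card_map_of_injective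
    (MulEquiv.injective _), h.stab_base]
  exact h.card_N

theorem card_pt [Finite G] (hG : Nat.card G = 10200960) : Nat.card h.Pt = 253 := by
  have e := Subgroup.card_eq_card_quotient_mul_card_subgroup h.N
  rw [hG, show Nat.card h.N = 40320 from h.card_N] at e
  show Nat.card (G ⧸ h.N) = 253
  omega

theorem card_flag [Finite G] (hG : Nat.card G = 10200960) : Nat.card h.Flag = 1771 := by
  have _hI := Fintype.ofFinite h.Pt
  rw [← Nat.card_congr (Equiv.sigmaFiberEquiv h.pt), Nat.card_sigma]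
  simp only [h.card_fibre, Finset.sum_const, Finset.card_univ, ← Nat.card_eq_fintype_card,
    h.card_pt hG, smul_eq_mul]

theorem card_stab_flag [Finite G] (hG : Nat.card G = 10200960) (f : h.Flag) :
    Nat.card (stabilizer G f) = 5760 := by
  have e := Nat.card_congr (MulAction.orbitEquivQuotientStabilizer G f)
  have e' := Subgroup.card_eq_card_quotient_mul_card_subgroup (stabilizer G f)
  have ho : MulAction.orbit G f = Set.univ := MulAction.orbit_eq_univ G f
  rw [ho, Nat.card_univ, h.card_flag hG] at e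
  rw [hG, ← e] at e'
  omega

theorem card_compl_two : ∀ i j : Fin 7, i ≠ j →
    Fintype.card {x : Fin 7 // x ≠ i ∧ x ≠ j} = 5 := by decide

/-- the stabiliser of two labels in the alternating group on seven labels -/
theorem card_stab_two_dvd (i j : Fin 7) (hij : i ≠ j) :
    Nat.card (stabilizer (alternatingGroup (Fin 7)) i ⊓
      stabilizer (alternatingGroup (Fin 7)) j : Subgroup (alternatingGroup (Fin 7))) ∣ 60 := by
  set S := stabilizer (alternatingGroup (Fin 7)) i ⊓ stabilizer (alternatingGroup (Fin 7)) j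
    with hS
  let p : Fin 7 → Prop := fun x => x ≠ i ∧ x ≠ j
  have hfix : ∀ σ : S, (σ.1 : Equiv.Perm (Fin 7)) i = i ∧ (σ.1 : Equiv.Perm (Fin 7)) j = j :=
    fun σ => ⟨mem_stabilizer_iff.1 σ.2.1, mem_stabilizer_iff.1 σ.2.2⟩
  have hp : ∀ (σ : S) x, p ((σ.1 : Equiv.Perm (Fin 7)) x) ↔ p x := fun σ x => by
    constructor
    · exact fun hx => ⟨fun e => hx.1 (by rw [e]; exact (hfix σ).1),
        fun e => hx.2 (by rw [e]; exact (hfix σ).2)⟩
    · exact fun hx => ⟨fun e => hx.1 ((σ.1 : Equiv.Perm (Fin 7)).injective (e.trans (hfix σ).1.symm)),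
        fun e => hx.2 ((σ.1 : Equiv.Perm (Fin 7)).injective (e.trans (hfix σ).2.symm))⟩
  let φ : S →* alternatingGroup {x // p x} :=
    { toFun := fun σ => ⟨(σ.1 : Equiv.Perm (Fin 7)).subtypePerm (hp σ),
        Equiv.Perm.mem_alternatingGroup.2 (by
          rw [Equiv.Perm.sign_subtypePerm]
          · exact Equiv.Perm.mem_alternatingGroup.1 σ.1.2
          · intro x hx
            exact ⟨fun e => hx (by rw [e]; exact (hfix σ).1),
              fun e => hx (by rw [e]; exact (hfix σ).2)⟩)⟩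
      map_one' := by ext; simp
      map_mul' := fun σ τ => by ext x; rfl }
  have hφ : Function.Injective φ := by
    intro σ τ e
    apply Subtype.ext; apply Subtype.ext
    ext x
    by_cases hx : p x
    · exact congrArg (fun q : alternatingGroup {x // p x} =>
        ((q : Equiv.Perm {x // p x}) ⟨x, hx⟩).1.val) e
    · rcases not_and_or.1 hx with hx | hx <;> rw [not_not] at hx <;> subst hx
      · rw [(hfix σ).1, (hfix τ).1]
      · rw [(hfix σ).2, (hfix τ).2]
  refine (Subgroup.card_dvd_of_injective φ hφ).trans (dvd_of_eq ?_)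
  have h5 : Nat.card {x // p x} = 5 := by
    rw [Nat.card_eq_fintype_card]
    exact card_compl_two i j hij
  have _hI : Nontrivial {x // p x} := by
    rw [← Finite.one_lt_card_iff_nontrivial]; omega
  rw [Nat.card_eq_fintype_card, card_alternatingGroup, ← Nat.card_eq_fintype_card, h5]
  rfl

/-- a subgroup meeting the kernel trivially and fixing two labels of a point has order dividing
sixty -/
theorem card_dvd_two_labels [Finite G] {f f' : h.Flag} (hne : f ≠ f') (hpt : h.pt f' = h.pt f)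
    {Q : Subgroup G} (hQ : Q ≤ stabilizer G f ⊓ stabilizer G f')
    (hd : Q ⊓ h.ker (h.pt f) = ⊥) : Nat.card Q ∣ 60 := by
  let c := h.chart (h.pt f)
  obtain ⟨i, hi⟩ := c.exists_lab f rfl
  obtain ⟨j, hj⟩ := c.exists_lab f' hpt
  have hij : i ≠ j := fun e => hne (by rw [← hi, ← hj, e])
  have hle : Q ≤ stabilizer G (h.pt f) := fun x hx => h.stab_flag_le f (hQ hx).1
  let ψ : Q →* alternatingGroup (Fin 7) := c.ρ.comp (Subgroup.inclusion hle)
  have hψ : Function.Injective ψ := by
    rw [← MonoidHom.ker_eq_bot_iff, Subgroup.eq_bot_iff_forall]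
    intro x hx
    have h1 : Subgroup.inclusion hle x ∈ c.ρ.ker := hx
    rw [c.ker_eq, mem_subgroupOf] at h1
    have h2 : (x : G) ∈ Q ⊓ h.ker (h.pt f) := ⟨x.2, h1⟩
    rw [hd, Subgroup.mem_bot] at h2
    exact Subtype.ext h2
  have hr : ψ.range ≤ stabilizer (alternatingGroup (Fin 7)) i ⊓
      stabilizer (alternatingGroup (Fin 7)) j := by
    rintro _ ⟨x, rfl⟩
    have k : ∀ {l : Fin 7}, (x : G) • c.lab l = c.lab l →
        ψ x ∈ stabilizer (alternatingGroup (Fin 7)) l := fun {l} e => by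
      rw [mem_stabilizer_iff]
      exact c.inj ((c.smul_lab (Subgroup.inclusion hle x) l).symm.trans e)
    exact ⟨k (by rw [hi]; exact (hQ x.2).1), k (by rw [hj]; exact (hQ x.2).2)⟩
  rw [Nat.card_congr (MonoidHom.ofInjective hψ).toEquiv]
  refine (Subgroup.card_dvd_of_le hr).trans ?_
  exact card_stab_two_dvd i j hij

end CfsgLib.M23Nse.Heptad
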