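import Cfsg.Agent.Lib.M23Nse.Classes

/-!
# The Steiner system
-/

set_option autoImplicit false

namespace CfsgLib.M23Nse

open Subgroup MulAction

universe u

/-- The components of flags are the points of a Steiner system. -/
theorem steiner : StmtSteiner.{u} := by
  intro G _ _ hF h n ff
  refine n.exists_steiner ff h.card_ker ?_ hF h.card_fibre
  intro a b hab hne X hX hXa hXb hbot
  have h60 := h.card_dvd_two_labels hne hab.symm (le_inf hXa hXb) hbot
  rw [hX] at h60
  norm_num at h60

end CfsgLib.M23Nse
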