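import Cfsg.Agent.Lib.M23Nse.Closure

/-!
# A third step from a flag leads back

A neighbour of the end of a two-step path from a flag is again at most two steps from it.
-/

set_option autoImplicit false
set_option linter.unusedSectionVars false
set_option linter.style.haveILetI false

namespace CfsgLib.M23Nse

open Subgroup MulAction

universe u

variable {G : Type u} [Group G]

namespace Heptad

/-- No group of order 8 fixing two labels of a point meets the group fixing all labels trivially. -/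
def NoEight (h : Heptad G) : Prop :=
  ∀ a b : h.Flag, h.pt a = h.pt b → a ≠ b → ∀ X : Subgroup G, Nat.card X = 8 →
    X ≤ stabilizer G a → X ≤ stabilizer G b → X ⊓ h.ker (h.pt a) ≠ ⊥

end Heptad

namespace Near

variable {h : Heptad G} (n : Near h) [Finite G] (ff : FarFacts n)
include ff

/-- The group of order 8 fixing a flag, the point of an end, and one further neighbour. -/
theorem third_step (hker : ∀ P, Nat.card (h.ker P) = 16) (h8 : h.NoEight)
    {f k c d : h.Flag} (h1 : n.Edge f k) (h2 : n.Edge k c) (hc : c ≠ f) (hd : n.Edge c d) :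
    n.InComp f d := by
  classical
  by_cases hfd : n.Edge f d
  · exact Or.inr (Or.inl hfd)
  have hfar := ff.two_far f k c h1 h2 hc
  have hQP : h.Two n.Edge c (h.pt f) := ⟨k, f, n.symm _ _ h2, n.symm _ _ h1, rfl⟩
  have hPQ : h.Two n.Edge f (h.pt c) := ⟨k, c, h1, h2, rfl⟩
  let S : Subgroup G := stabilizer G f ⊓ stabilizer G (h.pt c)
  have hS : ∀ g ∈ S, g • f = f ∧ g • h.pt c = h.pt c ∧ g • c = c ∧ g • h.pt f = h.pt f :=
    fun g hg => ⟨hg.1, hg.2, n.path_fix ff h1 h2 hc hg.1 hg.2,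
      by rw [← h.pt_smul, (show g • f = f from hg.1)]⟩
  let U : Subgroup G := h.ker (h.pt c) ⊓ stabilizer G (h.pt f)
  have hUS : U ≤ S := fun u hu =>
    ⟨ff.ker_fix f (h.pt c) hfar hPQ hu, (Heptad.mem_ker_iff.1 hu.1).1⟩
  let O : Set h.Flag := {e | n.Edge c e ∧ ¬ n.Edge f e}
  have hO : Nat.card O = 12 := by
    have h16 : Set.ncard {e | n.Edge c e} = 16 := n.card16 c
    have h4 : Set.ncard {e | n.Edge f e ∧ n.Edge e c} = 4 :=
      n.card_middles ff ⟨k, h1, h2, hc⟩
    rw [Nat.card_coe_set_eq, show O = {e | n.Edge c e} \ {e | n.Edge f e ∧ n.Edge e c} from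
        Set.ext fun e => ⟨fun he => ⟨he.1, fun h' => he.2 h'.1⟩,
          fun he => ⟨he.1, fun h' => he.2 ⟨h', n.symm _ _ he.1⟩⟩⟩,
      Set.ncard_sdiff (show {e | n.Edge f e ∧ n.Edge e c} ⊆ {e | n.Edge c e} from
        fun e he => n.symm _ _ he.2), h16, h4]
  have h96 : Nat.card S = 96 := ff.stab_in f (h.pt c) hfar hPQ
  haveI : Fact (Nat.Prime 3) := ⟨Nat.prime_three⟩
  obtain ⟨x, hx⟩ := exists_prime_orderOf_dvd_card' (G := S) 3 (by rw [h96]; decide)
  have hxS := x.2
  rw [← orderOf_coe] at hx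
  generalize (x : G) = x at hx hxS
  have horb : orbit S d = O := by
    have hsub : orbit S d ⊆ O := by
      rintro _ ⟨g, rfl⟩
      refine ⟨(hS _ g.2).2.2.1 ▸ n.smul (g : G) c d hd, fun e => hfd ?_⟩
      have e' := n.smul (g : G)⁻¹ f _ e
      rwa [inv_smul_eq_iff.2 (hS _ g.2).1.symm,
        show (g : G)⁻¹ • (fun m : S => m • d) g = d from inv_smul_smul (g : G) d] at e'
    let F : U × Fin 3 → orbit S d := fun p =>
      ⟨((p.1 : G) * x ^ (p.2 : ℕ)) • d, ⟨⟨_, S.mul_mem (hUS p.1.2) (pow_mem hxS _)⟩, rfl⟩⟩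
    have hF : Function.Injective F := by
      rintro ⟨u, i⟩ ⟨v, j⟩ e
      have e' : ((u : G) * x ^ (i : ℕ)) • d = ((v : G) * x ^ (j : ℕ)) • d :=
        congrArg Subtype.val e
      obtain ⟨l, hl, hlt⟩ : ∃ l : ℕ, x ^ (i : ℕ) * x ^ l = x ^ (j : ℕ) ∧ (l = 0 → i = j) ∧ l < 3 := by
        refine ⟨((j : ℕ) + 3 - i) % 3, ?_, fun h0 => ?_, Nat.mod_lt _ (by norm_num)⟩
        · rw [← pow_add, pow_eq_pow_iff_modEq, hx, Nat.ModEq]
          omega
        · apply Fin.ext; omega
      let w : G := (x ^ (i : ℕ))⁻¹ * ((v : G)⁻¹ * u) * x ^ (i : ℕ)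
      have hxi := pow_mem hxS (i : ℕ)
      have hwU : w ∈ U := by
        have hm := U.mul_mem (U.inv_mem v.2) u.2
        refine ⟨?_, ?_⟩
        · have := Heptad.conj_mem_ker' (g := (x ^ (i : ℕ))⁻¹)
            (inv_smul_eq_iff.2 (hS _ hxi).2.1.symm) hm.1
          rwa [inv_inv] at this
        · show w • h.pt f = h.pt f
          rw [mul_smul, mul_smul, (hS _ hxi).2.2.2, (show _ • h.pt f = h.pt f from hm.2),
            inv_smul_eq_iff, (hS _ hxi).2.2.2]
      have hw : w • d = x ^ l • d := by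
        rw [mul_smul, mul_smul, inv_smul_eq_iff, ← mul_smul (x ^ (i : ℕ)), hl, mul_smul,
          inv_smul_eq_iff, ← mul_smul, ← mul_smul, e']
      by_cases h0 : l = 0
      · obtain rfl := hlt.1 h0
        subst h0
        rw [pow_zero, one_smul] at hw
        have hw1 := n.disj_one hd hwU.1 (by rw [← h.pt_smul, hw])
        have : (v : G)⁻¹ * u = 1 := by
          simp only [w, mul_assoc, inv_mul_eq_one] at hw1
          exact mul_right_cancel (b := x ^ (i : ℕ)) (by rw [one_mul, mul_assoc, ← hw1])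
        exact Prod.ext (Subtype.ext (inv_mul_eq_one.1 this).symm) rfl
      · have hxl := pow_mem hxS l
        refine absurd hw.symm (n.cube_moves ff h1 h2 hc hd hfd (hS _ hxl).1 (hS _ hxl).2.1 ?_
          hwU.1 hwU.2)
        rw [orderOf_pow, hx]
        have := hlt.2
        interval_cases l <;> simp at h0 ⊢
    refine Set.eq_of_subset_of_ncard_le hsub ?_ (Set.toFinite _)
    rw [← Nat.card_coe_set_eq, hO, ← Nat.card_coe_set_eq]
    refine le_trans ?_ (Nat.card_le_card_of_injective F hF)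
    rw [Nat.card_prod, show Nat.card U = 4 from ff.ker_card _ _ (n.far_symm hfar), Nat.card_fin]
  let X : Subgroup G := (stabilizer S d).map S.subtype
  have hX : ∀ g ∈ X, g ∈ S ∧ g • d = d := by
    rintro _ ⟨g, hg, rfl⟩
    exact ⟨g.2, hg⟩
  have hX8 : Nat.card X = 8 := by
    rw [Subgroup.card_subtype]
    have := Nat.card_congr (orbitEquivQuotientStabilizer S d)
    rw [Nat.card_coe_set_eq, horb, ← Nat.card_coe_set_eq, hO] at this
    have h' := Subgroup.card_eq_card_quotient_mul_card_subgroup (stabilizer S d)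
    rw [h96, ← this] at h'
    omega
  have hdQ := n.pt_ne _ _ hd
  have hPD : h.pt f ≠ h.pt d := fun e => hfar.2 d c e.symm rfl (n.symm _ _ hd)
  by_cases hab : ∃ a b, h.pt a = h.pt f ∧ h.pt b = h.pt d ∧ n.Edge a b
  · exfalso
    obtain ⟨a, b, ha, hb, he⟩ := hab
    have hfix : ∀ g ∈ X, g • a = a ∧ g • b = b := fun g hg => by
      have hP : g • h.pt a = h.pt a := by rw [ha]; exact (hS g (hX g hg).1).2.2.2
      have hD : g • h.pt b = h.pt b := by rw [hb, ← h.pt_smul, (hX g hg).2]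
      exact ⟨n.fix_edge a b he ⟨hP, hD⟩, n.fix_edge b a (n.symm _ _ he) ⟨hD, hP⟩⟩
    by_cases haf : a = f
    · subst haf
      have hbd : b ≠ d := fun e => hfd (e ▸ he)
      refine h8 b d hb hbd X hX8 (fun g hg => (hfix g hg).2) (fun g hg => (hX g hg).2) ?_
      rw [eq_bot_iff]
      intro g hg
      exact n.disj_one (n.symm _ _ he) hg.2 (hS g (hX g hg.1).1).2.2.2
    · refine h8 a f ha haf X hX8 (fun g hg => (hfix g hg).1)
        (fun g hg => (hS g (hX g hg).1).1) ?_
      rw [eq_bot_iff]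
      intro g hg
      exact n.disj_one he hg.2 (by rw [← h.pt_smul, (hfix g hg.1).2])
  have hfarD : h.Far n.Edge (h.pt f) (h.pt d) :=
    ⟨hPD, fun a b ha hb he => hab ⟨a, b, ha, hb, he⟩⟩
  by_cases htwo : h.Two n.Edge f (h.pt d)
  · obtain ⟨l, e, hl, he, hpe⟩ := htwo
    have hef : e ≠ f := fun e' => hPD (by rw [← hpe, e'])
    by_cases hed : e = d
    · exact Or.inr (Or.inr ⟨l, hl, hed ▸ he, hed ▸ hef⟩)
    exfalso
    refine h8 e d hpe hed X hX8 (fun g hg => n.path_fix ff hl he hef (hS g (hX g hg).1).1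
      (by rw [hpe, ← h.pt_smul, (hX g hg).2])) (fun g hg => (hX g hg).2) ?_
    rw [eq_bot_iff]
    intro g hg
    exact n.disj_one (n.symm _ _ hd) (hpe ▸ hg.2) (hS g (hX g hg.1).1).2.1
  -- the remaining case is impossible
  exfalso
  let Y : Subgroup G := stabilizer G f ⊓ stabilizer G (h.pt d)
  let W : Subgroup G := h.ker (h.pt f) ⊓ stabilizer G (h.pt d)
  have hXY : X ≤ Y := fun g hg =>
    ⟨(hS g (hX g hg).1).1, show g • h.pt d = h.pt d by rw [← h.pt_smul, (hX g hg).2]⟩
  have hWY : W ≤ Y := fun g hg => ⟨(Heptad.mem_ker_iff.1 hg.1).2 f rfl, hg.2⟩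
  have hW4 : Nat.card W = 4 := ff.ker_card _ _ hfarD
  haveI : Fact (Nat.Prime 2) := ⟨Nat.prime_two⟩
  have hnorm : X ≤ normalizer (W : Set G) := by
    intro g hg
    have key : ∀ g ∈ X, ∀ r ∈ W, g * r * g⁻¹ ∈ W := fun g hg r hr => by
      obtain ⟨hgS, hgd⟩ := hX g hg
      refine ⟨Heptad.conj_mem_ker' (hS g hgS).2.2.2 hr.1, ?_⟩
      show (g * r * g⁻¹) • h.pt d = h.pt d
      have hgD : g • h.pt d = h.pt d := by rw [← h.pt_smul, hgd]
      rw [mul_smul, mul_smul, inv_smul_eq_iff.2 hgD.symm,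
        (show r • h.pt d = h.pt d from hr.2), hgD]
    refine mem_normalizer_iff.2 fun r => ⟨key g hg r, fun hr => ?_⟩
    simpa [mul_assoc] using key g⁻¹ (X.inv_mem hg) _ hr
  have hp : IsPGroup 2 (X ⊔ W : Subgroup G) :=
    IsPGroup.to_sup_of_normal_right' (IsPGroup.of_card (n := 3) (by rw [hX8]; norm_num))
      (IsPGroup.of_card (n := 2) (by rw [hW4]; norm_num)) hnorm
  obtain ⟨m, hm⟩ := IsPGroup.iff_card.1 hp
  have hdvd : 2 ^ m ∣ 72 := by
    rw [← hm, ← ff.stab_off f (h.pt d) hfarD htwo]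
    exact Subgroup.card_dvd_of_le (sup_le hXY hWY)
  have hm3 : m ≤ 3 := by
    by_contra hcon
    have := (Nat.pow_dvd_pow 2 (show 4 ≤ m by omega)).trans hdvd
    norm_num at this
  have hWX : W ≤ X := le_sup_right.trans (Subgroup.eq_of_le_of_card_ge le_sup_left (by
    rw [hm, hX8]
    exact (Nat.pow_le_pow_right (by norm_num) hm3).trans (by norm_num))).ge
  let V : Subgroup G := h.ker (h.pt f) ⊓ stabilizer G (h.pt c)
  have hWV : W = V := Subgroup.eq_of_le_of_card_ge
    (fun g hg => ⟨hg.1, (hS g (hX g (hWX hg)).1).2.1⟩)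
    (by rw [hW4, show Nat.card V = 4 from ff.ker_card _ _ hfar])
  obtain ⟨u, hu, hu1⟩ : ∃ u ∈ V, u ≠ 1 := by
    by_contra hcon
    push Not at hcon
    have : V = ⊥ := (eq_bot_iff_forall _).2 hcon
    rw [this] at hWV
    rw [hWV, Subgroup.card_bot] at hW4
    omega
  have hVfix : ∀ r ∈ V, ∀ e ∈ O, r • e = e := by
    intro r hr e he
    rw [← horb] at he
    obtain ⟨g, rfl⟩ := he
    have hgi := S.inv_mem g.2
    have hr' : (g : G)⁻¹ * r * g ∈ V := by
      refine ⟨?_, ?_⟩
      · have := Heptad.conj_mem_ker' (hS _ hgi).2.2.2 hr.1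
        rwa [inv_inv] at this
      · show _ • h.pt c = h.pt c
        rw [mul_smul, mul_smul, (hS _ g.2).2.1, (show r • h.pt c = h.pt c from hr.2),
          (hS _ hgi).2.1]
    have h' := (hX _ (hWX (hWV ▸ hr' : _ ∈ W))).2
    rwa [mul_smul, mul_smul, inv_smul_eq_iff] at h'
  have huc : u • c = c := ff.ker_fix c (h.pt f) (n.far_symm hfar) hQP hu
  let C : Subgroup G := h.ker (h.pt c) ⊓ centralizer {u}
  have hC : h.ker (h.pt c) ≤ centralizer {u} := by
    have hto : ∀ e : O, ∃ r ∈ C, r • d = (e : h.Flag) := fun e => by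
      obtain ⟨r, hr, hre⟩ := n.torsor c d e hd e.2.1
      refine ⟨r, ⟨hr, ?_⟩, hre⟩
      have h' := n.disj_one hd
        (mul_mem (inv_mem hr) (Heptad.conj_mem_ker' (g := u) (by rw [← h.pt_smul, huc]) hr)) (by
          rw [← h.pt_smul]
          congr 1
          rw [mul_smul, mul_smul, mul_smul, inv_smul_eq_iff.2 (hVfix u hu d ⟨hd, hfd⟩).symm, hre,
            hVfix u hu e e.2, inv_smul_eq_iff, hre])
      rw [inv_mul_eq_one, eq_mul_inv_iff_mul_eq] at h'
      refine mem_centralizer_iff.2 ?_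
      rintro _ rfl
      exact h'.symm
    choose R hR using hto
    have h12 : 12 ≤ Nat.card C := by
      rw [← hO]
      exact Nat.card_le_card_of_injective (fun e => (⟨R e, (hR e).1⟩ : C)) fun a b e =>
        Subtype.ext (by rw [← (hR a).2, ← (hR b).2, show R a = R b from congrArg Subtype.val e])
    obtain ⟨t, ht⟩ : Nat.card C ∣ 16 := hker (h.pt c) ▸ Subgroup.card_dvd_of_le inf_le_left
    have ht1 : t = 1 := by
      have : t ≠ 0 := by rintro rfl; simp at ht
      by_contra hne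
      have : 12 * 2 ≤ Nat.card C * t := Nat.mul_le_mul h12 (by omega)
      omega
    have := Subgroup.eq_of_le_of_card_ge (inf_le_left : C ≤ h.ker (h.pt c))
      (by rw [hker, ht, ht1, mul_one])
    exact this ▸ inf_le_right
  obtain ⟨r, hr, hrk⟩ := n.torsor c d k hd (n.symm _ _ h2)
  have huk : u • k = k := by
    rw [← hrk, ← mul_smul, (mem_centralizer_iff.1 (hC hr) u rfl), mul_smul,
      hVfix u hu d ⟨hd, hfd⟩]
  exact hu1 (n.disj_one h1 hu.1 (by rw [← h.pt_smul, huk]))

end Near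

end CfsgLib.M23Nse
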