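import Mathlib

/-!
# Representatives and search plans for the classes of the Mathieu group of degree 23

Generated data: packed permutations, orbit plans with code words.
-/

set_option autoImplicit false

namespace CfsgLib.M23Nse

/-- an element of order 2 -/
def el2 : ℕ := 967903976387209248756639995823983617

/-- its search plan -/
def plan2 : List (ℕ × ℕ × List ℕ) :=
  [(23, 1, []),
    (5, 1, []),
    (8, 1, []),
    (4, 2, []),
    (15, 1, []),
    (0, 2, [8421811]),
    (16, 1, []),
    (13, 2, []),
    (14, 1, [352547]),
    (6, 2, [84464]),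
    (17, 1, [190626]),
    (19, 1, [582081]),
    (10, 2, [15777]),
    (20, 2, [1100945, 2150610]),
    (9, 2, [18147, 4202192]),
    (2, 2, [5279, 36294])]

/-- an element of order 3 -/
def el3 : ℕ := 980112368903374853463790553808306595

/-- its search plan -/
def plan3 : List (ℕ × ℕ × List ℕ) :=
  [(23, 1, []),
    (6, 1, []),
    (12, 1, []),
    (5, 3, []),
    (10, 3, [13108704]),
    (9, 3, [168928]),
    (0, 3, [530245, 4229001]),
    (18, 1, [262637]),
    (4, 3, [21116, 39257]),
    (20, 1, [1050548]),
    (16, 1, [72588]),
    (1, 3, [5279, 10558, 2101096])]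

/-- an element of order 4 -/
def el4 : ℕ := 955554312514567770564502983432287945

/-- its search plan -/
def plan4 : List (ℕ × ℕ × List ℕ) :=
  [(23, 1, []),
    (14, 2, []),
    (8, 1, []),
    (4, 4, [12075408]),
    (0, 4, [7340691]),
    (16, 2, [737427]),
    (5, 1, [2245426]),
    (15, 1, [1164162]),
    (2, 4, [57883, 140167, 352547]),
    (6, 4, [5279, 10558, 18147, 69395])]

/-- an element of order 5 -/
def el5 : ℕ := 973679381215751260349360187508132160

/-- its search plan -/
def plan5 : List (ℕ × ℕ × List ℕ) :=
  [(23, 1, []),
    (0, 1, []),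
    (4, 5, []),
    (19, 1, [9240913]),
    (2, 1, []),
    (1, 5, [9471495]),
    (7, 5, [99029, 140167, 304405, 582081, 4220306]),
    (3, 5, [5279, 10558, 18147, 36294, 2101096])]

/-- an element of order 6 -/
def el6 : ℕ := 971086373165625822805223176955051572

/-- its search plan -/
def plan6 : List (ℕ × ℕ × List ℕ) :=
  [(23, 1, []),
    (5, 2, []),
    (8, 1, []),
    (3, 6, [2435240]),
    (0, 3, [1122713]),
    (10, 3, [15777, 4523185, 8654232]),
    (1, 6, [5279, 36294, 198058, 262637, 593097]),
    (9, 2, [18147, 69395])]

/-- an element of order 7 -/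
def el7 : ℕ := 959893598105083144095427371987456426

/-- its search plan -/
def plan7 : List (ℕ × ℕ × List ℕ) :=
  [(23, 1, []),
    (1, 7, [12871690]),
    (2, 7, [1009728, 1378634, 4409606]),
    (7, 1, [90318]),
    (0, 7, [15777, 18147, 36294, 138790, 262637, 2101096]),
    (4, 1, [5279])]

/-- its inverse -/
def el7' : ℕ := 970151072845924722537514753430602309

/-- an element of order 8 -/
def el8 : ℕ := 970408763490831440648263720797655434

/-- its search plan -/
def plan8 : List (ℕ × ℕ × List ℕ) :=
  [(23, 1, []),
    (8, 1, []),
    (5, 2, []),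
    (14, 4, [9158944]),
    (2, 8, [180636, 843820, 3227948]),
    (0, 8, [5279, 10558, 18147, 36294, 69395, 262637, 1050548, 4196943])]

/-- an element of order 11 -/
def el11 : ℕ := 971739674008635447657579147772496170

/-- its search plan -/
def plan11 : List (ℕ × ℕ × List ℕ) :=
  [(23, 1, []),
    (2, 1, []),
    (0, 11, [3689957]),
    (1, 11, [5279, 10558, 18147, 36294, 69395, 133817, 262637, 525274, 1050548, 4196943, 8391797])]

/-- its inverse -/
def el11' : ℕ := 959535015130099152407756305122757192

/-- an element of order 14 -/
def el14 : ℕ := 959751756038181917741575429382251861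

/-- its search plan -/
def plan14 : List (ℕ × ℕ × List ℕ) :=
  [(23, 1, []),
    (5, 2, []),
    (0, 14, [138790, 530245, 1053483, 2101096, 4196943]),
    (4, 7, [5279, 10558, 18147, 36294, 69395, 262637, 8391797])]

/-- its inverse -/
def el14' : ℕ := 981368647437181404525878165781557353

/-- an element of order 15 -/
def el15 : ℕ := 968387068625573685500668737331111025

/-- its search plan -/
def plan15 : List (ℕ × ℕ × List ℕ) :=
  [(23, 1, []),
    (6, 5, []),
    (0, 15, [10558, 21116, 39257, 72588, 133817, 262637, 1053483, 2110153, 8394986]),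
    (10, 3, [5279, 525274, 4196943])]

/-- its inverse -/
def el15' : ℕ := 980378577419953219617517041406227637

/-- an element of order 23 -/
def el23 : ℕ := 975769078780895666195814359050012071

/-- its search plan -/
def plan23 : List (ℕ × ℕ × List ℕ) :=
  [(23, 1, []),
    (0, 23, [5279, 10558, 18147, 36294, 69395, 133817, 262637, 525274, 1050548, 2101096, 4196943, 8391797])]

/-- its inverse -/
def el23' : ℕ := 983348564019383024119937461040663656

end CfsgLib.M23Nse
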