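import Cfsg.Agent.Lib.M23Nse.Defs
import Cfsg.Agent.Lib.M23Nse.TargetData
import Cfsg.Agent.Lib.Spor.CentralizerCert

/-!
# The numbers of elements of each order in the Mathieu group of degree 23

Seventeen pairwise non-conjugate elements with upper bounds on their centralisers whose classes
fill the group.
-/

set_option autoImplicit false
set_option maxRecDepth 100000

namespace CfsgLib.M23Nse

open Cfsg CfsgLib.Spor CfsgLib.MathieuOut
open scoped Pointwise

universe u

/-- representatives with upper bounds on their centralisers fill the group -/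
theorem cnt_eq_sum {G : Type u} [Group G] [Finite G] {ι : Type} [Fintype ι] (r : ι → G)
    (c : ι → ℕ) (hle : ∀ i, Nat.card (Subgroup.centralizer ({r i} : Set G)) ≤ c i)
    (hsum : ∑ i, Nat.card G / c i = Nat.card G) (hne : ∀ i j, IsConj (r i) (r j) → i = j)
    (n : ℕ) : cnt G n = ∑ i, if orderOf (r i) = n then Nat.card G / c i else 0 := by
  classical
  let T : ι → Type u := fun i => {x : G // IsConj (r i) x}
  have hT : ∀ i, Nat.card G / c i ≤ Nat.card (T i) := fun i => by
    have hcls : Nat.card (T i) = Nat.card (MulAction.orbit (ConjAct G) (r i)) :=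
      Nat.card_congr (Equiv.subtypeEquivRight fun x => by
        rw [ConjAct.mem_orbit_conjAct, isConj_comm])
    have h1 := Nat.card_congr (MulAction.orbitProdStabilizerEquivGroup (ConjAct G) (r i))
    have hst : Nat.card (MulAction.stabilizer (ConjAct G) (r i)) ≤ c i := by
      refine le_trans (le_of_eq ?_) (hle i)
      exact (Nat.card_congr (Equiv.subtypeEquiv ConjAct.toConjAct.toEquiv fun g => by
        rw [Subgroup.mem_centralizer_singleton_iff, MulAction.mem_stabilizer_iff]
        show _ ↔ g * r i * g⁻¹ = r i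
        rw [mul_inv_eq_iff_eq_mul])).symm
    have hG : Nat.card (ConjAct G) = Nat.card G := Nat.card_congr ConjAct.ofConjAct.toEquiv
    rw [Nat.card_prod, hG, ← hcls] at h1
    rcases Nat.eq_zero_or_pos (c i) with h0 | h0
    · simp [h0]
    calc Nat.card G / c i ≤ Nat.card (T i) * c i / c i :=
          Nat.div_le_div_right (h1 ▸ Nat.mul_le_mul_left _ hst)
      _ = Nat.card (T i) := Nat.mul_div_cancel _ h0
  let f : (Σ i, T i) → G := fun p => p.2.1
  have hf : Function.Injective f := by
    rintro ⟨i, x, hx⟩ ⟨j, y, hy⟩ (rfl : x = y)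
    obtain rfl := hne i j (hx.trans hy.symm)
    rfl
  have hle' : ∑ i, Nat.card (T i) ≤ Nat.card G := by
    rw [← Nat.card_sigma]
    exact Nat.card_le_card_of_injective f hf
  have heq : ∀ i, Nat.card (T i) = Nat.card G / c i := by
    have h := le_antisymm (hsum.symm ▸ hle') (Finset.sum_le_sum fun i _ => hT i)
    intro i
    exact (((Finset.sum_eq_sum_iff_of_le fun i _ => hT i).1 h.symm) i (Finset.mem_univ i)).symm
  have hsurj : Function.Surjective f := by
    refine ((Nat.bijective_iff_injective_and_card f).2 ⟨hf, ?_⟩).2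
    rw [Nat.card_sigma]
    simp only [heq, hsum]
  let e := Equiv.ofBijective f ⟨hf, hsurj⟩
  calc cnt G n = Nat.card {p : Σ i, T i // orderOf (r p.1) = n} :=
        (Nat.card_congr (e.subtypeEquiv fun p => by
          obtain ⟨g, hg⟩ := isConj_iff.1 p.2.2
          show _ ↔ orderOf p.2.1 = n
          rw [← hg, ← MulAut.conj_apply, MulEquiv.orderOf_eq])).symm
    _ = Nat.card (Σ i : {i // orderOf (r i) = n}, T i.1) :=
        Nat.card_congr (Equiv.subtypeSigmaEquiv T fun i => orderOf (r i) = n)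
    _ = _ := by
        rw [Nat.card_sigma]
        simp only [heq]
        rw [← Finset.sum_filter]
        exact (Finset.sum_subtype _ (fun i => by simp) fun i => Nat.card G / c i).symm

/-- the stabiliser in `M24` of the last point -/
theorem stab_prev : (([23] : List ℕ).all fun b => Nat.blt b 24) = true := by decide

/-- an element, its exact order, and a search bound on its centraliser -/
def eltOK (a n m : ℕ) (plan : List (ℕ × ℕ × List ℕ)) (pre : List ℕ) : Bool :=
  inStabP [] [23] a && eqP (CfsgLib.MathieuOut.powP a n) CfsgLib.MathieuOut.idP &&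
    (List.range n).all (fun k => Nat.beq k 0 ||
      !eqP (CfsgLib.MathieuOut.powP a k) CfsgLib.MathieuOut.idP) &&
    planOK a plan [] && Nat.ble (dfs [] (23 :: pre) a a plan []).length m &&
    (pre.all fun b => Nat.blt b 24)

theorem exists_elt {a n m : ℕ} {plan : List (ℕ × ℕ × List ℕ)} {pre : List ℕ}
    (hn : 0 < n) (h : eltOK a n m plan pre = true) :
    ∃ A : ↥Spor.M23, Rep (A : Equiv.Perm GolayPt) a ∧ orderOf A = n := by
  simp only [eltOK, Bool.and_eq_true, List.all_eq_true, List.mem_range, Bool.or_eq_true,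
    Bool.not_eq_true', Nat.beq_eq] at h
  obtain ⟨⟨⟨⟨⟨ha, hp⟩, hk⟩, -⟩, -⟩, -⟩ := h
  obtain ⟨σ, hσ, hσa⟩ := exists_stab_rep stab_prev ha
  rw [stabG_M23] at hσ
  refine ⟨⟨σ, hσ⟩, hσa, (orderOf_eq_iff hn).2 ⟨Subtype.ext ?_, fun k hkn hk0 e => ?_⟩⟩
  · simpa using (eqP_iff (rep_pow hσa n) rep_idP).1 hp
  · rcases hk k hkn with h0 | h0
    · omega
    · rw [(eqP_iff (rep_pow hσa k) rep_idP).2 (congrArg Subtype.val e)] at h0
      exact absurd h0 (by decide)

/-- the elements commuting with `A` that fix the points of `pre` -/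
theorem card_fix_le {a n m : ℕ} {plan : List (ℕ × ℕ × List ℕ)} {pre : List ℕ}
    (h : eltOK a n m plan pre = true) (A : ↥Spor.M23) (hA : Rep (A : Equiv.Perm GolayPt) a) :
    Nat.card {g : ↥Spor.M23 // g * A = A * g ∧
      ∀ b ∈ pre, (g : Equiv.Perm GolayPt) (pt b) = pt b} ≤ m := by
  simp only [eltOK, Bool.and_eq_true, Nat.ble_eq] at h
  obtain ⟨⟨⟨-, hplan⟩, hlen⟩, hpre⟩ := h
  have hprev : ∀ b ∈ 23 :: pre, b < 24 := by
    intro b hb
    rcases List.mem_cons.1 hb with rfl | hb
    · norm_num
    · simpa [Nat.blt_eq] using List.all_eq_true.1 hpre b hb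
  have hmem : ∀ g : {g : ↥Spor.M23 // g * A = A * g ∧
      ∀ b ∈ pre, (g : Equiv.Perm GolayPt) (pt b) = pt b},
      canon (g.1 : Equiv.Perm GolayPt) ∈ (dfs [] (23 :: pre) a a plan []).toFinset := by
    intro g
    have hg : (g.1 : Equiv.Perm GolayPt) ∈ stabG [] [23] := by rw [stabG_M23]; exact g.1.2
    have hg' : (g.1 : Equiv.Perm GolayPt) ∈ stabG [] (23 :: pre) :=
      ⟨hg.1, hg.2.1, fun b hb => by
        rcases List.mem_cons.1 hb with rfl | hb
        · exact hg.2.2 23 (List.mem_singleton.2 rfl)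
        · exact g.2.2 b hb⟩
    exact List.mem_toFinset.2 (canon_mem_dfs hplan hg' hprev hA hA
      (congrArg Subtype.val g.2.1))
  refine (Nat.card_le_card_of_injective
    (fun g => (⟨_, hmem g⟩ : (dfs [] (23 :: pre) a a plan []).toFinset))
    fun g g' e => Subtype.ext (Subtype.ext (canon_injective (congrArg Subtype.val e)))).trans ?_
  rw [Nat.card_eq_fintype_card, Fintype.card_coe]
  exact (List.toFinset_card_le _).trans hlen

theorem card_cent_le {a n m : ℕ} {plan : List (ℕ × ℕ × List ℕ)}
    (h : eltOK a n m plan [] = true) (A : ↥Spor.M23) (hA : Rep (A : Equiv.Perm GolayPt) a) :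
    Nat.card (Subgroup.centralizer ({A} : Set ↥Spor.M23)) ≤ m := by
  refine le_trans (le_of_eq ?_) (card_fix_le h A hA)
  exact Nat.card_congr (Equiv.subtypeEquivRight fun g => by
    simp [Subgroup.mem_centralizer_singleton_iff])

/-- with two fixed points: the pairs of images of the two points times the bound on what fixes
them -/
theorem card_cent_le_pairs {a n m : ℕ} {plan : List (ℕ × ℕ × List ℕ)} {b c : ℕ} {L : List ℕ}
    (h : eltOK a n m plan [b, c] = true)
    (hL : ((List.range 24).all fun i => !Nat.beq (getP a i) i || Nat.beq i 23 || L.contains i) = true)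
    (hb : Nat.beq (getP a b) b && Nat.beq (getP a c) c && !Nat.beq b c && Nat.blt b 23 &&
      Nat.blt c 23 = true)
    (A : ↥Spor.M23) (hA : Rep (A : Equiv.Perm GolayPt) a) :
    Nat.card (Subgroup.centralizer ({A} : Set ↥Spor.M23)) ≤ L.length * (L.length - 1) * m := by
  classical
  have := Fintype.ofFinite ↥Spor.M23
  simp only [Bool.and_eq_true, Bool.not_eq_true', Nat.beq_eq, Nat.blt_eq, decide_eq_true_eq] at hb
  obtain ⟨⟨⟨⟨hab, hac⟩, hbc⟩, hb23⟩, hc23⟩ := hb
  have hbc' : b ≠ c := fun e => by rw [e] at hbc; simp at hbc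
  let C := Finset.univ.filter fun g : ↥Spor.M23 => g * A = A * g
  let F : ↥Spor.M23 → ℕ × ℕ := fun g =>
    (idx ((g : Equiv.Perm GolayPt) (pt b)), idx ((g : Equiv.Perm GolayPt) (pt c)))
  have h23 : ∀ g : ↥Spor.M23, (g : Equiv.Perm GolayPt) (pt 23) = pt 23 := fun g => by
    have hg : (g : Equiv.Perm GolayPt) ∈ stabG [] [23] := by rw [stabG_M23]; exact g.2
    exact hg.2.2 23 (List.mem_singleton.2 rfl)
  have hfix : ∀ g ∈ C, ∀ i, i < 23 → getP a i = i →
      idx ((g : Equiv.Perm GolayPt) (pt i)) ∈ L := by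
    intro g hg i hi hai
    set j := idx ((g : Equiv.Perm GolayPt) (pt i)) with hj
    have hcomm := DFunLike.congr_fun (congrArg Subtype.val (Finset.mem_filter.1 hg).2) (pt i)
    simp only [Subgroup.coe_mul, Equiv.Perm.mul_apply] at hcomm
    have hAi : (A : Equiv.Perm GolayPt) (pt i) = pt i :=
      idx_injective (by rw [← hA i (by omega), hai, idx_pt (by omega)])
    rw [hAi] at hcomm
    have haj : getP a j = j := by
      rw [hA j (idx_lt _), hj, pt_idx, ← hcomm]
    have hj23 : j ≠ 23 := by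
      intro e
      have : pt i = pt 23 := by
        apply (g : Equiv.Perm GolayPt).injective
        rw [h23, ← e, hj, pt_idx]
      have h' := congrArg idx this
      rw [idx_pt (by omega), idx_pt (by norm_num)] at h'
      omega
    have := List.all_eq_true.1 hL j (List.mem_range.2 (idx_lt _))
    simpa [haj, hj23, List.contains_iff_mem] using this
  have himg : ∀ g ∈ C, F g ∈ L.toFinset.offDiag := by
    intro g hg
    refine Finset.mem_offDiag.2 ⟨List.mem_toFinset.2 (hfix g hg b hb23 hab),
      List.mem_toFinset.2 (hfix g hg c hc23 hac), fun e => hbc' ?_⟩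
    have h' := congrArg idx ((g : Equiv.Perm GolayPt).injective (idx_injective e))
    rwa [idx_pt (by omega), idx_pt (by omega)] at h'
  have hfib : ∀ p ∈ L.toFinset.offDiag, (C.filter fun g => F g = p).card ≤ m := by
    intro p _
    rcases Finset.eq_empty_or_nonempty (C.filter fun g => F g = p) with e | ⟨g0, hg0⟩
    · simp [e]
    refine le_trans ?_ (card_fix_le h A hA)
    rw [← Fintype.card_coe, ← Nat.card_eq_fintype_card]
    refine Nat.card_le_card_of_injective (fun g => ⟨g0⁻¹ * g.1, ?_, ?_⟩)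
      fun g g' e => Subtype.ext (mul_left_cancel (congrArg Subtype.val e))
    · have h1 := (Finset.mem_filter.1 (Finset.mem_filter.1 g.2).1).2
      have h0 := (Finset.mem_filter.1 (Finset.mem_filter.1 hg0).1).2
      exact ((Commute.inv_left h0).mul_left h1).eq
    · intro i hi
      have hF := ((Finset.mem_filter.1 g.2).2).trans (Finset.mem_filter.1 hg0).2.symm
      simp only [Subgroup.coe_mul, Subgroup.coe_inv, Equiv.Perm.mul_apply,
        Equiv.Perm.inv_eq_iff_eq]
      rcases List.mem_pair.1 hi with rfl | rfl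
      · exact idx_injective (congrArg Prod.fst hF)
      · exact idx_injective (congrArg Prod.snd hF)
  rw [show Nat.card (Subgroup.centralizer ({A} : Set ↥Spor.M23)) = C.card by
    rw [Nat.card_congr (Equiv.subtypeEquivRight (q := fun g : ↥Spor.M23 => g * A = A * g)
      fun g => Subgroup.mem_centralizer_singleton_iff), Nat.card_eq_fintype_card,
      Fintype.card_subtype]]
  rw [Finset.card_eq_sum_card_fiberwise himg]
  refine (Finset.sum_le_card_nsmul _ _ m hfib).trans ?_
  rw [smul_eq_mul, Finset.offDiag_card]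
  refine Nat.mul_le_mul_right m ?_
  rw [Nat.mul_sub, mul_one]
  have hl := List.toFinset_card_le L
  have hm : Monotone fun k : ℕ => k * k - k := by
    intro x y hxy
    simp only
    rw [← Nat.mul_sub_one, ← Nat.mul_sub_one]
    exact Nat.mul_le_mul hxy (by omega)
  exact hm hl

/-- the certificates -/
theorem elts_ok :
    (eltOK el2 2 64 plan2 [5, 8] && eltOK el3 3 9 plan3 [6, 12] && eltOK el4 4 32 plan4 [] &&
      eltOK el5 5 15 plan5 [] && eltOK el6 6 12 plan6 [] && eltOK el7 7 14 plan7 [] &&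
      eltOK el7' 7 14 plan7 [] && eltOK el8 8 8 plan8 [] && eltOK el11 11 11 plan11 [] &&
      eltOK el11' 11 11 plan11 [] && eltOK el14 14 14 plan14 [] && eltOK el14' 14 14 plan14 [] &&
      eltOK el15 15 15 plan15 [] && eltOK el15' 15 15 plan15 [] && eltOK el23 23 23 plan23 [] &&
      eltOK el23' 23 23 plan23 []) = true := by
  decide +kernel

/-- the searches for a conjugating element are empty -/
theorem nonconj_ok : (([(el7, el7', plan7), (el11, el11', plan11), (el14, el14', plan14),
    (el15, el15', plan15), (el23, el23', plan23)] : List (ℕ × ℕ × List (ℕ × ℕ × List ℕ))).all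
      fun p => planOK p.1 p.2.2 [] && (dfs [] [23] p.1 p.2.1 p.2.2 []).isEmpty) = true := by
  decide +kernel

/-- the orders of the representatives -/
def ordV : Fin 17 → ℕ := ![1, 2, 3, 4, 5, 6, 7, 7, 8, 11, 11, 14, 14, 15, 15, 23, 23]

/-- the orders of their centralisers -/
def cenV : Fin 17 → ℕ :=
  ![10200960, 2688, 180, 32, 15, 12, 14, 14, 8, 11, 11, 14, 14, 15, 15, 23, 23]

theorem same_order : ∀ i j : Fin 17, ordV i = ordV j → i = j ∨ (i, j) ∈
    ([(6, 7), (7, 6), (9, 10), (10, 9), (11, 12), (12, 11), (13, 14), (14, 13), (15, 16),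
      (16, 15)] : List (Fin 17 × Fin 17)) := by decide +kernel

set_option maxHeartbeats 800000 in
theorem exists_reps : ∃ r : Fin 17 → ↥Spor.M23, (∀ i, orderOf (r i) = ordV i) ∧
    (∀ i, Nat.card (Subgroup.centralizer ({r i} : Set ↥Spor.M23)) ≤ cenV i) ∧
    ∀ i j, IsConj (r i) (r j) → i = j := by
  have h := elts_ok
  simp only [Bool.and_eq_true] at h
  obtain ⟨⟨⟨⟨⟨⟨⟨⟨⟨⟨⟨⟨⟨⟨⟨h2, h3⟩, h4⟩, h5⟩, h6⟩, h7⟩, h7'⟩, h8⟩, h11⟩, h11'⟩, h14⟩, h14'⟩,
    h15⟩, h15'⟩, h23⟩, h23'⟩ := h
  obtain ⟨a2, r2, o2⟩ := exists_elt (by norm_num) h2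
  obtain ⟨a3, r3, o3⟩ := exists_elt (by norm_num) h3
  obtain ⟨a4, r4, o4⟩ := exists_elt (by norm_num) h4
  obtain ⟨a5, r5, o5⟩ := exists_elt (by norm_num) h5
  obtain ⟨a6, r6, o6⟩ := exists_elt (by norm_num) h6
  obtain ⟨a7, r7, o7⟩ := exists_elt (by norm_num) h7
  obtain ⟨a7', r7', o7'⟩ := exists_elt (by norm_num) h7'
  obtain ⟨a8, r8, o8⟩ := exists_elt (by norm_num) h8
  obtain ⟨a11, r11, o11⟩ := exists_elt (by norm_num) h11
  obtain ⟨a11', r11', o11'⟩ := exists_elt (by norm_num) h11'
  obtain ⟨a14, r14, o14⟩ := exists_elt (by norm_num) h14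
  obtain ⟨a14', r14', o14'⟩ := exists_elt (by norm_num) h14'
  obtain ⟨a15, r15, o15⟩ := exists_elt (by norm_num) h15
  obtain ⟨a15', r15', o15'⟩ := exists_elt (by norm_num) h15'
  obtain ⟨a23, r23, o23⟩ := exists_elt (by norm_num) h23
  obtain ⟨a23', r23', o23'⟩ := exists_elt (by norm_num) h23'
  have hn := nonconj_ok
  simp only [List.all_cons, List.all_nil, Bool.and_true, Bool.and_eq_true] at hn
  obtain ⟨⟨p7, e7⟩, ⟨p11, e11⟩, ⟨p14, e14⟩, ⟨p15, e15⟩, ⟨p23, e23⟩⟩ := hn
  have n7 := not_isConj_of_dfs_eq_nil stabG_M23 stab_prev p7 e7 a7 a7' r7 r7'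
  have n11 := not_isConj_of_dfs_eq_nil stabG_M23 stab_prev p11 e11 a11 a11' r11 r11'
  have n14 := not_isConj_of_dfs_eq_nil stabG_M23 stab_prev p14 e14 a14 a14' r14 r14'
  have n15 := not_isConj_of_dfs_eq_nil stabG_M23 stab_prev p15 e15 a15 a15' r15 r15'
  have n23 := not_isConj_of_dfs_eq_nil stabG_M23 stab_prev p23 e23 a23 a23' r23 r23'
  let r : Fin 17 → ↥Spor.M23 :=
    ![1, a2, a3, a4, a5, a6, a7, a7', a8, a11, a11', a14, a14', a15, a15', a23, a23']
  have ho : ∀ i, orderOf (r i) = ordV i := by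
    intro i
    fin_cases i
    exacts [orderOf_one, o2, o3, o4, o5, o6, o7, o7', o8, o11, o11', o14, o14', o15, o15', o23,
      o23']
  refine ⟨r, ho, ?_, ?_⟩
  · intro i
    fin_cases i
    · exact (Subgroup.card_le_card_group _).trans (le_of_eq natCard_M23)
    · exact card_cent_le_pairs (L := [5, 8, 14, 15, 16, 17, 19]) h2 (by decide +kernel)
        (by decide +kernel) a2 r2
    · exact card_cent_le_pairs (L := [6, 12, 16, 18, 20]) h3 (by decide +kernel)
        (by decide +kernel) a3 r3
    · exact card_cent_le h4 a4 r4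
    · exact card_cent_le h5 a5 r5
    · exact card_cent_le h6 a6 r6
    · exact card_cent_le h7 a7 r7
    · exact card_cent_le h7' a7' r7'
    · exact card_cent_le h8 a8 r8
    · exact card_cent_le h11 a11 r11
    · exact card_cent_le h11' a11' r11'
    · exact card_cent_le h14 a14 r14
    · exact card_cent_le h14' a14' r14'
    · exact card_cent_le h15 a15 r15
    · exact card_cent_le h15' a15' r15'
    · exact card_cent_le h23 a23 r23
    · exact card_cent_le h23' a23' r23'
  · intro i j hc
    have hij : ordV i = ordV j := by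
      obtain ⟨g, hg⟩ := isConj_iff.1 hc
      rw [← ho i, ← ho j, ← hg, ← MulAut.conj_apply, MulEquiv.orderOf_eq]
    rcases same_order i j hij with e | e
    · exact e
    · simp only [List.mem_cons, List.not_mem_nil, or_false, Prod.mk.injEq] at e
      rcases e with ⟨rfl, rfl⟩ | ⟨rfl, rfl⟩ | ⟨rfl, rfl⟩ | ⟨rfl, rfl⟩ | ⟨rfl, rfl⟩ | ⟨rfl, rfl⟩ |
        ⟨rfl, rfl⟩ | ⟨rfl, rfl⟩ | ⟨rfl, rfl⟩ | ⟨rfl, rfl⟩
      exacts [absurd hc n7, absurd hc.symm n7, absurd hc n11, absurd hc.symm n11, absurd hc n14,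
        absurd hc.symm n14, absurd hc n15, absurd hc.symm n15, absurd hc n23, absurd hc.symm n23]

/-- the numbers of elements of each order of the Mathieu group of degree 23 -/
theorem cnt_M23 (n : ℕ) : cnt (↥Spor.M23) n =
    ∑ i : Fin 17, if ordV i = n then 10200960 / cenV i else 0 := by
  obtain ⟨r, ho, hc, hne⟩ := exists_reps
  have hs : ∑ i : Fin 17, 10200960 / cenV i = 10200960 := by decide +kernel
  have h := cnt_eq_sum r cenV hc (by rw [natCard_M23]; exact hs) hne n
  simpa only [ho, natCard_M23] using h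

/-- the values are exactly the stated ones -/
theorem hyp_M23 : Hyp (↥Spor.M23) := by
  refine ⟨natCard_M23, fun n => ?_⟩
  rw [cnt_M23]
  by_cases hn : n < 24
  · revert n; decide +kernel
  · left
    refine Finset.sum_eq_zero fun i _ => if_neg fun e => hn ?_
    rw [← e]
    exact (by decide +kernel : ∀ i, ordV i < 24) i

end CfsgLib.M23Nse
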