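import Cfsg.Agent.Lib.M23Nse.Defs
import Cfsg.Agent.Lib.KnownA.SteinerUnique.AutLarge

/-!
# From the pieces to the isomorphism with `M23`
-/

set_option autoImplicit false

namespace CfsgLib.M23Nse

open Cfsg CfsgLib.SteinerUnique

universe u

/-- a group with the facts is the automorphism group of a Steiner system S(4, 7, 23) -/
theorem exists_steiner_equiv (hF : StmtFacts.{u}) (hC : StmtCounts.{u}) (hH : StmtHeptad.{u})
    (hN : StmtNear.{u}) (hR : StmtFar.{u}) (hS : StmtSteiner.{u})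
    {G : Type u} [Group G] [Finite G] (hG : Hyp G) :
    ∃ (V : Type u) (_ : Fintype V) (_ : DecidableEq V) (B : Set (Finset V)),
      Fintype.card V = 23 ∧ IsSteinerSystem 4 7 B ∧ Nonempty (G ≃* setSystemAut B) := by
  have F : Facts G := hF G (hC G hG)
  obtain ⟨h⟩ := hH G F
  obtain ⟨n⟩ := hN G F h
  obtain ⟨V, _, _, B, φ, hV, hB, hφ⟩ := hS G F h n (hR G F h n)
  refine ⟨V, _, _, B, hV, hB, ⟨MulEquiv.ofBijective φ ?_⟩⟩
  exact (Nat.bijective_iff_injective_and_card φ).2
    ⟨hφ, hG.card.trans (aut23 hV hB).1.2.symm⟩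

/-- two such groups are isomorphic -/
theorem nonempty_mulEquiv {G : Type u} [Group G] {K : Type} [Group K]
    {V : Type u} [Fintype V] [DecidableEq V] {B : Set (Finset V)}
    {W : Type} [Fintype W] [DecidableEq W] {C : Set (Finset W)}
    (hV : Fintype.card V = 23) (hB : IsSteinerSystem 4 7 B) (e : G ≃* setSystemAut B)
    (hW : Fintype.card W = 23) (hC : IsSteinerSystem 4 7 C) (f : K ≃* setSystemAut C) :
    Nonempty (G ≃* K) := by
  obtain ⟨-, Φ, -⟩ :=
    exists_autEquiv ((labelled23 hV hB).iso (by norm_num) (labelled23 hW hC))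
  exact ⟨(e.trans Φ).trans f.symm⟩

/-- the hypothesis carries over between groups with the same order and the same values -/
theorem hyp_of_nse {G : Type u} [Group G] {K : Type} [Group K] (hK : Hyp K)
    (hcard : Nat.card G = Nat.card K)
    (hnse : {c : ℕ | 0 < c ∧ ∃ n : ℕ, c = Nat.card {g : G // orderOf g = n}} =
      {c : ℕ | 0 < c ∧ ∃ n : ℕ, c = Nat.card {g : K // orderOf g = n}}) : Hyp G := by
  refine ⟨hcard.trans hK.card, fun n => ?_⟩
  rcases Nat.eq_zero_or_pos (cnt G n) with h0 | h0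
  · exact Or.inl h0
  · have hmem : cnt G n ∈ {c : ℕ | 0 < c ∧ ∃ m : ℕ, c = Nat.card {g : K // orderOf g = m}} := by
      rw [← hnse]; exact ⟨h0, n, rfl⟩
    obtain ⟨hpos, m, hm⟩ := hmem
    rcases hK.mem m with h | h
    · exact absurd (hm.trans h) h0.ne'
    · exact Or.inr (hm ▸ h)

end CfsgLib.M23Nse
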